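import Mathlib.GroupTheory.Index
import Mathlib.GroupTheory.Subgroup.Centralizer
import Mathlib.GroupTheory.Commutator.Basic
import Mathlib.Tactic

/-!
# EThree: minimal offenders (helper495 #17663 (b), helper863 #17343 (2))

* `Offd N A` : `A ≤ N(N)` moves `N` and `|N : C_N(A)| ≤ |A : C_A(N)|`;
* `MinOff N A` : moreover `|A : C_A(N)|` is minimal among the offenders inside `A`; `Offd.exists_min`;
* `MinOff.split` : if `V ≤ N`, `A` moves `V` and `|A : C_A(V)| ≤ |V : C_V(A)|`, then `C_A(V) = C_A(N)`,
  `N = V C_N(A)`, `|A : C_A(N)| = |V : C_V(A)| = |N : C_N(A)|` and `[N, A] = [V, A]`;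
-/

set_option autoImplicit false
set_option linter.unusedSectionVars false

namespace Cfsg.Agent.Omega.NO3S.EThree

open Subgroup
open scoped commutatorElement

universe u

variable {G : Type u} [Group G]

/-- `A` offends `N`. -/
structure Offd (N A : Subgroup G) : Prop where
  norm : A ≤ normalizer (N : Set G)
  mov : ¬ A ≤ centralizer (N : Set G)
  le : (centralizer (A : Set G)).relIndex N ≤ (centralizer (N : Set G)).relIndex A

/-- `A` is a minimal offender on `N`. -/
structure MinOff (N A : Subgroup G) : Prop extends Offd N A where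
  min : ∀ B : Subgroup G, B ≤ A → Offd N B →
    (centralizer (N : Set G)).relIndex A ≤ (centralizer (N : Set G)).relIndex B

variable [Finite G]

/-- Every offender contains a minimal one. -/
theorem Offd.exists_min {N A : Subgroup G} (h : Offd N A) : ∃ B : Subgroup G, B ≤ A ∧ MinOff N B := by
  let s : Set ℕ := {n | ∃ B : Subgroup G, B ≤ A ∧ Offd N B ∧ (centralizer (N : Set G)).relIndex B = n}
  have hs : s.Nonempty := ⟨_, A, le_rfl, h, rfl⟩
  obtain ⟨B, hBA, hB, hn⟩ := Nat.sInf_mem hs
  refine ⟨B, hBA, ⟨hB, fun D hDB hD => ?_⟩⟩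
  rw [hn]
  exact Nat.sInf_le ⟨D, hDB.trans hBA, hD, rfl⟩

/-- Minimality among all offenders inside `T`. -/
theorem exists_minOff_le {N T A : Subgroup G} (hA : A ≤ T) (h : Offd N A) :
    ∃ B : Subgroup G, B ≤ T ∧ MinOff N B ∧ ∀ D : Subgroup G, D ≤ T → Offd N D →
      (centralizer (N : Set G)).relIndex B ≤ (centralizer (N : Set G)).relIndex D := by
  let s : Set ℕ := {n | ∃ B : Subgroup G, B ≤ T ∧ Offd N B ∧ (centralizer (N : Set G)).relIndex B = n}
  have hs : s.Nonempty := ⟨_, A, hA, h, rfl⟩
  obtain ⟨B, hBA, hB, hn⟩ := Nat.sInf_mem hs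
  refine ⟨B, hBA, ⟨hB, fun D hDB hD => ?_⟩, fun D hDT hD => ?_⟩
  · rw [hn]
    exact Nat.sInf_le ⟨D, hDB.trans hBA, hD, rfl⟩
  · rw [hn]
    exact Nat.sInf_le ⟨D, hDT, hD, rfl⟩

section split

variable {N V A : Subgroup G}

/-- `|V : C_V(A)| |N : C_N(B)| ≤ |N : C_N(A)|` for `V ≤ N` centralised by `B ≤ A`. -/
theorem mul_relIndex_le {B : Subgroup G} (hVN : V ≤ N) (hBA : B ≤ A) (hBV : B ≤ centralizer (V : Set G)) :
    (centralizer (A : Set G)).relIndex V * (centralizer (B : Set G)).relIndex N ≤
      (centralizer (A : Set G)).relIndex N := by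
  set CA := centralizer (A : Set G) ⊓ N with hCA
  set CB := centralizer (B : Set G) ⊓ N with hCB
  have h1 : CA ≤ CB := inf_le_inf_right _ (centralizer_le hBA)
  have h2 : CA.relIndex CB * CB.relIndex N = CA.relIndex N := relIndex_mul_relIndex CA CB N h1 inf_le_right
  have h3 : CA.relIndex N = (centralizer (A : Set G)).relIndex N := inf_relIndex_right _ _
  have h4 : CB.relIndex N = (centralizer (B : Set G)).relIndex N := inf_relIndex_right _ _
  have hVB : V ≤ CB := le_inf (fun v hv => mem_centralizer_iff.2 fun b hb =>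
    (mem_centralizer_iff.1 (hBV hb) v hv).symm) hVN
  have h5 : CA.relIndex V ≤ CA.relIndex CB := relIndex_le_of_le_right hVB index_ne_zero_of_finite
  have h6 : CA.relIndex V = (centralizer (A : Set G)).relIndex V := by
    rw [← inf_relIndex_right CA, ← inf_relIndex_right (centralizer (A : Set G)), hCA, inf_assoc,
      inf_eq_right.2 hVN]
  rw [← h3, ← h2, ← h4, ← h6]
  exact Nat.mul_le_mul_right _ h5

/-- `|A : C_A(N)| = |A : C_A(V)| |C_A(V) : C_A(N)|` -/
theorem relIndex_eq_mul (hVN : V ≤ N) :
    (centralizer (N : Set G)).relIndex A =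
      (centralizer (N : Set G)).relIndex (A ⊓ centralizer (V : Set G)) * (centralizer (V : Set G)).relIndex A := by
  have h1 : centralizer (N : Set G) ⊓ A ≤ A ⊓ centralizer (V : Set G) :=
    le_inf inf_le_right (inf_le_left.trans (centralizer_le hVN))
  have h2 := relIndex_mul_relIndex (centralizer (N : Set G) ⊓ A) (A ⊓ centralizer (V : Set G)) A h1 inf_le_left
  rw [inf_relIndex_right, inf_relIndex_left] at h2
  rw [← h2]
  congr 1
  rw [← inf_relIndex_right (centralizer (N : Set G) ⊓ A), ← inf_relIndex_right (centralizer (N : Set G))]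
  congr 1
  apply le_antisymm
  · exact le_inf (inf_le_left.trans inf_le_left) inf_le_right
  · exact le_inf (le_inf inf_le_left (inf_le_right.trans inf_le_left)) inf_le_right

variable (h : MinOff N A) (hVN : V ≤ N) (hmov : ¬ A ≤ centralizer (V : Set G))
  (hle : (centralizer (V : Set G)).relIndex A ≤ (centralizer (A : Set G)).relIndex V)
include h hVN hmov hle

/-- `C_A(V) = C_A(N)` -/
theorem MinOff.inf_le : A ⊓ centralizer (V : Set G) ≤ centralizer (N : Set G) := by
  by_contra hB
  set B := A ⊓ centralizer (V : Set G) with hBd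
  have h1 := mul_relIndex_le (N := N) (V := V) (A := A) (B := B) hVN inf_le_left inf_le_right
  have h2 := relIndex_eq_mul (N := N) (V := V) (A := A) hVN
  rw [← hBd] at h2
  have hV0 : 0 < (centralizer (A : Set G)).relIndex V := Nat.pos_of_ne_zero index_ne_zero_of_finite
  have hB0 : 0 < (centralizer (N : Set G)).relIndex B := Nat.pos_of_ne_zero index_ne_zero_of_finite
  have h3 : (centralizer (B : Set G)).relIndex N ≤ (centralizer (N : Set G)).relIndex B := by
    have h4 : (centralizer (A : Set G)).relIndex V * (centralizer (B : Set G)).relIndex N ≤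
        (centralizer (A : Set G)).relIndex V * (centralizer (N : Set G)).relIndex B := by
      refine h1.trans (h.le.trans ?_)
      rw [h2, mul_comm]
      exact Nat.mul_le_mul_right _ hle
    exact Nat.le_of_mul_le_mul_left h4 hV0
  have h5 := h.min B inf_le_left ⟨inf_le_left.trans h.norm, hB, h3⟩
  rw [h2] at h5
  have h6 : 2 ≤ (centralizer (V : Set G)).relIndex A := by
    have h7 : (centralizer (V : Set G)).relIndex A ≠ 1 := fun e => hmov (relIndex_eq_one.1 e)
    have h8 : (centralizer (V : Set G)).relIndex A ≠ 0 := index_ne_zero_of_finite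
    omega
  have h9 := Nat.mul_le_mul_left ((centralizer (N : Set G)).relIndex B) h6
  omega

/-- the three indices -/
theorem MinOff.relIndex_eq : (centralizer (N : Set G)).relIndex A = (centralizer (A : Set G)).relIndex V ∧
    (centralizer (A : Set G)).relIndex N = (centralizer (A : Set G)).relIndex V ∧
    (centralizer (V : Set G)).relIndex A = (centralizer (A : Set G)).relIndex V := by
  have hB := h.inf_le hVN hmov hle
  have h2 := relIndex_eq_mul (N := N) (V := V) (A := A) hVN
  have h3 : (centralizer (N : Set G)).relIndex (A ⊓ centralizer (V : Set G)) = 1 := relIndex_eq_one.2 hB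
  rw [h3, one_mul] at h2
  have h4 : (centralizer (A : Set G)).relIndex V ≤ (centralizer (A : Set G)).relIndex N :=
    relIndex_le_of_le_right hVN index_ne_zero_of_finite
  have h5 := h.le
  omega

/-- `N = V C_N(A)` -/
theorem MinOff.le_sup : N ≤ V ⊔ (N ⊓ centralizer (A : Set G)) := by
  obtain ⟨-, h2, -⟩ := h.relIndex_eq hVN hmov hle
  set D := N ⊓ centralizer (A : Set G) with hD
  have hDN : D ≤ N := inf_le_left
  have h3 : D.relIndex N = (centralizer (A : Set G)).relIndex N := inf_relIndex_left _ _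
  have h4 : (centralizer (A : Set G)).relIndex V ≤ D.relIndex (V ⊔ D) := by
    have e : (centralizer (A : Set G)).relIndex V = D.relIndex V := by
      rw [← inf_relIndex_right D, ← inf_relIndex_right (centralizer (A : Set G)), hD, inf_comm N, inf_assoc,
        inf_eq_right.2 hVN]
    rw [e]
    exact relIndex_le_of_le_right le_sup_left index_ne_zero_of_finite
  have h5 := relIndex_mul_relIndex D (V ⊔ D) N le_sup_right (sup_le hVN hDN)
  rw [h3, h2] at h5
  have h6 : 0 < (centralizer (A : Set G)).relIndex V := Nat.pos_of_ne_zero index_ne_zero_of_finite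
  have h7 : (V ⊔ D).relIndex N ≤ 1 := by
    have h8 : (centralizer (A : Set G)).relIndex V * (V ⊔ D).relIndex N ≤
        (centralizer (A : Set G)).relIndex V * 1 := by
      rw [mul_one, ← h5]
      exact Nat.mul_le_mul_right _ (by rw [h5]; exact h4)
    exact Nat.le_of_mul_le_mul_left h8 h6
  have h9 : (V ⊔ D).relIndex N ≠ 0 := index_ne_zero_of_finite
  exact relIndex_eq_one.1 (by omega)

/-- every element of `N` is `v c`, `v ∈ V`, `c ∈ C_N(A)` -/
theorem MinOff.exists_mul (hN : N ≤ centralizer (N : Set G)) {n : G} (hn : n ∈ N) :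
    ∃ v ∈ V, ∃ c ∈ N, c ∈ centralizer (A : Set G) ∧ v * c = n := by
  have hVn : V ≤ normalizer ((N ⊓ centralizer (A : Set G) : Subgroup G) : Set G) :=
    (hVN.trans (hN.trans (centralizer_le inf_le_left))).trans (centralizer_le_normalizer _)
  have h1 : n ∈ ((V ⊔ (N ⊓ centralizer (A : Set G)) : Subgroup G) : Set G) := h.le_sup hVN hmov hle hn
  rw [coe_mul_of_left_le_normalizer_right V _ hVn] at h1
  obtain ⟨v, hv, c, hc, e⟩ := Set.mem_mul.mp h1
  exact ⟨v, hv, c, hc.1, hc.2, e⟩

/-- `[N, A] = [V, A]` -/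
theorem MinOff.commutator_eq (hN : N ≤ centralizer (N : Set G)) : ⁅N, A⁆ = ⁅V, A⁆ := by
  apply le_antisymm _ (commutator_mono hVN le_rfl)
  rw [commutator_le]
  intro n hn a ha
  obtain ⟨v, hv, c, hc, hcA, rfl⟩ := h.exists_mul hVN hmov hle hN hn
  have h1 : ⁅v * c, a⁆ = ⁅v, a⁆ := by
    have h2 := mem_centralizer_iff.1 hcA a ha
    rw [commutatorElement_def, commutatorElement_def]
    calc v * c * a * (v * c)⁻¹ * a⁻¹ = v * (c * a) * c⁻¹ * v⁻¹ * a⁻¹ := by group
      _ = v * (a * c) * c⁻¹ * v⁻¹ * a⁻¹ := by rw [h2]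
      _ = v * a * v⁻¹ * a⁻¹ := by group
  rw [h1]
  exact commutator_mem_commutator hv ha

end split

end Cfsg.Agent.Omega.NO3S.EThree
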