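import Mathlib.GroupTheory.Coset.Card
import Mathlib.GroupTheory.QuotientGroup.Basic
import Mathlib.Algebra.Group.Subgroup.Finite
import Mathlib.SetTheory.Cardinal.Finite
import Mathlib.Algebra.Group.Hom.Basic
import Mathlib.Algebra.Group.Subgroup.Lattice
import Mathlib.Tactic.Abel

/-!
# `|T_p| > |p|` is impossible if there is a line of pairwise perpendicular points

`L` finite abelian, points `p ∈ PP` (t.i. subgroups), `T p` an additive group of endomorphisms with image in `p`, zero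
on `p`; `cl`, `sur` (the evaluation `T p → p` at a nonzero vector of a neighbour is onto).  The steps (2)-(6) of
LEMMA TT (#17612) do not use the field `reg`: `Bd.symm`, `Bd.tri`, `Bd.five`, `Bd.six`.  With a line `V` (covered by
pairwise perpendicular points): `Bd.false_of_line`.
-/

set_option autoImplicit false

namespace Cfsg.Agent.Omega.NO3S.EThree.Big

variable {L : Type*} [AddCommGroup L]

/-- some `η ∈ T p` is not zero on `x` -/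
def Adj (T : AddSubgroup L → AddSubgroup (L →+ L)) (p x : AddSubgroup L) : Prop := ∃ η ∈ T p, ∃ v ∈ x, η v ≠ 0

/-- some `η ∈ T p` kills `x` and does not kill `w` -/
def Dis (T : AddSubgroup L → AddSubgroup (L →+ L)) (p x w : AddSubgroup L) : Prop :=
  ∃ η ∈ T p, (∀ v ∈ x, η v = 0) ∧ ∃ v ∈ w, η v ≠ 0

/-- `W(p; x)` -/
def W (T : AddSubgroup L → AddSubgroup (L →+ L)) (p x : AddSubgroup L) : AddSubgroup (L →+ L) where
  carrier := {η | η ∈ T p ∧ ∀ v ∈ x, η v = 0}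
  zero_mem' := ⟨zero_mem _, fun v _ => rfl⟩
  add_mem' := fun {a b} ha hb => ⟨add_mem ha.1 hb.1, fun v hv => by
    rw [AddMonoidHom.add_apply, ha.2 v hv, hb.2 v hv, add_zero]⟩
  neg_mem' := fun {a} ha => ⟨neg_mem ha.1, fun v hv => by rw [AddMonoidHom.neg_apply, ha.2 v hv, neg_zero]⟩

structure Bd (PP : Set (AddSubgroup L)) (T : AddSubgroup L → AddSubgroup (L →+ L)) : Prop where
  ne : ∀ p ∈ PP, ∃ v ∈ p, v ≠ 0
  ti : ∀ p ∈ PP, ∀ x ∈ PP, ∀ v ∈ p, v ∈ x → v ≠ 0 → p = x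
  im : ∀ p ∈ PP, ∀ η ∈ T p, ∀ v, η v ∈ p
  ker : ∀ p ∈ PP, ∀ η ∈ T p, ∀ v ∈ p, η v = 0
  one : ∀ p ∈ PP, ∀ x ∈ PP, ∀ η ∈ T p, ∀ b ∈ x, b ≠ 0 → η b = 0 → ∀ v ∈ x, η v = 0
  cl : ∀ p ∈ PP, ∀ x ∈ PP, ∀ φ ∈ T p, ∀ ψ ∈ T x, (∀ v ∈ p, ψ v = 0) → φ.comp ψ ∈ T p
  sur : ∀ p ∈ PP, ∀ x ∈ PP, Adj T p x → ∀ b ∈ x, b ≠ 0 → ∀ a ∈ p, ∃ η ∈ T p, η b = a
  cardP : ∀ p ∈ PP, ∀ x ∈ PP, Nat.card p = Nat.card x
  cardT : ∀ p ∈ PP, ∀ x ∈ PP, Nat.card (T p) = Nat.card (T x)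
  span : ∀ η : L →+ L, (∀ p ∈ PP, ∀ v ∈ p, η v = 0) → η = 0
  nbr : ∀ p ∈ PP, ∃ x ∈ PP, Adj T p x

/-- a line -/
structure Ln (PP : Set (AddSubgroup L)) (T : AddSubgroup L → AddSubgroup (L →+ L)) (V : AddSubgroup L) : Prop where
  cov : ∀ v ∈ V, v ≠ 0 → ∃ p ∈ PP, p ≤ V ∧ v ∈ p
  perp : ∀ p ∈ PP, p ≤ V → ∀ x ∈ PP, x ≤ V → ¬ Adj T p x
  gen : ∀ p ∈ PP, p ≤ V → ∀ x ∈ PP, x ≤ V → p ≠ x → V ≤ p ⊔ x
  two : ∀ p ∈ PP, p ≤ V → ∃ x ∈ PP, x ≤ V ∧ x ≠ p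
  ex : ∃ p ∈ PP, p ≤ V

namespace Bd

variable {PP : Set (AddSubgroup L)} {T : AddSubgroup L → AddSubgroup (L →+ L)} (D : Bd PP T)
include D

omit D in
theorem adj_of_dis {p x w : AddSubgroup L} (h : Dis T p x w) : Adj T p w := by
  obtain ⟨η, hη, -, v, hv, h0⟩ := h
  exact ⟨η, hη, v, hv, h0⟩

/-- if some `η ∈ T p` does not kill `x`, it is injective on `x` -/
theorem inj' {p x : AddSubgroup L} (hp : p ∈ PP) (hx : x ∈ PP) {η : L →+ L} (hη : η ∈ T p) {b : L} (hb : b ∈ x)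
    (h : η b ≠ 0) {v : L} (hv : v ∈ x) (hv0 : v ≠ 0) : η v ≠ 0 :=
  fun h0 => h (D.one p hp x hx η hη v hv hv0 h0 b hb)

theorem adj_ne {p x : AddSubgroup L} (hp : p ∈ PP) (h : Adj T p x) : p ≠ x := by
  rintro rfl
  obtain ⟨η, hη, v, hv, h0⟩ := h
  exact h0 (D.ker p hp η hη v hv)

variable [Finite L]

omit D in
theorem finite_hom : Finite (L →+ L) :=
  Finite.of_injective (fun f : L →+ L => (f : L → L)) DFunLike.coe_injective

/-- (2) adjacency is symmetric -/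
theorem symm {p x : AddSubgroup L} (hp : p ∈ PP) (hx : x ∈ PP) (h : Adj T p x) : Adj T x p := by
  by_contra hcon
  have hk : ∀ ψ ∈ T x, ∀ v ∈ p, ψ v = 0 := by
    intro ψ hψ v hv
    by_contra h0
    exact hcon ⟨ψ, hψ, v, hv, h0⟩
  obtain ⟨φ, hφ, b, hb, h0⟩ := h
  let f : T x → T p := fun ψ => ⟨φ.comp ψ.1, D.cl p hp x hx φ hφ ψ.1 ψ.2 (hk ψ.1 ψ.2)⟩
  have hinj : Function.Injective f := by
    intro ψ₁ ψ₂ he
    have he' : φ.comp ψ₁.1 = φ.comp ψ₂.1 := congrArg Subtype.val he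
    apply Subtype.ext
    ext v
    have h1 : φ (ψ₁.1 v) = φ (ψ₂.1 v) := DFunLike.congr_fun he' v
    by_contra hne
    refine D.inj' hp hx hφ hb h0 (x.sub_mem (D.im x hx _ ψ₁.2 v) (D.im x hx _ ψ₂.2 v)) (sub_ne_zero.2 hne) ?_
    rw [map_sub, h1, sub_self]
  have : Finite (L →+ L) := finite_hom
  have hbij : Function.Bijective f := hinj.bijective_of_nat_card_le (le_of_eq (D.cardT p hp x hx))
  obtain ⟨ψ, hψ⟩ := hbij.2 ⟨φ, hφ⟩
  have h1 : φ.comp ψ.1 = φ := congrArg Subtype.val hψ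
  apply h0
  rw [← h1]
  show φ (ψ.1 b) = 0
  rw [D.ker x hx _ ψ.2 b hb, map_zero]

/-- (3) -/
theorem tri {p x y : AddSubgroup L} (hp : p ∈ PP) (hy : y ∈ PP) (h : Adj T p y) (h2 : Dis T p y x) :
    Dis T y p x := by
  obtain ⟨ψ, hψ, c, hc, hc0⟩ := D.symm hp hy h
  obtain ⟨η, hη, hk, b, hb, hb0⟩ := h2
  refine ⟨ψ.comp η, D.cl y hy p hp ψ hψ η hη hk, fun v hv => ?_, b, hb, ?_⟩
  · show ψ (η v) = 0
    rw [D.ker p hp η hη v hv, map_zero]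
  · exact D.inj' hy hp hψ hc hc0 (D.im p hp η hη b) hb0

/-- `|T p : W(p; x)| = |p|` -/
theorem card_W {p x : AddSubgroup L} (hp : p ∈ PP) (hx : x ∈ PP) (h : Adj T p x) :
    Nat.card (T p) = Nat.card p * Nat.card (W T p x) := by
  obtain ⟨b, hb, hb0⟩ := D.ne x hx
  let f : T p →+ p :=
    { toFun := fun η => ⟨η.1 b, D.im p hp _ η.2 b⟩
      map_zero' := rfl
      map_add' := fun _ _ => rfl }
  have hf : Function.Surjective f := by
    rintro ⟨a, ha⟩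
    obtain ⟨η, hη, e⟩ := D.sur p hp x hx h b hb hb0 a ha
    exact ⟨⟨η, hη⟩, Subtype.ext e⟩
  have h1 := AddSubgroup.card_eq_card_quotient_mul_card_addSubgroup f.ker
  have h2 : Nat.card (T p ⧸ f.ker) = Nat.card p :=
    Nat.card_congr (QuotientAddGroup.quotientKerEquivOfSurjective f hf).toEquiv
  have h3 : Nat.card f.ker = Nat.card (W T p x) := by
    refine Nat.card_congr
      { toFun := fun η => ⟨η.1.1, η.1.2, D.one p hp x hx _ η.1.2 b hb hb0 (congrArg Subtype.val η.2)⟩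
        invFun := fun η => ⟨⟨η.1, η.2.1⟩, Subtype.ext (η.2.2 b hb)⟩
        left_inv := fun η => rfl
        right_inv := fun η => rfl }
  rw [h1, h2, h3]

/-- the order of `W(p; x)` does not depend on the pair -/
theorem card_W_eq {p x p' x' : AddSubgroup L} (hp : p ∈ PP) (hx : x ∈ PP) (h : Adj T p x)
    (hp' : p' ∈ PP) (hx' : x' ∈ PP) (h' : Adj T p' x') : Nat.card (W T p x) = Nat.card (W T p' x') := by
  have h1 := D.card_W hp hx h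
  have h2 := D.card_W hp' hx' h'
  rw [D.cardT p hp p' hp', h2, D.cardP p hp p' hp'] at h1
  refine (Nat.eq_of_mul_eq_mul_left ?_ h1).symm
  have : Finite p' := inferInstance
  exact Nat.card_pos

/-- `W(p; x) ≰ W(p; w)` is symmetric for neighbours `x`, `w` of `p` -/
theorem dis_symm {p x w : AddSubgroup L} (hp : p ∈ PP) (hxP : x ∈ PP) (hx : Adj T p x) (hwP : w ∈ PP)
    (h : Dis T p x w) : Dis T p w x := by
  by_contra hcon
  have hle : W T p w ≤ W T p x := by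
    rintro η ⟨h1, h2⟩
    refine ⟨h1, fun v hv => ?_⟩
    by_contra h0
    exact hcon ⟨η, h1, h2, v, hv, h0⟩
  have : Finite (L →+ L) := finite_hom
  have heq : W T p w = W T p x :=
    AddSubgroup.eq_of_le_of_card_ge hle (D.card_W_eq hp hxP hx hp hwP (adj_of_dis h)).le
  obtain ⟨η, hη, hk, v, hv, h0⟩ := h
  have h1 : η ∈ W T p w := by rw [heq]; exact ⟨hη, hk⟩
  exact h0 (h1.2 v hv)

/-- `W(p; x) = φ W(x; p)` -/
theorem exists_comp {p x : AddSubgroup L} (hp : p ∈ PP) (hx : x ∈ PP) {φ : L →+ L} (hφ : φ ∈ T p) {b : L} (hb : b ∈ x)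
    (h0 : φ b ≠ 0) {η : L →+ L} (hη : η ∈ T p) (hk : ∀ v ∈ x, η v = 0) :
    ∃ τ ∈ T x, ∀ v, η v = φ (τ v) := by
  have : Finite (L →+ L) := finite_hom
  have h : Adj T p x := ⟨φ, hφ, b, hb, h0⟩
  let f : W T x p → W T p x := fun τ => ⟨φ.comp τ.1, D.cl p hp x hx φ hφ τ.1 τ.2.1 τ.2.2, fun v hv => by
    show φ (τ.1 v) = 0
    rw [D.ker x hx _ τ.2.1 v hv, map_zero]⟩
  have hinj : Function.Injective f := by
    intro ψ₁ ψ₂ he
    have he' : φ.comp ψ₁.1 = φ.comp ψ₂.1 := congrArg Subtype.val he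
    apply Subtype.ext
    ext v
    have h1 : φ (ψ₁.1 v) = φ (ψ₂.1 v) := DFunLike.congr_fun he' v
    by_contra hne
    refine D.inj' hp hx hφ hb h0 (x.sub_mem (D.im x hx _ ψ₁.2.1 v) (D.im x hx _ ψ₂.2.1 v)) (sub_ne_zero.2 hne) ?_
    rw [map_sub, h1, sub_self]
  have hbij : Function.Bijective f :=
    hinj.bijective_of_nat_card_le (D.card_W_eq hp hx h hx hp (D.symm hp hx h)).le
  obtain ⟨τ, hτ⟩ := hbij.2 ⟨η, hη, hk⟩
  refine ⟨τ.1, τ.2.1, fun v => ?_⟩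
  have h1 : φ.comp τ.1 = η := congrArg Subtype.val hτ
  rw [← h1]
  rfl

/-- (5) -/
theorem five {p p' p'' : AddSubgroup L} (hp : p ∈ PP) (hp' : p' ∈ PP) (h : Adj T p' p)
    (hperp : ¬ Adj T p p'') {η : L →+ L} (hη : η ∈ T p') (hk : ∀ v ∈ p, η v = 0) :
    ∀ v ∈ p'', η v = 0 := by
  obtain ⟨φ, hφ, b, hb, h0⟩ := h
  obtain ⟨τ, hτ, e⟩ := D.exists_comp hp' hp hφ hb h0 hη hk
  intro v hv
  have h1 : τ v = 0 := by
    by_contra hne
    exact hperp ⟨τ, hτ, v, hv, hne⟩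
  rw [e, h1, map_zero]

theorem exists_dis (hbig : ∀ p ∈ PP, Nat.card p < Nat.card (T p)) {p x : AddSubgroup L} (hp : p ∈ PP) (hx : x ∈ PP)
    (h : Adj T p x) : ∃ y ∈ PP, Dis T p x y := by
  have : Finite (L →+ L) := finite_hom
  by_contra hcon
  push Not at hcon
  have h1 : ∀ η ∈ W T p x, η = 0 := by
    rintro η ⟨hη, hk⟩
    refine D.span η fun y hy v hv => ?_
    by_contra h0
    exact hcon y hy ⟨η, hη, hk, v, hv, h0⟩
  have h2 : Nat.card (W T p x) = 1 := by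
    rw [Nat.card_eq_one_iff_unique]
    exact ⟨⟨fun a b => Subtype.ext ((h1 _ a.2).trans (h1 _ b.2).symm)⟩, ⟨0⟩⟩
  have h3 := D.card_W hp hx h
  rw [h2, mul_one] at h3
  exact absurd (hbig p hp) (by omega)

/-- (6) -/
theorem six (hbig : ∀ p ∈ PP, Nat.card p < Nat.card (T p)) {p p' p'' x : AddSubgroup L} (hp : p ∈ PP) (hp' : p' ∈ PP)
    (hp'' : p'' ∈ PP) (hx : x ∈ PP) (h1 : Adj T p' p) (h2 : Adj T p' p'') (h3 : ¬ Adj T p p'')
    (h4 : Adj T x p) : Adj T x p'' := by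
  by_contra hcon
  have h3' : ¬ Adj T p'' p := fun h => h3 (D.symm hp'' hp h)
  have hcon' : ¬ Adj T p'' x := fun h => hcon (D.symm hp'' hx h)
  have hpx : Adj T p x := D.symm hx hp h4
  have hpp' : Adj T p p' := D.symm hp' hp h1
  have hp''p' : Adj T p'' p' := D.symm hp' hp'' h2
  obtain ⟨y, hy, hd⟩ := D.exists_dis hbig hp' hp h1
  have hd1 : Dis T p p' y := D.tri hp' hp h1 hd
  have hd'' : Dis T p' p'' y := by
    obtain ⟨η, hη, hk, v, hv, h0⟩ := hd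
    exact ⟨η, hη, D.five hp hp' h1 h3 hη hk, v, hv, h0⟩
  have hd2 : Dis T p'' p' y := D.tri hp' hp'' h2 hd''
  -- the point `w`
  have key : ∀ w ∈ PP, Adj T p w → Adj T p'' w → Dis T p x w → False := by
    intro w hw hpw hp''w hdw
    have h5 : Dis T p w x := D.dis_symm hp hx hpx hw hdw
    obtain ⟨η, hη, hk, v, hv, h0⟩ := D.tri hp hw hpw h5
    have h6 := D.five hp hw (D.symm hp hw hpw) h3 hη hk
    exact h0 (D.five hp'' hw (D.symm hp'' hw hp''w) hcon' hη h6 v hv)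
  by_cases hc : Dis T p x p'
  · exact key p' hp' hpp' hp''p' hc
  · refine key y hy (adj_of_dis hd1) (adj_of_dis hd2) ?_
    obtain ⟨η, hη, hk, v, hv, h0⟩ := hd1
    refine ⟨η, hη, fun u hu => ?_, v, hv, h0⟩
    by_contra hne
    exact hc (D.dis_symm hp hp' hpp' hx ⟨η, hη, hk, u, hu, hne⟩)

/-- **A line of pairwise perpendicular points: `|T p| ≤ |p|`.** -/
theorem false_of_line (hbig : ∀ p ∈ PP, Nat.card p < Nat.card (T p)) {V : AddSubgroup L} (l : Ln PP T V) : False := by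
  -- a point of `V` killed by `T x`
  have L1 : ∀ x ∈ PP, ∀ p ∈ PP, p ≤ V → Adj T x p → ∃ r ∈ PP, r ≤ V ∧ r ≠ p ∧ ¬ Adj T x r := by
    intro x hx p hp hpV hxp
    obtain ⟨ψ, hψ, b, hb, hb0⟩ := id hxp
    have key : ∀ r ∈ PP, r ≤ V → (∀ v ∈ r, ψ v = 0) → ¬ Adj T x r := fun r hr hrV hk hxr =>
      hb0 (D.five hr hx hxr (l.perp r hr hrV p hp hpV) hψ hk b hb)
    obtain ⟨r, hr, hrV, hrp⟩ := l.two p hp hpV
    by_cases hk : ∀ v ∈ r, ψ v = 0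
    · exact ⟨r, hr, hrV, hrp, key r hr hrV hk⟩
    · push Not at hk
      obtain ⟨c, hc, hc0⟩ := hk
      -- `ψ : p → x` is onto
      let f : p → x := fun v => ⟨ψ v, D.im x hx ψ hψ v⟩
      have hf : Function.Injective f := by
        intro v v' e
        have e' : ψ v = ψ v' := congrArg Subtype.val e
        by_contra hne
        refine D.inj' hx hp hψ hb hb0 (p.sub_mem v.2 v'.2) (sub_ne_zero.2 fun e => hne (Subtype.ext e)) ?_
        rw [map_sub, e', sub_self]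
      have hbij := hf.bijective_of_nat_card_le (D.cardP x hx p hp).le
      obtain ⟨⟨v, hv⟩, e⟩ := hbij.2 ⟨ψ c, D.im x hx ψ hψ c⟩
      have e' : ψ v = ψ c := congrArg Subtype.val e
      have hne : v - c ≠ 0 := by
        intro h0
        have h1 : v = c := sub_eq_zero.1 h0
        subst h1
        exact hrp (D.ti r hr p hp v hc hv fun e => hc0 (by rw [e, map_zero]))
      obtain ⟨t, ht, htV, hvt⟩ := l.cov (v - c) (V.sub_mem (hpV hv) (hrV hc)) hne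
      have hk : ∀ u ∈ t, ψ u = 0 := D.one x hx t ht ψ hψ _ hvt hne (by rw [map_sub, e', sub_self])
      refine ⟨t, ht, htV, ?_, key t ht htV hk⟩
      rintro rfl
      exact hb0 (hk b hb)
  have L2 : ∀ x ∈ PP, ∀ p ∈ PP, p ≤ V → Adj T x p → ∀ r ∈ PP, r ≤ V → ¬ Adj T x r → ∀ t ∈ PP, t ≤ V → t ≠ r →
      Adj T x t := by
    intro x hx p hp hpV hxp r hr hrV hxr t ht htV htr
    by_contra hxt
    obtain ⟨ψ, hψ, b, hb, hb0⟩ := hxp
    have h1 := l.gen t ht htV r hr hrV htr (hpV hb)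
    obtain ⟨u, hu, v, hv, rfl⟩ := AddSubgroup.mem_sup.1 h1
    apply hb0
    rw [map_add]
    have h2 : ψ u = 0 := by
      by_contra h0
      exact hxt ⟨ψ, hψ, u, hu, h0⟩
    have h3 : ψ v = 0 := by
      by_contra h0
      exact hxr ⟨ψ, hψ, v, hv, h0⟩
    rw [h2, h3, add_zero]
  obtain ⟨p₁, hp₁, hp₁V⟩ := l.ex
  obtain ⟨x, hx, h1⟩ := D.nbr p₁ hp₁
  have hx1 := D.symm hp₁ hx h1
  obtain ⟨p₃, hp₃, hp₃V, -, hx3⟩ := L1 x hx p₁ hp₁ hp₁V hx1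
  obtain ⟨x', hx', h3⟩ := D.nbr p₃ hp₃
  have hx'3 := D.symm hp₃ hx' h3
  obtain ⟨p₄, hp₄, hp₄V, h43, hx'4⟩ := L1 x' hx' p₃ hp₃ hp₃V hx'3
  -- a third point
  obtain ⟨v₃, hv₃, hv₃0⟩ := D.ne p₃ hp₃
  obtain ⟨v₄, hv₄, hv₄0⟩ := D.ne p₄ hp₄
  have hne : v₃ + v₄ ≠ 0 := by
    intro h0
    have : v₃ ∈ p₄ := by
      rw [eq_neg_of_add_eq_zero_left h0]
      exact neg_mem hv₄
    exact h43 (D.ti p₃ hp₃ p₄ hp₄ v₃ hv₃ this hv₃0).symm
  obtain ⟨p₅, hp₅, hp₅V, hv₅⟩ := l.cov (v₃ + v₄) (add_mem (hp₃V hv₃) (hp₄V hv₄)) hne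
  have h53 : p₅ ≠ p₃ := by
    rintro rfl
    have : v₄ ∈ p₅ := by
      have := sub_mem hv₅ hv₃
      rwa [add_sub_cancel_left] at this
    exact h43 (D.ti p₄ hp₄ p₅ hp₅ v₄ hv₄ this hv₄0)
  have h54 : p₅ ≠ p₄ := by
    rintro rfl
    have : v₃ ∈ p₅ := by
      have := sub_mem hv₅ hv₄
      rwa [add_sub_cancel_right] at this
    exact h43 (D.ti p₃ hp₃ p₅ hp₅ v₃ hv₃ this hv₃0).symm
  have hx5 := L2 x hx p₁ hp₁ hp₁V hx1 p₃ hp₃ hp₃V hx3 p₅ hp₅ hp₅V h53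
  have hx'5 := L2 x' hx' p₃ hp₃ hp₃V hx'3 p₄ hp₄ hp₄V hx'4 p₅ hp₅ hp₅V h54
  exact hx3 (D.six hbig hp₅ hx' hp₃ hx hx'5 hx'3 (l.perp p₅ hp₅ hp₅V p₃ hp₃ hp₃V) hx5)

end Bd

end Cfsg.Agent.Omega.NO3S.EThree.Big
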