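import Cfsg.Agent.Omega.NO3S.EThree.TiNeg

/-!
# TI at stage `-1` for `Mul` from `C_G(Ω₁(Z(S))) ≤ N_G(Z_J)`

* `blkS_neg` : the generation by blocks over every 2-group `T ≥ B(S)`;
* `cent_le_neg`, `ti_neg_of` : `k ≥ 2`, any `q`.
-/

set_option autoImplicit false
set_option linter.unusedSectionVars false

namespace Cfsg.Agent.Omega.NO3S.EThree.TiNeg

open Subgroup Cfsg Cfsg.Agent.ZN.ChoiceBase
open Cfsg.Agent.ZN (jj zj bau zc zl o2)
open Cfsg.Agent.ZN.ChoiceSit (Syl)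
open Cfsg.Agent.Omega.OM
open Cfsg.Agent.Omega.NO3S.EThree.Frame
open Cfsg.Agent.Omega.Node.MultiOf
open Cfsg.Agent.Omega.NO3S.EThree.NonLocQ

universe u

variable {G : Type u} [Group G] [Finite G]

/-- The generation by blocks at stage `-1`. -/
theorem blkS_neg (hFF : FFThm.Stmt.{u}) (S : Sylow 2 G) {T : Subgroup G} (hBT : bau (S : Subgroup G) ≤ T) :
    TC.OfMul.BlkS (jj (S : Subgroup G)) (bau (S : Subgroup G)) T := by
  intro R hR hT hc hK hZ
  have hjj : jj T = jj (S : Subgroup G) := LemmaK.Main.jj_eq S hT.2.1 hBT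
  obtain ⟨L', V', ⟨h1, h2⟩, h3, h4⟩ := TC.UniOne.blkGenS hFF S hT hBT hR hc (by rw [hjj]; exact hK) hZ
  exact ⟨L', V', ⟨h1, h2⟩, h3, h4⟩

section

variable {S : Sylow 2 G} {P K B ZJ : Subgroup G} {k : ℕ} {L W Z C : Fin k → Subgroup G} {q : ℕ}

/-- **(T2) at stage `-1`.** -/
theorem cent_le_neg (hFF : FFThm.Stmt.{u}) (h : Mul S P K B ZJ L W Z C q) (hk : 2 ≤ k)
    (hj : ¬ jj (S : Subgroup G) ≤ o2 P)
    (hY : centralizer (zc (S : Subgroup G) : Set G) ≤ normalizer (zj (S : Subgroup G) : Set G)) {i : Fin k} {z : G}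
    (hz : z ∈ Z i) (hz1 : z ≠ 1) : centralizer ({z} : Set G) ≤ normalizer (Z i : Set G) := by
  have hu := blkU_of hk h
  have hlb := h.lb
  cases h.stg with
  | neg _ =>
    exact cent_le h.bg hlb hu (fun T _ hBT => blkS_neg hFF S hBT) (fun T hT hBT => cent_zc_le h.bg hY hT hBT) hz hz1
  | lev n _ hn _ => exact absurd ((NO3S.Level.lev_mono (S : Subgroup G) (Nat.zero_le n)).trans hn) hj

/-- **TI at stage `-1`.** -/
theorem ti_neg_of (hFF : FFThm.Stmt.{u}) (h : Mul S P K B ZJ L W Z C q) (hk : 2 ≤ k)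
    (hj : ¬ jj (S : Subgroup G) ≤ o2 P)
    (hY : centralizer (zc (S : Subgroup G) : Set G) ≤ normalizer (zj (S : Subgroup G) : Set G)) (i : Fin k) :
    TI (Z i) :=
  ti_of_cent h.bg fun _ hz hz1 => cent_le_neg hFF h hk hj hY hz hz1

end

end Cfsg.Agent.Omega.NO3S.EThree.TiNeg
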