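import Cfsg.Agent.Omega.OM.PG.Base
import Cfsg.Agent.PLocal.ElemAbSup
import Cfsg.Agent.ZN.ChoiceBase
import Cfsg.Agent.Omega.NO3S.ML

/-!
# EThree: the maximal elementary abelian subgroups of `Q_x` are exact on the neighbours (helper495 #18378 (1), (2))

* `swp`: `N ≤ Q` elementary abelian, `A ∈ AA Q`, `|A : C_A(N)| ≤ |N : C_N(A)|`: equality, `C_N(A) ≤ A` and
  `C_A(N) N ∈ AA Q`;
* `NoP Z`: `(NO)` for the action of `Q_a` on `N_u`, `a ~ u`;
* `exact`: `A ∈ AA Q_a` is exact on `N_u`, `u ~ a`, and `C_A(N_u) N_u ∈ AA Q_a ∩ AA Q_u`, `r(Q_a ∩ Q_u) = r(Q_a)`;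
* `moves`: if `Q_a` has a nontrivial Thompson subgroup, some `A ∈ AA Q_a` moves `N_u` (`principle`: PRINCIPLE (*)
  for every functor);
* `phi_iff`: `A ∈ AA Q_u`, `x ~ u`: `A ≤ Q_x ↔ N_x ≤ A ↔ [A, N_x] = 1`;
* `two`: `a ~ x ~ b`: there is `E ≤ Q_x` centralising `N_a` and `N_b` with
  `N_a E`, `N_b E ∈ AA Q_x`;
* `crit_exact`: a noncommuting pair at least distance is exact on both sides.
-/

set_option autoImplicit false
set_option linter.unusedSectionVars false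

namespace Cfsg.Agent.Omega.NO3S.EThree.ExactA

open Subgroup Cfsg Cfsg.Agent.ZN Cfsg.Agent.Omega.MinPar
open Cfsg.Agent.Omega.OM.PG
open Cfsg.Agent.ZN.ChoiceBase (AA mm mm_eq mem_AA_iff AA_nonempty card_le_mm cj_mem_AA mm_cj mm_mono)
open Cfsg.Agent.Omega.NoFF.Basic (conj_conj mem_conj conj_le_iff conj_le_centralizer comm_symm comm_mono)
open Cfsg.Agent.Omega.NO3S.ML (card_mul_relIndex card_sup_mul_of_comm)
open scoped Pointwise

universe u

variable {G : Type u} [Group G]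

theorem eab_iff {A : Subgroup G} : IsElementaryAbelian 2 A ↔ A ≤ centralizer (A : Set G) ∧ ∀ x ∈ A, x ^ 2 = 1 := by
  constructor
  · rintro ⟨h1, h2⟩
    refine ⟨fun x hx => mem_centralizer_iff.2 fun y hy => ?_, h2⟩
    exact congrArg Subtype.val (h1.is_comm.comm (⟨y, hy⟩ : A) ⟨x, hx⟩)
  · rintro ⟨h1, h2⟩
    exact ⟨⟨⟨fun x y => Subtype.ext (mem_centralizer_iff.1 (h1 y.2) x x.2)⟩⟩, h2⟩

theorem eab_sup {A B : Subgroup G} (hA : IsElementaryAbelian 2 A) (hB : IsElementaryAbelian 2 B)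
    (h : A ≤ centralizer (B : Set G)) : IsElementaryAbelian 2 (A ⊔ B : Subgroup G) := by
  rw [eab_iff] at *
  have hc : A ⊔ B ≤ centralizer ((A ⊔ B : Subgroup G) : Set G) := by
    have hB' : B ≤ centralizer (A : Set G) := comm_symm h
    have h1 : A ≤ centralizer ((A ⊔ B : Subgroup G) : Set G) := comm_symm (sup_le hA.1 hB')
    have h2 : B ≤ centralizer ((A ⊔ B : Subgroup G) : Set G) := comm_symm (sup_le h hB.1)
    exact sup_le h1 h2
  refine ⟨hc, ?_⟩
  refine NoFF.Lines.Geo.sq_of_comm hc (ι := Bool) (B := fun i => cond i A B) ?_ ?_ ?_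
  · rintro (_ | _)
    · exact le_sup_right
    · exact le_sup_left
  · exact sup_le (le_iSup (fun i : Bool => (cond i A B : Subgroup G)) true)
      (le_iSup (fun i : Bool => (cond i A B : Subgroup G)) false)
  · rintro (_ | _)
    · exact hB.2
    · exact hA.2

theorem eab_mono {A B : Subgroup G} (hB : IsElementaryAbelian 2 B) (h : A ≤ B) : IsElementaryAbelian 2 A := by
  rw [eab_iff] at *
  exact ⟨(h.trans hB.1).trans (centralizer_le h), fun x hx => hB.2 x (h hx)⟩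

variable [Finite G]

/-- The exchange. -/
theorem swp {Q N A : Subgroup G} (hN : IsElementaryAbelian 2 N) (hNQ : N ≤ Q) (hA : A ∈ AA Q)
    (h : (centralizer (N : Set G)).relIndex A ≤ (centralizer (A : Set G)).relIndex N) :
    (centralizer (N : Set G)).relIndex A = (centralizer (A : Set G)).relIndex N ∧
      N ⊓ centralizer (A : Set G) ≤ A ∧ (A ⊓ centralizer (N : Set G)) ⊔ N ∈ AA Q := by
  have hAe := hA.1
  have hN' := (eab_iff.1 hN).1
  have hA' := (eab_iff.1 hAe).1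
  set K := A ⊓ centralizer (N : Set G) with hK
  set D := N ⊓ centralizer (A : Set G) with hD
  have hKe : IsElementaryAbelian 2 K := eab_mono hAe inf_le_left
  have hE : IsElementaryAbelian 2 (K ⊔ N : Subgroup G) := eab_sup hKe hN inf_le_right
  have hEQ : K ⊔ N ≤ Q := sup_le (inf_le_left.trans hA.2.1) hNQ
  have hEA : Nat.card (K ⊔ N : Subgroup G) ≤ Nat.card A := hA.2.2 _ hE hEQ
  have h1 : Nat.card (K ⊔ N : Subgroup G) * Nat.card (K ⊓ N : Subgroup G) = Nat.card K * Nat.card N :=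
    card_sup_mul_of_comm fun a ha b hb => (mem_centralizer_iff.1 ((inf_le_right : K ≤ _) ha) b hb).symm
  have hKN : K ⊓ N = A ⊓ N := by
    rw [hK]
    refine le_antisymm (inf_le_inf_right _ inf_le_left) (le_inf (le_inf inf_le_left ?_) inf_le_right)
    exact inf_le_right.trans hN'
  have hAN : A ⊓ N ≤ D := le_inf inf_le_right (inf_le_left.trans hA')
  have h2 : Nat.card (A ⊓ N : Subgroup G) ≤ Nat.card D := Subgroup.card_le_of_le hAN
  have h3 : Nat.card K * (centralizer (N : Set G)).relIndex A = Nat.card A := by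
    rw [hK, ← Subgroup.inf_relIndex_left]
    exact card_mul_relIndex inf_le_left
  have h4 : Nat.card D * (centralizer (A : Set G)).relIndex N = Nat.card N := by
    rw [hD, ← Subgroup.inf_relIndex_left]
    exact card_mul_relIndex inf_le_left
  have pK : 0 < Nat.card K := Nat.card_pos
  have pD : 0 < Nat.card D := Nat.card_pos
  have pA : 0 < Nat.card A := Nat.card_pos
  have pAN : 0 < Nat.card (A ⊓ N : Subgroup G) := Nat.card_pos
  rw [hKN] at h1
  have h5 : Nat.card K * Nat.card D * (centralizer (A : Set G)).relIndex N ≤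
      Nat.card K * Nat.card D * (centralizer (N : Set G)).relIndex A := by
    calc _ = Nat.card K * Nat.card N := by rw [← h4]; ring
      _ = Nat.card (K ⊔ N : Subgroup G) * Nat.card (A ⊓ N : Subgroup G) := h1.symm
      _ ≤ Nat.card A * Nat.card D := Nat.mul_le_mul hEA h2
      _ = _ := by rw [← h3]; ring
  have h6 : (centralizer (A : Set G)).relIndex N ≤ (centralizer (N : Set G)).relIndex A :=
    Nat.le_of_mul_le_mul_left h5 (Nat.mul_pos pK pD)
  have h7 := le_antisymm h h6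
  have h8 : Nat.card (K ⊔ N : Subgroup G) * Nat.card (A ⊓ N : Subgroup G) = Nat.card A * Nat.card D := by
    rw [h1, ← h4, ← h3, h7]; ring
  have h9 : Nat.card A ≤ Nat.card (K ⊔ N : Subgroup G) := by
    refine Nat.le_of_mul_le_mul_right (c := Nat.card D) ?_ pD
    rw [← h8]
    exact Nat.mul_le_mul_left _ h2
  have h10 : Nat.card D ≤ Nat.card (A ⊓ N : Subgroup G) := by
    have h12 : Nat.card A * Nat.card D ≤ Nat.card A * Nat.card (A ⊓ N : Subgroup G) := by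
      rw [← h8]
      exact Nat.mul_le_mul_right _ hEA
    exact Nat.le_of_mul_le_mul_left h12 pA
  have h11 : A ⊓ N = D := Subgroup.eq_of_le_of_card_ge hAN h10
  refine ⟨h7, ?_, ⟨hE, hEQ, fun B hB hBQ => (hA.2.2 B hB hBQ).trans h9⟩⟩
  rw [← h11]
  exact inf_le_left

/-- `(NO)` for `Q_a` on `N_u`, `a ~ u`. -/
def NoP (Z : Fin 2 → Subgroup G) : Prop :=
  ∀ a u : Subgroup G, Adj Z a u → ∀ B : Subgroup G, IsElementaryAbelian 2 B → B ≤ QQ a →
    (centralizer (NN Z u : Set G)).relIndex B ≤ (centralizer (B : Set G)).relIndex (NN Z u)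

section PPs

variable {Z U : Fin 2 → Subgroup G} (P : PP Z U)

include P

omit [Finite G] in
theorem NN_eab {a : Subgroup G} (h : IsPt Z a) : IsElementaryAbelian 2 (NN Z a) := by
  rw [eab_iff]
  refine ⟨P.NN_comm h, ?_⟩
  refine NoFF.Lines.Geo.sq_of_comm (P.NN_comm h) (ι := {u : Subgroup G // Adj Z a u}) (B := fun u => (u : Subgroup G))
    (fun u => u.2.le_NN) ?_ fun u => P.ZsqConj (P.adj_pt u.2)
  exact sSup_le fun u hu => le_iSup (fun u : {u : Subgroup G // Adj Z a u} => (u : Subgroup G)) ⟨u, hu⟩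

/-- `N_a ≤ A` for `A ∈ AA Q_a`. -/
theorem NN_le {a A : Subgroup G} (h : IsPt Z a) (hA : A ∈ AA (QQ a)) : NN Z a ≤ A := by
  have h1 : IsElementaryAbelian 2 (A ⊔ NN Z a : Subgroup G) :=
    eab_sup hA.1 (NN_eab P h) (hA.2.1.trans (P.QQ_le_cent h))
  have h2 := hA.2.2 _ h1 (sup_le hA.2.1 (P.NN_le_QQ h))
  have h3 : A = A ⊔ NN Z a := Subgroup.eq_of_le_of_card_ge le_sup_left h2
  rw [h3]
  exact le_sup_right

theorem mm_QQ {a b : Subgroup G} (ha : IsPt Z a) (hb : IsPt Z b) : mm (QQ a) = mm (QQ b) := by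
  obtain ⟨k, rfl⟩ := ha
  obtain ⟨l, rfl⟩ := hb
  rw [QQ_conj, QQ_conj]
  exact (mm_cj k _).trans (mm_cj l _).symm

/-- An `A ∈ AA Q_a` inside `Q_b` lies in `AA Q_b`. -/
theorem mem_AA_of_le {a b A : Subgroup G} (ha : IsPt Z a) (hb : IsPt Z b) (hA : A ∈ AA (QQ a)) (h : A ≤ QQ b) :
    A ∈ AA (QQ b) := by
  rw [mem_AA_iff]
  exact ⟨hA.1, h, by rw [mm_QQ P hb ha]; exact (mm_eq hA).le⟩

/-- **(2)** -/
theorem exact (hC : ∀ a u : Subgroup G, Adj Z a u → Com Z a u) (hNO : NoP Z) {a u A : Subgroup G} (h : Adj Z a u)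
    (hA : A ∈ AA (QQ a)) :
    (centralizer (NN Z u : Set G)).relIndex A = (centralizer (A : Set G)).relIndex (NN Z u) ∧
      NN Z u ⊓ centralizer (A : Set G) ≤ A ∧
      (A ⊓ centralizer (NN Z u : Set G)) ⊔ NN Z u ∈ AA (QQ a) ∧
      (A ⊓ centralizer (NN Z u : Set G)) ⊔ NN Z u ∈ AA (QQ u) := by
  have hu := P.adj_pt h
  have h1 : NN Z u ≤ QQ a := P.f3 h (P.NN_le_QQ hu) (comm_symm (hC a u h))
  obtain ⟨h2, h3, h4⟩ := swp (NN_eab P hu) h1 hA (hNO a u h A hA.1 hA.2.1)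
  refine ⟨h2, h3, h4, mem_AA_of_le P h.pt hu h4 ?_⟩
  refine P.f3 (P.adj_symm h) h4.2.1 (sup_le inf_le_right (P.NN_comm hu))

/-- `r(Q_a ∩ Q_u) = r(Q_a)` -/
theorem mm_inf (hC : ∀ a u : Subgroup G, Adj Z a u → Com Z a u) (hNO : NoP Z) {a u : Subgroup G} (h : Adj Z a u) :
    mm (QQ a ⊓ QQ u) = mm (QQ a) := by
  obtain ⟨A, hA⟩ := AA_nonempty (QQ a)
  obtain ⟨-, -, h1, h2⟩ := exact P hC hNO h hA
  refine le_antisymm (mm_mono inf_le_left) ?_
  rw [mm_eq h1]
  exact card_le_mm h1.1 (le_inf h1.2.1 h2.2.1)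

/-- `A ∈ AA Q_u`, `x ~ u`. -/
theorem phi_iff {u x A : Subgroup G} (h : Adj Z x u) (hA : A ∈ AA (QQ u)) :
    (A ≤ QQ x ↔ NN Z x ≤ A) ∧ (NN Z x ≤ A ↔ A ≤ centralizer (NN Z x : Set G)) := by
  have hA' := (eab_iff.1 hA.1).1
  have h1 : A ≤ QQ x → NN Z x ≤ A := fun h1 => NN_le P h.pt (mem_AA_of_le P (P.adj_pt h) h.pt hA h1)
  have h2 : NN Z x ≤ A → A ≤ centralizer (NN Z x : Set G) := fun h2 => hA'.trans (centralizer_le h2)
  have h3 : A ≤ centralizer (NN Z x : Set G) → A ≤ QQ x := fun h3 => P.f3 h hA.2.1 h3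
  exact ⟨⟨h1, fun h4 => h3 (h2 h4)⟩, ⟨h2, fun h4 => h1 (h3 h4)⟩⟩

/-- **PRINCIPLE (*)**: a subgroup `Φ(Q_a) ≠ 1` given by a conjugation invariant rule moves `N_u` for `u ~ a`. -/
theorem principle {Φ : Subgroup G → Subgroup G} (hΦ : ∀ (g : G) (a : Subgroup G), IsPt Z a →
      Φ (MulAut.conj g • a) = MulAut.conj g • Φ a)
    (hle : ∀ a : Subgroup G, IsPt Z a → Φ a ≤ QQ a)
    (hmono : ∀ a u : Subgroup G, Adj Z a u → Φ a ≤ QQ u → Φ a ≤ Φ u)
    (hne : Φ (Z 0) ≠ ⊥) {a u : Subgroup G} (h : Adj Z a u) : ¬ Φ a ≤ centralizer (NN Z u : Set G) := by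
  have h0 : IsPt Z (Z 0) := ⟨1, by rw [map_one, one_smul]⟩
  have h01 : Adj Z (Z 0) (Z 1) := ⟨1, by rw [map_one, one_smul], by rw [map_one, one_smul]⟩
  have h1 : IsPt Z (Z 1) := P.adj_pt h01
  intro hcon
  -- move to `Z 0`, `Z 1`
  obtain ⟨k, rfl, rfl⟩ := h
  rw [hΦ k _ h0, NN_conj] at hcon
  have hcon' : Φ (Z 0) ≤ centralizer (NN Z (Z 1) : Set G) := by
    have h2 := conj_le_centralizer (g := k⁻¹) hcon
    rwa [inv_conj_conj, inv_conj_conj] at h2
  have h3 : Φ (Z 0) ≤ QQ (Z 1) := P.f3 (P.adj_symm h01) (hle _ h0) hcon'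
  have h4 : Φ (Z 0) ≤ Φ (Z 1) := hmono _ _ h01 h3
  obtain ⟨s, hs0, hs1, -, -⟩ := P.swap
  have h5 : Φ (Z 1) = MulAut.conj s • Φ (Z 0) := by rw [← hs0, hΦ s _ h0]
  have h6 : Nat.card (Φ (Z 1)) = Nat.card (Φ (Z 0)) := by
    rw [h5]
    exact (ZN.ChoiceBase.card_cj s _)
  have h7 : Φ (Z 0) = Φ (Z 1) := Subgroup.eq_of_le_of_card_ge h4 h6.le
  have key : ∀ a : Subgroup G, IsPt Z a → HH a ≤ normalizer (Φ a : Set G) := by
    intro a ha g hg
    have h8 : MulAut.conj g • a = a := Cfsg.Agent.Omega.NOThreeL.Pair.conj_eq_of_mem hg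
    refine ChoiceBase.mem_normalizer_iff_cj.2 ?_
    change MulAut.conj g • Φ a = Φ a
    rw [← hΦ g a ha, h8]
  refine hne (P.nonLoc (Φ (Z 0)) ?_ (key _ h0) ?_)
  · exact (MinSimple.VModule.o2_isPGroup _).to_le (hle _ h0)
  · rw [h7]
    exact key _ h1

/-- Some `A ∈ AA Q_a` moves `N_u`. -/
theorem moves (hne : jj (QQ (Z 0)) ≠ ⊥) {a u : Subgroup G} (h : Adj Z a u) :
    ∃ A ∈ AA (QQ a), ¬ A ≤ centralizer (NN Z u : Set G) := by
  have h1 := principle P (Φ := fun a => jj (QQ a)) (fun g a _ => by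
      rw [QQ_conj]
      exact ChoiceBase.jj_cj g (QQ a)) (fun a _ => ChoiceBase.jj_le _) ?_ hne h
  · by_contra hcon
    push Not at hcon
    apply h1
    rw [ChoiceBase.jj_eq]
    exact sSup_le fun A hA => hcon A hA
  · intro a u h' hle
    rw [ChoiceBase.jj_eq, ChoiceBase.jj_eq]
    refine sSup_le fun A hA => le_sSup ?_
    exact mem_AA_of_le P h'.pt (P.adj_pt h') hA ((ChoiceBase.le_jj hA).trans hle)

/-- `a ~ x ~ b`, `N_a` and `N_b` exact on each other. -/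
theorem two (hC : ∀ a u : Subgroup G, Adj Z a u → Com Z a u) (hNO : NoP Z) {a x b : Subgroup G} (h : Adj Z x a)
    (h' : Adj Z x b) :
    ∃ E : Subgroup G, E ≤ QQ x ∧ E ≤ centralizer (NN Z a : Set G) ∧ E ≤ centralizer (NN Z b : Set G) ∧
      E ⊔ NN Z a ∈ AA (QQ x) ∧ E ⊔ NN Z b ∈ AA (QQ x) := by
  obtain ⟨A₀, hA₀⟩ := AA_nonempty (QQ x)
  have ha := P.adj_pt h
  have hb := P.adj_pt h'
  -- `A ∈ AA Q_x` containing `N_a`
  obtain ⟨-, -, h1, -⟩ := exact P hC hNO h hA₀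
  set A := (A₀ ⊓ centralizer (NN Z a : Set G)) ⊔ NN Z a with hA
  have hAa : NN Z a ≤ A := le_sup_right
  have hAab := (eab_iff.1 h1.1).1
  obtain ⟨-, -, h2, -⟩ := exact P hC hNO h' h1
  set A' := (A ⊓ centralizer (NN Z b : Set G)) ⊔ NN Z b with hA'
  have hA'ab := (eab_iff.1 h2.1).1
  obtain ⟨-, -, h3, -⟩ := exact P hC hNO h h2
  set A'' := (A' ⊓ centralizer (NN Z a : Set G)) ⊔ NN Z a with hA''
  have hA''ab := (eab_iff.1 h3.1).1
  obtain ⟨-, -, h4, -⟩ := exact P hC hNO h' h3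
  have hA''a : NN Z a ≤ A'' := le_sup_right
  refine ⟨A'' ⊓ centralizer (NN Z b : Set G), inf_le_left.trans h3.2.1,
    inf_le_left.trans (hA''ab.trans (centralizer_le hA''a)), inf_le_right, ?_, h4⟩
  have h5 : A'' ⊓ centralizer (NN Z b : Set G) ⊔ NN Z a = A'' := by
    refine le_antisymm (sup_le inf_le_left le_sup_right) (sup_le ?_ le_sup_right)
    refine le_trans (le_inf le_sup_left ?_) le_sup_left
    have h6 : NN Z b ≤ A' := le_sup_right
    exact inf_le_left.trans (hA'ab.trans (centralizer_le h6))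
  rw [h5]
  exact h3

/-- A noncommuting pair at least distance is exact on both sides. -/
theorem crit_exact (hNO : NoP Z) {d : ℕ} {a b : Subgroup G} (hab : Pth Z (d + 1) a b)
    (hmin : ∀ m ≤ d, ∀ a b, Pth Z m a b → Com Z a b) :
    (centralizer (NN Z b : Set G)).relIndex (NN Z a) = (centralizer (NN Z a : Set G)).relIndex (NN Z b) := by
  have key : ∀ a b : Subgroup G, Pth Z (d + 1) a b →
      (centralizer (NN Z b : Set G)).relIndex (NN Z a) ≤ (centralizer (NN Z a : Set G)).relIndex (NN Z b) := by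
    intro a b h
    cases h with
    | succ h1 h2 =>
      have h3 := P.lemP hmin d le_rfl _ _ h1
      exact hNO _ _ h2 _ (NN_eab P (PP.pth_pt h1)) h3
  exact le_antisymm (key a b hab) (key b a (P.pth_symm hab))

end PPs

end Cfsg.Agent.Omega.NO3S.EThree.ExactA
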