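import Cfsg.Agent.Omega.TC.UniLev

/-!
# NO-3S, `V_P` a sum of `k ≥ 2` natural `SL₂(q)`-modules: UNI+ and NonLoc from the tree (`Node/MultiOf.lean`), every stage

* `BlkU B ZJ Z C q` : the form of UNI+: every FF-block `L'` over `B` has an index `i` with `FB B L' V' (Z i) q` and
  `C_ZJ(L') = ZJ ∩ C i`; in particular `L' ≤ C(Z j)` for `j ≠ i`;
* `blkU_lev`, `blkU_neg` : from the frames `FrL` (stage `n`) and `Line` (stage `-1`);
* `BlkU.perm_of` : two frames over the same `(B, ZJ)` differ by a permutation of the indices;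
* `Mul.blkU` : **UNI+ for `Mul`, every stage, any `q`**;
* `nonloc_of`, `Mul.nonloc` : **`k = 2`: `NLoc (KZ B ZJ)` implies `NonLoc (N(Z i)) (N(Z j))`**.
-/

set_option autoImplicit false
set_option linter.unusedSectionVars false

namespace Cfsg.Agent.Omega.NO3S.EThree.NonLocQ

open Subgroup Cfsg Cfsg.Agent.ZN.ChoiceBase
open Cfsg.Agent.ZN (jj zj bau zc zl o2)
open Cfsg.Agent.Omega.OM Cfsg.Agent.Omega.OM.Uni
open Cfsg.Agent.Omega.NO3S (HypJ HypN Hyp HypL)
open Cfsg.Agent.Omega.NO3S.Level (lev)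
open Cfsg.Agent.Omega.NO3S.EThree.Frame
open Cfsg.Agent.Omega.MinPar (NonLoc)
open Cfsg.Agent.Omega.FFThm (NatK NatKM)
open Cfsg.Agent.Omega.FrameFF (cv)
open Cfsg.Agent.Omega.OM.UniPlus (NB)
open Cfsg.Agent.Omega.OM.Lev.Uni (FrL)
open Cfsg.Agent.Omega.Node.MultiOf

universe u

variable {G : Type u} [Group G]

/-- **UNI+** : every FF-block `L'` over `B` has an index. -/
def BlkU {ι : Type*} (B ZJ : Subgroup G) (Z C : ι → Subgroup G) (q : ℕ) : Prop :=
  ∀ L' V' : Subgroup G, FBl B L' V' → ∃ i, FB B L' V' (Z i) q ∧ ∀ z ∈ ZJ, z ∈ C i ↔ ∀ l ∈ L', l * z = z * l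

section

variable [Finite G] {ι : Type*} {B ZJ : Subgroup G} {Z C : ι → Subgroup G} {q : ℕ}

/-- stage `n` -/
theorem blkU_lev [Finite ι] (S : Sylow 2 G) {n : ℕ} {Q V : Subgroup G} {L W A : ι → Subgroup G}
    (eqZ : ZJ = zc (lev (S : Subgroup G) (n + 1)))
    (eqB : B = (S : Subgroup G) ⊓ centralizer (zc (lev (S : Subgroup G) (n + 1)) : Set G))
    (h : FrL B Q V (zc (lev (S : Subgroup G) n)) ZJ L W Z C A q) : BlkU B ZJ Z C q := by
  intro L' V' h'
  obtain ⟨Z', hF, i, rfl, -, -, h1, -⟩ := TC.UniLev.uni_all S eqZ eqB h h'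
  exact ⟨i, hF, h1⟩

/-- stage `-1` -/
theorem blkU_neg {S : Sylow 2 G} {P : Subgroup G} {ι : Type} [Finite ι] {L W Z C A : ι → Subgroup G} {q : ℕ}
    (h : Line S P L W Z C A q) (htr : ∀ i j : ι, ∃ s ∈ (S : Subgroup G), cj s (Z i) = Z j) :
    BlkU (bau (S : Subgroup G)) (zj (S : Subgroup G)) Z C q := by
  rintro L' V' ⟨⟨Z', q', hF⟩, hb⟩
  obtain ⟨rfl, i, rfl, hN, ⟨-, h1, -⟩ | ⟨rfl, -, -⟩⟩ := h.uniPlus hF
  · exact ⟨i, hF, h1⟩
  · obtain ⟨j, hj, hV, hle⟩ := h.uniTwo htr hF hb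
    refine ⟨j, hj ▸ hF, fun z hz => ⟨fun hzC l hl => ?_, fun hc => ?_⟩⟩
    · have h2 := hle hl
      have h3 : L j ⊔ centralizer ((W j ⊔ zj (S : Subgroup G) : Subgroup G) : Set G) ≤ centralizer ({z} : Set G) := by
        refine sup_le (fun x hx => ?_) (centralizer_le ?_)
        · rw [mem_centralizer_singleton_iff]
          exact h.fr.LC j x hx z hz hzC
        · rw [Set.singleton_subset_iff]
          exact (le_sup_right : zj (S : Subgroup G) ≤ W j ⊔ zj (S : Subgroup G)) hz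
      exact mem_centralizer_singleton_iff.1 (h3 h2)
    · obtain ⟨w, hw, c, hcC, hcJ, e⟩ := h.fr.split_ZJ j hz
      have h1 : w = 1 := by
        refine NB.cent (B := bau (S : Subgroup G)) (L := L') (V := V') (Z := Z j) (q := 2) ?_ hw fun l hl => ?_
        · rw [← hj]; exact hN
        · have h2 := hc l hl
          have h3 : l * c = c * l := by
            have h4 : L j ⊔ centralizer ((W j ⊔ zj (S : Subgroup G) : Subgroup G) : Set G) ≤
                centralizer ({c} : Set G) := by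
              refine sup_le (fun x hx => ?_) (centralizer_le ?_)
              · rw [mem_centralizer_singleton_iff]
                exact h.fr.LC j x hx c hcJ hcC
              · rw [Set.singleton_subset_iff]
                exact (le_sup_right : zj (S : Subgroup G) ≤ W j ⊔ zj (S : Subgroup G)) hcJ
            exact mem_centralizer_singleton_iff.1 (h4 (hle hl))
          have h5 : w = z * c⁻¹ := by rw [e]; group
          have h6 : l * c⁻¹ = c⁻¹ * l := by
            have h7 : Commute l c := h3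
            exact h7.inv_right.eq
          rw [h5, ← mul_assoc, h2, mul_assoc, h6, mul_assoc]
      rw [e, h1, one_mul]
      exact hcC

namespace BlkU

omit [Finite G] in
theorem cent (h : BlkU B ZJ Z C q) {L' V' : Subgroup G} (h' : FBl B L' V') (hZ : ∀ j, Z j ≤ ZJ)
    (hC : ∀ i j, i ≠ j → Z j ≤ C i) :
    ∃ i, FB B L' V' (Z i) q ∧ ∀ j, i ≠ j → L' ≤ centralizer (Z j : Set G) := by
  obtain ⟨i, h1, h2⟩ := h L' V' h'
  refine ⟨i, h1, fun j hij l hl => mem_centralizer_iff.2 fun z hz => ?_⟩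
  exact ((h2 z (hZ j hz)).1 (hC i j hij hz) l hl).symm

omit [Finite G] in
/-- Two frames over the same `(B, ZJ)` differ by a permutation of the indices. -/
theorem perm_of {ι' : Type*} [Finite ι'] [Finite ι] {L W Z' C' : ι' → Subgroup G} {q' : ℕ}
    (h : BlkU B ZJ Z C q) (hb : ∀ i, FBl B (L i) (W i)) (hF : ∀ i, FB B (L i) (W i) (Z' i) q')
    (hC : ∀ i, ∀ z ∈ ZJ, z ∈ C' i ↔ ∀ l ∈ L i, l * z = z * l) :
    ∀ i, ∃ j, Z' i = Z j ∧ ∀ z ∈ ZJ, z ∈ C' i ↔ z ∈ C j := by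
  intro i
  obtain ⟨j, h1, h2⟩ := h (L i) (W i) (hb i)
  refine ⟨j, ?_, fun z hz => (hC i z hz).trans (h2 z hz).symm⟩
  ext x
  rw [(hF i).toMd.mem_Z_iff, h1.toMd.mem_Z_iff]

end BlkU

end

section bg

variable [Finite G] {S : Sylow 2 G} {P B ZJ : Subgroup G} {ι : Type} {L W Z C : ι → Subgroup G} {q : ℕ}

/-- `ZJ ∩ C i = C_ZJ(L i)` -/
theorem mem_C_iff (h : Bg S P B ZJ L W Z C q) {i : ι} {z : G} (hz : z ∈ ZJ) :
    z ∈ C i ↔ ∀ l ∈ L i, l * z = z * l := by
  constructor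
  · exact fun hc l hl => h.fr.LC i l hl z hz hc
  · intro hL
    obtain ⟨w, hw, c, hc, hcJ, e⟩ := h.fr.split_ZJ i hz
    have h1 : w = 1 := by
      refine NB.cent (B := B) (L := L i) (V := W i) (Z := Z i) (q := q) ⟨h.fr.blk i, h.fr.cardZ i⟩ hw
        fun l hl => ?_
      have h2 := hL l hl
      have h3 := h.fr.LC i l hl c hcJ hc
      have h5 : w = z * c⁻¹ := by rw [e]; group
      have h6 : l * c⁻¹ = c⁻¹ * l := by
        have h7 : Commute l c := h3
        exact h7.inv_right.eq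
      rw [h5, ← mul_assoc, h2, mul_assoc, h6, mul_assoc]
    rw [e, h1, one_mul]
    exact hc

/-- **NonLoc from UNI+**, two blocks. -/
theorem nonloc_of (h : Bg S P B ZJ L W Z C q) (hu : BlkU B ZJ Z C q) {i j : ι} (hij : i ≠ j)
    (h2 : ∀ l, l = i ∨ l = j) (hE : NLoc (KZ B ZJ)) :
    NonLoc (normalizer (Z i : Set G)) (normalizer (Z j : Set G)) := by
  have hc : centralizer (ZJ : Set G) ≤ normalizer (Z i : Set G) :=
    (centralizer_le (h.fr.Z_le i)).trans (centralizer_le_normalizer _)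
  intro U hU h0 h1
  refine hE U hU (sup_le (hc.trans h0) (iSup_le ?_))
  rintro ⟨⟨L', V'⟩, hb⟩
  obtain ⟨l, -, hl⟩ := hu.cent hb h.fr.Z_le fun a b hab => (h.fr.blk b).ZV.trans (h.fr.WjC a b hab)
  rcases h2 l with rfl | rfl
  · exact ((hl j hij).trans (centralizer_le_normalizer _)).trans h1
  · exact ((hl i hij.symm).trans (centralizer_le_normalizer _)).trans h0

/-- UNI+ for a second frame over the same `(B, ZJ)`. -/
theorem BlkU.of_bg [Finite ι] {S : Sylow 2 G} {P' : Subgroup G} {L' W' Z' C' : ι → Subgroup G} {q' : ℕ}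
    (hu : BlkU B ZJ Z C q) (h' : Bg S P' B ZJ L' W' Z' C' q') :
    BlkU B ZJ Z' C' q := by
  have h1 := hu.perm_of (L := L') (W := W') (Z' := Z') (C' := C') (q' := q')
    (fun i => ⟨⟨_, _, h'.fr.blk i⟩, h'.block i⟩) h'.fr.blk fun i z hz => mem_C_iff h' hz
  choose σ hσ using h1
  have hinj : Function.Injective σ := fun a b e => h'.Z_inj (by rw [(hσ a).1, (hσ b).1, e])
  have hsur : Function.Surjective σ := Finite.surjective_of_injective hinj
  intro L₀ V₀ hb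
  obtain ⟨j, h2, h3⟩ := hu L₀ V₀ hb
  obtain ⟨i, rfl⟩ := hsur j
  refine ⟨i, (hσ i).1.symm ▸ h2, fun z hz => ((hσ i).2 z hz).trans (h3 z hz)⟩

/-- **UNI+ for `Mul`**, every stage, any `q`. -/
theorem blkU_of {K' : Subgroup G} {k : ℕ} (hk : 2 ≤ k) {L W Z C : Fin k → Subgroup G} {q : ℕ}
    (h : Mul S P K' B ZJ L W Z C q) : BlkU B ZJ Z C q := by
  obtain ⟨F, _, _, _, rfl, ⟨N⟩⟩ := h.nat
  cases h.stg with
  | neg hj =>
    obtain ⟨L₁, Z₁, A₁, hB, -⟩ := NO3S.EThree.Frame.exists_bs ⟨h.hyp.toHypN, hj⟩ hk N.toNatK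
    have hl : Line S P L₁ _ Z₁ _ A₁ (Nat.card F) := ⟨hB.hyp, hB.fr, hB.two⟩
    have htr : ∀ i j : Fin k, ∃ s ∈ (S : Subgroup G), cj s (Z₁ i) = Z₁ j := fun i j => by
      obtain ⟨s, hs, e⟩ := hB.trans i j
      exact ⟨s, hs, (hB.cj_Z_iff hs).2 e⟩
    exact BlkU.of_bg (blkU_neg hl htr) h.bg
  | lev n hall hn hn1 =>
    obtain ⟨M, L₁, Z₁, A₁, -, hfr, -⟩ := Lev.Main.bg_lev h.hyp.toHypN hn hn1 hk N rfl
    exact BlkU.of_bg (blkU_lev S rfl rfl hfr) h.bg

/-- **NonLoc for `Mul`, `k = 2`**, every stage, any `q`. -/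
theorem nonloc_mul {K' : Subgroup G} {L W Z C : Fin 2 → Subgroup G}
    (h : Mul S P K' B ZJ L W Z C q) (hE : NLoc (KZ B ZJ)) :
    NonLoc (normalizer (Z 0 : Set G)) (normalizer (Z 1 : Set G)) :=
  nonloc_of h.bg (blkU_of le_rfl h) (by decide) (by decide) hE

end bg

end Cfsg.Agent.Omega.NO3S.EThree.NonLocQ
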