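import Cfsg.Agent.Omega.NO3S.EThree.FrameGB
import Cfsg.Agent.Omega.NO3S.EThree.TEnd
import Cfsg.Agent.Omega.NO3S.EThree.TIdx

/-!
# NO-3S, case (E), `[N_1, N_2] ≤ Z_1Z_2`, over the frame `Bg` (all `q`, every level)

* `Bg.core_sq` : a subgroup `J ⊴ N_G(Z i)` with `y² ∈ C(N_1)` for all `y ∈ J` centralises `N_1`;
* `Bg.toTQL` : two blocks, TI, nonlocal, `1 ≠ [N_1, N_2] ≤ Z_1Z_2` give `TQL`;
* `Bg.comm_false` : this is impossible.
-/

set_option autoImplicit false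
set_option linter.unusedSectionVars false

namespace Cfsg.Agent.Omega.NO3S.EThree.Frame

open Subgroup Cfsg Cfsg.Agent.ZN.ChoiceBase
open Cfsg.Agent.ZN (jj zj bau zc zl o2)
open Cfsg.Agent.ZN.ChoiceSit (Syl exists_syl syl_conj syl_not_dvd)
open Cfsg.Agent.Omega.OM Cfsg.Agent.Omega.OM.Uni
open Cfsg.Agent.Omega.MinPar (NonLoc)
open scoped Pointwise

universe u

variable {G : Type u} [Group G]

/-- `|F ⊔ X : F| = |X : F ∩ X|` for `X ≤ N(F)` -/
theorem relIndex_sup_nor {F X : Subgroup G} (h : X ≤ normalizer (F : Set G)) :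
    F.relIndex (F ⊔ X) = F.relIndex X := by
  have hF : F ≤ F ⊔ X := le_sup_left
  have hX : X ≤ F ⊔ X := le_sup_right
  have hn : (F.subgroupOf (F ⊔ X)).Normal := by
    rw [← normalizer_eq_top_iff, eq_top_iff]
    have h1 : F ⊔ X ≤ normalizer (F : Set G) := sup_le Subgroup.le_normalizer h
    rintro ⟨x, hx⟩ -
    rw [mem_normalizer_iff]
    rintro ⟨y, hy⟩
    simp only [mem_subgroupOf]
    exact mem_normalizer_iff.1 (h1 hx) y
  have h1 := relIndex_sup_left (X.subgroupOf (F ⊔ X)) (F.subgroupOf (F ⊔ X))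
  have h2 : F.subgroupOf (F ⊔ X) ⊔ X.subgroupOf (F ⊔ X) = (F ⊔ X).subgroupOf (F ⊔ X) :=
    (subgroupOf_sup hF hX).symm
  rw [h2] at h1
  rwa [relIndex_subgroupOf le_rfl, relIndex_subgroupOf hX] at h1

namespace Bg

section A

variable [Finite G] {S : Sylow 2 G} {P : Subgroup G} {ι : Type} {B ZJ : Subgroup G}
  {L W Z C : ι → Subgroup G} {q : ℕ} (h : Bg S P B ZJ L W Z C q) {i j : ι} {s : G} (p : Pa (S : Subgroup G) W i j s)
include h p

/-- A subgroup `J ⊴ H₁` with `y² ∈ C(N₁)` for all `y ∈ J` centralises `N₁`. -/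
theorem core_sq [Finite ι] {J : Subgroup G} (hJ : J ≤ normalizer (Z i : Set G))
    (hn : normalizer (Z i : Set G) ≤ normalizer (J : Set G))
    (hsq : ∀ y ∈ J, y * y ∈ centralizer (PG.NN ![Z i, Z j] (Z i) : Set G)) :
    J ≤ centralizer (PG.NN ![Z i, Z j] (Z i) : Set G) := by
  have : Fact (Nat.Prime 2) := ⟨Nat.prime_two⟩
  set H : Subgroup G := normalizer (Z i : Set G) with hH
  set F : Subgroup G := PG.FF ![Z i, Z j] (Z i) with hF
  set T : Subgroup G := (S : Subgroup G) ⊓ H with hT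
  set M : Subgroup G := F ⊔ J with hM
  have hFH : F ≤ H := inf_le_left
  have hMH : M ≤ H := sup_le hFH hJ
  have hFn : H ≤ normalizer (F : Set G) := PG.PP.HH_le_FF (Z i)
  have hMn : H ≤ normalizer (M : Set G) := by
    intro x hx
    rw [mem_normalizer_iff_cj, hM]
    refine (conj_sup' x F J).trans ?_
    exact congrArg₂ (· ⊔ ·) (cj_eq_of_mem_normalizer (hFn hx)) (cj_eq_of_mem_normalizer (hn hx))
  have hTH : T ≤ H := inf_le_right
  -- `|M : F|` is a power of 2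
  have h1 : ∃ n, F.relIndex M = 2 ^ n := by
    rw [hM, relIndex_sup_nor (hJ.trans hFn)]
    have hnor : (F.subgroupOf J).Normal := by
      rw [← normalizer_eq_top_iff, eq_top_iff]
      rintro ⟨x, hx⟩ -
      rw [mem_normalizer_iff]
      rintro ⟨y, hy⟩
      simp only [mem_subgroupOf]
      exact mem_normalizer_iff.1 (hFn (hJ hx)) y
    have h2 : IsPGroup 2 (J ⧸ F.subgroupOf J) := by
      intro x
      obtain ⟨y, rfl⟩ := QuotientGroup.mk'_surjective _ x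
      refine ⟨1, ?_⟩
      rw [← map_pow, pow_one, pow_two, QuotientGroup.mk'_apply, QuotientGroup.eq_one_iff, mem_subgroupOf]
      exact ⟨hJ (y * y).2, hsq y y.2⟩
    obtain ⟨n, hn⟩ := IsPGroup.iff_card.1 h2
    exact ⟨n, by rw [relIndex, index, hn]⟩
  -- `|M : T ∩ M|` is odd
  have h2 : ¬ 2 ∣ (T ⊓ M).relIndex M := by
    rw [inf_relIndex_right]
    intro hd
    apply syl_not_dvd (h.syl i)
    refine hd.trans ?_
    have h3 : T.relIndex M ∣ T.relIndex H := by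
      have h4 : T.relIndex M = T.relIndex (M ⊔ T) := by
        have e1 : M.relIndex (M ⊔ T) = M.relIndex T := relIndex_sup_nor (hTH.trans hMn)
        have e2 := relIndex_mul_relIndex (T ⊓ M) M (M ⊔ T) inf_le_right le_sup_left
        have e3 := relIndex_mul_relIndex (T ⊓ M) T (M ⊔ T) inf_le_left le_sup_right
        rw [inf_relIndex_right, e1] at e2
        rw [inf_relIndex_left, mul_comm, ← e2] at e3
        exact (Nat.eq_of_mul_eq_mul_right (Nat.pos_of_dvd_of_pos (relIndex_dvd_card M T) Nat.card_pos)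
          (by rw [mul_comm, ← e3, mul_comm])).symm
      rw [h4, ← relIndex_mul_relIndex T (M ⊔ T) H le_sup_right (sup_le hMH hTH)]
      exact dvd_mul_right _ _
    exact h3
  -- `F ⊔ (T ∩ M) = M`
  have h3 : F ⊔ (T ⊓ M) = M := by
    refine le_antisymm (sup_le le_sup_left inf_le_right) ?_
    rw [← relIndex_eq_one]
    obtain ⟨n, hn⟩ := h1
    have e1 : (F ⊔ (T ⊓ M)).relIndex M ∣ 2 ^ n := hn ▸ relIndex_dvd_of_le_left _ le_sup_left
    have e2 : (F ⊔ (T ⊓ M)).relIndex M ∣ (T ⊓ M).relIndex M := relIndex_dvd_of_le_left _ le_sup_right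
    obtain ⟨a, -, ha⟩ := (Nat.dvd_prime_pow Nat.prime_two).1 e1
    rcases Nat.eq_zero_or_pos a with rfl | ha0
    · simpa using ha
    · exact absurd ((dvd_pow_self 2 ha0.ne').trans (ha ▸ e2)) h2
  have h4 : T ⊓ M ≤ F := h.core p (R := T ⊓ M) inf_le_left (by rw [← hF, h3]; exact hMn)
  have h5 : M ≤ F := by
    rw [← h3]
    exact sup_le le_rfl h4
  exact (le_sup_right.trans h5).trans inf_le_right

theorem toTQL [Finite ι] (h2 : ∀ l : ι, l = i ∨ l = j) (hTI : TI (Z i))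
    (hnl : NonLoc (normalizer (Z i : Set G)) (normalizer (Z j : Set G)))
    (com : ∀ n ∈ PG.NN ![Z i, Z j] (Z i), ∀ t ∈ PG.NN ![Z i, Z j] (Z j), n * t * n⁻¹ * t⁻¹ ∈ Z i ⊔ Z j)
    (nc : ¬ PG.NN ![Z i, Z j] (Z i) ≤ centralizer (PG.NN ![Z i, Z j] (Z j) : Set G)) :
    TQL ![Z i, Z j] ![W i, W j] B := by
  have PP' := h.toPP p hTI hnl
  have hsZ : cj s (Z i) = Z j := h.cj_s_Z p
  have ti : ∀ a b : Subgroup G, PG.IsPt ![Z i, Z j] a → PG.IsPt ![Z i, Z j] b → ∀ x ∈ a, x ∈ b → x ≠ 1 → a = b := by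
    rintro _ _ ⟨k, rfl⟩ ⟨l, rfl⟩ x hx hx' hx1
    have h1 : cj (l⁻¹ * k) (Z i) = Z i := by
      apply hTI
      intro hbot
      have h3 : l⁻¹ * x * l ∈ cj (l⁻¹ * k) (Z i) ⊓ Z i := by
        refine mem_inf.2 ⟨?_, mem_cj.1 hx'⟩
        rw [mem_cj]
        have e : (l⁻¹ * k)⁻¹ * (l⁻¹ * x * l) * (l⁻¹ * k) = k⁻¹ * x * k := by group
        rw [e]
        exact mem_cj.1 hx
      rw [hbot, mem_bot] at h3
      apply hx1
      have e : x = l * (l⁻¹ * x * l) * l⁻¹ := by group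
      rw [e, h3]; group
    have h3 := congrArg (cj l) h1
    rw [cj_cj, mul_inv_cancel_left] at h3
    exact h3
  have hNZ : Z i ⊔ Z j ≤ ZJ := sup_le (h.fr.Z_le i) (h.fr.Z_le j)
  have hpi : PG.IsPt ![Z i, Z j] (Z i) := ⟨1, by rw [map_one, one_smul]; rfl⟩
  have hpj : PG.IsPt ![Z i, Z j] (Z j) := ⟨s, hsZ.symm⟩
  have Q0 : TQ0 ![Z i, Z j] ![W i, W j] := by
    refine
      { toPP := PP'
        ti := ti
        fus := ?_
        self := ?_
        com := com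
        nc := nc
        pts := ?_
        cardU := ?_
        UQ' := h.W_le_o2 i }
    · rintro a ⟨g, rfl⟩ x hx hx' hx1
      change x ∈ Z i ⊔ Z j at hx'
      obtain ⟨l, hl⟩ := h.fus (hNZ hx') (mem_cj.1 hx)
      rcases h2 l with rfl | rfl
      · left
        exact ti _ _ ⟨g, rfl⟩ hpi x hx hl hx1
      · right
        exact ti _ _ ⟨g, rfl⟩ hpj x hx hl hx1
    · exact PP'.N_le_Q.trans (h.o2_cent i)
    · intro x hx hx1
      obtain ⟨l, hl, hlc, y, hy, e⟩ := h.tr i x hx hx1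
      refine ⟨cj l (Z i), ⟨l, rfl⟩, ?_, ?_⟩
      · change cj l (Z i) ≤ W i
        rw [← h.fix hl hlc i]
        exact cj_mono l (h.fr.blk i).ZV
      · rw [← e]
        exact ⟨y, hy, rfl⟩
    · change Nat.card (W i) = Nat.card (Z i) ^ 2
      rw [(h.fr.blk i).card, h.fr.cardZ i, pow_two]
  refine
    { toTQ := Q0.toTQ
      core := fun J hJ hn hsq => h.core_sq p hJ hn hsq
      B2 := h.bau_two
      B0 := (h.bau_le_T i).trans inf_le_right
      B1 := (h.bau_le_T j).trans inf_le_right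
      BU := fun x hx b hb => (h.fr.blk i).com b hb x hx
      Bfix := ?_
      ab := ?_ }
  · intro n hn hfix
    change n ∈ PG.NN ![Z i, Z j] (Z i) at hn
    change n ∈ Z i ⊔ Z j
    have hnB : n ∈ B := h.o2_le i (PP'.N_le_Q hn)
    have hn2 : n ^ 2 = 1 := NoFF.Lines.Geo.sq_of_comm (PP'.NN_comm hpi)
      (ι := {u : Subgroup G // PG.Adj ![Z i, Z j] (Z i) u}) (B := fun u => (u : Subgroup G)) (fun u => u.2.le_NN)
      (sSup_le fun u hu => le_iSup (fun u : {u : Subgroup G // PG.Adj ![Z i, Z j] (Z i) u} => (u : Subgroup G))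
        ⟨u, hu⟩) (fun u => PP'.ZsqConj (PP'.adj_pt u.2)) n hn
    have hz : n ∈ ZJ := by
      rw [← h.fr.zcB, mem_zc]
      refine ⟨hnB, hn2, fun b hb => ?_⟩
      exact mul_inv_eq_iff_eq_mul.1 (hfix b hb)
    obtain ⟨w, hw, c, hc, hcJ, rfl⟩ := h.fr.split_ZJ i hz
    refine mul_mem (mem_sup_left hw) (mem_sup_right ?_)
    obtain ⟨w', hw', c', hc', -, e⟩ := h.fr.split_ZJ j hcJ
    -- `c' ∈ C i ⊓ C j = 1`
    have h3 : c' ∈ C i := by
      have : c' = w'⁻¹ * c := by rw [e]; group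
      rw [this]
      exact mul_mem (inv_mem (h.fr.WjC i j p.ne ((h.fr.blk j).ZV hw') : _)) hc
    have h4 : c' = 1 := h.fr.C0 _ (h.fr.CV i h3) fun l => by
      rcases h2 l with rfl | rfl
      · exact h3
      · exact hc'
    rw [e, h4, mul_one]
    exact hw'
  · rintro _ _ ⟨k, hk, rfl⟩ ⟨k', hk', rfl⟩
    have e1 : k ∈ normalizer (Z i : Set G) := mem_normalizer_iff_cj.2 hk.symm
    have e2 : k' ∈ normalizer (Z i : Set G) := mem_normalizer_iff_cj.2 hk'.symm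
    refine le_trans (cj_mono k (h.fr.WV i)) ((h.comm i e1 e2).trans (centralizer_le ?_))
    exact cj_mono k' (h.fr.WV i)

/-- **`1 ≠ [N_1, N_2] ≤ Z_1Z_2` is impossible (two blocks, all `q`, radical or not).** -/
theorem comm_false [Finite ι] (h2 : ∀ l : ι, l = i ∨ l = j) (hTI : TI (Z i))
    (hnl : NonLoc (normalizer (Z i : Set G)) (normalizer (Z j : Set G)))
    (com : ∀ n ∈ PG.NN ![Z i, Z j] (Z i), ∀ t ∈ PG.NN ![Z i, Z j] (Z j), n * t * n⁻¹ * t⁻¹ ∈ Z i ⊔ Z j)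
    (nc : ¬ PG.NN ![Z i, Z j] (Z i) ≤ centralizer (PG.NN ![Z i, Z j] (Z j) : Set G)) : False :=
  (h.toTQL p h2 hTI hnl com nc).false

/-- `[N_1, N_2] ≤ Z_1Z_2` implies `[N_1, N_2] = 1`. -/
theorem comm_of_le [Finite ι] (h2 : ∀ l : ι, l = i ∨ l = j) (hTI : TI (Z i))
    (hnl : NonLoc (normalizer (Z i : Set G)) (normalizer (Z j : Set G)))
    (com : ∀ n ∈ PG.NN ![Z i, Z j] (Z i), ∀ t ∈ PG.NN ![Z i, Z j] (Z j), n * t * n⁻¹ * t⁻¹ ∈ Z i ⊔ Z j) :
    PG.NN ![Z i, Z j] (Z i) ≤ centralizer (PG.NN ![Z i, Z j] (Z j) : Set G) := by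
  by_contra nc
  exact h.comm_false p h2 hTI hnl com nc

/-- `[N_1, N_2] ≠ 1` implies `N_1 ∩ N_2 ≰ Z_1Z_2`. -/
theorem not_inter_le [Finite ι] (h2 : ∀ l : ι, l = i ∨ l = j) (hTI : TI (Z i))
    (hnl : NonLoc (normalizer (Z i : Set G)) (normalizer (Z j : Set G)))
    (nc : ¬ PG.NN ![Z i, Z j] (Z i) ≤ centralizer (PG.NN ![Z i, Z j] (Z j) : Set G)) :
    ¬ PG.NN ![Z i, Z j] (Z i) ⊓ PG.NN ![Z i, Z j] (Z j) ≤ Z i ⊔ Z j := by
  intro hle
  have PP' := h.toPP p hTI hnl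
  have hA : PG.Adj ![Z i, Z j] (Z i) (Z j) := ⟨1, by rw [map_one, one_smul]; rfl, by rw [map_one, one_smul]; rfl⟩
  have hA' := PP'.adj_symm hA
  refine nc (h.comm_of_le p h2 hTI hnl fun n hn t ht => hle (mem_inf.2 ⟨?_, ?_⟩))
  · have h1 : t ∈ normalizer (PG.NN ![Z i, Z j] (Z i) : Set G) :=
      PG.PP.HH_le_NN (Z i) (PP'.QQ_le_HH hA (PP'.NN_le_QQ hA'.pt ht))
    have h3 : t * n⁻¹ * t⁻¹ ∈ PG.NN ![Z i, Z j] (Z i) := (mem_normalizer_iff.1 h1 _).1 (inv_mem hn)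
    have e : n * t * n⁻¹ * t⁻¹ = n * (t * n⁻¹ * t⁻¹) := by group
    rw [e]
    exact mul_mem hn h3
  · have h1 : n ∈ normalizer (PG.NN ![Z i, Z j] (Z j) : Set G) :=
      PG.PP.HH_le_NN (Z j) (PP'.QQ_le_HH hA' (PP'.NN_le_QQ hA.pt hn))
    exact mul_mem ((mem_normalizer_iff.1 h1 _).1 ht) (inv_mem ht)

end A

end Bg

end Cfsg.Agent.Omega.NO3S.EThree.Frame
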