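import Cfsg.Agent.Omega.Node.MultiOf
import Cfsg.Agent.Omega.NO3S.EThree.TPlug

/-!
# Row (7) of the ledger #22041: `EOf K (k = 2 ∧ 4 ≤ q)`, all stages (assembly)

* `MQ` : `Mul`, `k = 2`, `4 ≤ q`, case (E), TI, nonlocal;
* sockets: `TiIn` (TI or (4F)), `FourIn` ((4F) without TI), `NonLocIn`, `VIn` (`W i ≰ N_i`, THEOREM R for `q ≥ 4`),
  `KIn` (`W i ≤ N_i`, #22723);
* `MQ.le_iff` : the swap: `W 0 ≤ N_0 ↔ W 1 ≤ N_1`; `MQ.comm_false` : `1 ≠ [N_0, N_1] ≤ Z_0Z_1` is impossible;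
* `eOf_of` : **row (7)**.
-/

set_option autoImplicit false
set_option linter.unusedSectionVars false

namespace Cfsg.Agent.Omega.NO3S.EThree.Row7

open Subgroup Cfsg Cfsg.Agent.ZN.ChoiceBase
open Cfsg.Agent.ZN (jj zj bau zc zl o2)
open Cfsg.Agent.Omega.OM
open Cfsg.Agent.Omega.NO3S.EThree.Frame
open Cfsg.Agent.Omega.MinPar (NonLoc)
open Cfsg.Agent.Omega.Frame (Cls)
open Cfsg.Agent.Omega.Node.MultiOf
open scoped Pointwise

universe u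

variable {G : Type u} [Group G]

theorem vec2 {α : Type*} (Z : Fin 2 → α) : ![Z 0, Z 1] = Z := by
  funext i
  fin_cases i <;> rfl

theorem vec2' {α : Type*} (Z : Fin 2 → α) : ![Z 1, Z 0] = Z ∘ Equiv.swap 0 1 := by
  funext i
  fin_cases i <;> rfl

theorem fin2 : ∀ a : Fin 2, a = 0 ∨ a = 1 := by decide

/-- **(4F)**: `q = 4` and some 2-element of `N_G(B)` centralises a hyperplane of `Z_J`. -/
def FourF (B ZJ : Subgroup G) (q : ℕ) : Prop :=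
  q = 4 ∧ ∃ t ∈ normalizer (B : Set G), (∃ n : ℕ, t ^ 2 ^ n = 1) ∧
    Nat.card ZJ = 2 * Nat.card ↥(ZJ ⊓ centralizer ({t} : Set G))

/-- `N_i = ⟨Z_j ^ N_G(Z_i)⟩` -/
abbrev Nn (Z : Fin 2 → Subgroup G) (i : Fin 2) : Subgroup G := PG.NN Z (Z i)

/-- **The data of row (7).** -/
structure MQ [Finite G] (S : Sylow 2 G) (P K B ZJ : Subgroup G) (L W Z C : Fin 2 → Subgroup G) (q : ℕ) : Prop where
  mul : Mul S P K B ZJ L W Z C q
  hq : 4 ≤ q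
  nloc : NLoc (KZ B ZJ)
  ti : ∀ i, TI (Z i)
  nonloc : NonLoc (normalizer (Z 0 : Set G)) (normalizer (Z 1 : Set G))

/-! ### Sockets -/

section sockets

variable (K : Cls.{u})

/-- TI, or (4F) -/
def TiIn : Prop :=
  ∀ (G : Type u) [Group G] [Finite G], K G → ∀ (S : Sylow 2 G) (P K' B ZJ : Subgroup G)
    (L W Z C : Fin 2 → Subgroup G) (q : ℕ), 4 ≤ q → Mul S P K' B ZJ L W Z C q → NLoc (KZ B ZJ) →
      (∀ i, TI (Z i)) ∨ FourF B ZJ q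

/-- (4F) without TI -/
def FourIn : Prop :=
  ∀ (G : Type u) [Group G] [Finite G], K G → ∀ (S : Sylow 2 G) (P K' B ZJ : Subgroup G)
    (L W Z C : Fin 2 → Subgroup G) (q : ℕ), 4 ≤ q → Mul S P K' B ZJ L W Z C q → NLoc (KZ B ZJ) →
      FourF B ZJ q → ¬ (∀ i, TI (Z i)) → IsKnownSimple' G

/-- nonlocal -/
def NonLocIn : Prop :=
  ∀ (G : Type u) [Group G] [Finite G], K G → ∀ (S : Sylow 2 G) (P K' B ZJ : Subgroup G)
    (L W Z C : Fin 2 → Subgroup G) (q : ℕ), 4 ≤ q → Mul S P K' B ZJ L W Z C q → NLoc (KZ B ZJ) →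
      NonLoc (normalizer (Z 0 : Set G)) (normalizer (Z 1 : Set G))

/-- **(A)** `W i ≰ N_i` is impossible (THEOREM R for `q ≥ 4`). -/
def VIn : Prop :=
  ∀ (G : Type u) [Group G] [Finite G], K G → ∀ (S : Sylow 2 G) (P K' B ZJ : Subgroup G)
    (L W Z C : Fin 2 → Subgroup G) (q : ℕ), MQ S P K' B ZJ L W Z C q → (∀ i, ¬ W i ≤ Nn Z i) → False

/-- **(B)** `W i ≤ N_i` (#22723). -/
def KIn : Prop :=
  ∀ (G : Type u) [Group G] [Finite G], K G → ∀ (S : Sylow 2 G) (P K' B ZJ : Subgroup G)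
    (L W Z C : Fin 2 → Subgroup G) (q : ℕ), MQ S P K' B ZJ L W Z C q → (∀ i, W i ≤ Nn Z i) → IsKnownSimple' G

end sockets

namespace MQ

section

variable [Finite G] {S : Sylow 2 G} {P K' B ZJ : Subgroup G} {L W Z C : Fin 2 → Subgroup G} {q : ℕ}

theorem bg (h : MQ S P K' B ZJ L W Z C q) : Bg S P B ZJ L W Z C q := h.mul.bg

/-- The swap. -/
theorem exists_pa (h : MQ S P K' B ZJ L W Z C q) : ∃ s, Pa (S : Subgroup G) W 0 1 s := by
  obtain ⟨j, s, p⟩ := h.bg.exists_partner 0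
  rcases fin2 j with rfl | rfl
  · exact absurd rfl p.ne
  · exact ⟨s, p⟩

theorem le_iff (h : MQ S P K' B ZJ L W Z C q) : W 0 ≤ Nn Z 0 ↔ W 1 ≤ Nn Z 1 := by
  obtain ⟨s, p⟩ := h.exists_pa
  have hPP : PG.PP Z W := by
    have := h.bg.toPP p (h.ti 0) h.nonloc
    rwa [vec2, vec2] at this
  have e0 : cj s (Z 0) = Z 1 := h.bg.cj_s_Z p
  have e1 : cj s (Nn Z 0) = Nn Z 1 := by
    have h1 : PG.NN Z (cj s (Z 0)) = cj s (PG.NN Z (Z 0)) := PG.NN_conj s (Z 0)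
    rw [e0] at h1
    exact h1.symm
  constructor
  · intro h1
    rw [← e1, ← p.ij]
    exact cj_mono s h1
  · intro h1
    have h2 : cj s (W 0) ≤ cj s (Nn Z 0) := by rw [e1, p.ij]; exact h1
    rwa [cj_le_iff, cj_inv_cj] at h2

/-- `1 ≠ [N_0, N_1] ≤ Z_0Z_1` is impossible. -/
theorem comm_false (h : MQ S P K' B ZJ L W Z C q)
    (com : ∀ x ∈ Nn Z 0, ∀ y ∈ Nn Z 1, x * y * x⁻¹ * y⁻¹ ∈ Z 0 ⊔ Z 1)
    (nc : ¬ Nn Z 0 ≤ centralizer (Nn Z 1 : Set G)) : False := by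
  obtain ⟨s, p⟩ := h.exists_pa
  refine h.bg.comm_false p (fun l => fin2 l) (h.ti 0) h.nonloc ?_ ?_
  · rw [vec2]
    exact com
  · rw [vec2]
    exact nc

/-- `[N_0, N_1] = 1` if `N_0 ∩ N_1 ≤ Z_0Z_1`. -/
theorem com_of_inter (h : MQ S P K' B ZJ L W Z C q) (hi : Nn Z 0 ⊓ Nn Z 1 ≤ Z 0 ⊔ Z 1) :
    Nn Z 0 ≤ centralizer (Nn Z 1 : Set G) := by
  by_contra nc
  refine h.comm_false (fun x hx y hy => hi ?_) nc
  obtain ⟨s, p⟩ := h.exists_pa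
  have hPP : PG.PP Z W := by
    have := h.bg.toPP p (h.ti 0) h.nonloc
    rwa [vec2, vec2] at this
  have a01 : PG.Adj Z (Z 0) (Z 1) := ⟨1, by rw [map_one, one_smul], by rw [map_one, one_smul]⟩
  have pt0 : PG.IsPt Z (Z 0) := ⟨1, by rw [map_one, one_smul]⟩
  have h1 : Nn Z 0 ≤ PG.HH (Z 1) := (hPP.NN_le_QQ pt0).trans (hPP.QQ_le_HH (hPP.adj_symm a01))
  have h2 : Nn Z 1 ≤ PG.HH (Z 0) := (hPP.NN_le_QQ (hPP.adj_pt a01)).trans (hPP.QQ_le_HH a01)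
  refine mem_inf.2 ⟨?_, ?_⟩
  · have e : x * y * x⁻¹ * y⁻¹ = x * (y * x⁻¹ * y⁻¹) := by group
    rw [e]
    exact mul_mem hx ((mem_normalizer_iff.1 (PG.PP.HH_le_NN (Z 0) (h2 hy)) _).1 (inv_mem hx))
  · exact mul_mem ((mem_normalizer_iff.1 (PG.PP.HH_le_NN (Z 1) (h1 hx)) _).1 hy) (inv_mem hy)

end

end MQ

/-- **Row (7)** from its sockets. -/
theorem eOf_of {K : Cls.{u}} (hT : TiIn K) (hF : FourIn K) (hN : NonLocIn K) (hV : VIn K) (hK : KIn K) :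
    EOf K fun k q => k = 2 ∧ 4 ≤ q := by
  rintro G _ _ hG S P K' B ZJ k L W Z C q - ⟨rfl, hq⟩ hM hNL
  by_cases hti : ∀ i, TI (Z i)
  · have h : MQ S P K' B ZJ L W Z C q := ⟨hM, hq, hNL, hti, hN G hG S P K' B ZJ L W Z C q hq hM hNL⟩
    by_cases h0 : W 0 ≤ Nn Z 0
    · refine hK G hG S P K' B ZJ L W Z C q h fun i => ?_
      rcases fin2 i with rfl | rfl
      · exact h0
      · exact h.le_iff.1 h0
    · refine (hV G hG S P K' B ZJ L W Z C q h fun i => ?_).elim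
      rcases fin2 i with rfl | rfl
      · exact h0
      · exact fun h1 => h0 (h.le_iff.2 h1)
  · exact hF G hG S P K' B ZJ L W Z C q hq hM hNL ((hT G hG S P K' B ZJ L W Z C q hq hM hNL).resolve_left hti) hti

end Cfsg.Agent.Omega.NO3S.EThree.Row7
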