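import Mathlib

/-!
# TEXT R3 (helper609 #16982), STEP F

`F_1` is not transitive on `V_1^{D_12}`.  Abstract form: `S` permutes the blocks (conjugates of `Z`, `V`, `L` under `S`),
`s ∈ S` interchanges the partners `Z` and `Z_2 = sZ`; `H = N(Z)`, `D = H ∩ N(sZ)`.

* `Hyp` : the hypotheses; `Hyp.stepF` : `D ≤ F (D ∩ N(V))` ⟹ the conjugates of `Z` under `⟨N(Z), N(sZ)⟩` commute;
* `Hyp.not_le` : so, if no nontrivial elementary abelian 2-group is normalised by `N(Z)` and `N(sZ)`, then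
  `¬ D ≤ F ⊔ (D ⊓ N(V))`.
* `cov_of` : the field `cov` from the action of `H` on the components of `N_1`.

The components of `N_a` are not needed: everything takes place in the cosets of `X = ⟨H, L⟩` (`= E H`, `E = ⟨F, L⟩`,
`E ≤ N(sZ)`), and the point is `X s ⊆ S X`.
-/

set_option autoImplicit false

namespace Cfsg.Agent.Omega.NO3S.EThree.StepF

open Subgroup
open scoped Pointwise

variable {G : Type*} [Group G]

/-- the conjugate `g A g⁻¹` -/
def cn (g : G) (A : Subgroup G) : Subgroup G := MulAut.conj g • A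

theorem mem_cn {g x : G} {A : Subgroup G} : x ∈ cn g A ↔ g⁻¹ * x * g ∈ A := by
  unfold cn
  rw [Subgroup.mem_pointwise_smul_iff_inv_smul_mem, ← map_inv, MulAut.smul_def, MulAut.conj_apply, inv_inv]

theorem conj_mem_cn {g x : G} {A : Subgroup G} (hx : x ∈ A) : g * x * g⁻¹ ∈ cn g A := by
  rw [mem_cn]
  have : g⁻¹ * (g * x * g⁻¹) * g = x := by group
  rwa [this]

theorem cn_mul (g k : G) (A : Subgroup G) : cn (g * k) A = cn g (cn k A) := by
  ext x
  rw [mem_cn, mem_cn, mem_cn]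
  have : (g * k)⁻¹ * x * (g * k) = k⁻¹ * (g⁻¹ * x * g) * k := by group
  rw [this]

theorem cn_one (A : Subgroup G) : cn 1 A = A := by
  ext x
  rw [mem_cn]; simp

theorem cn_eq_iff {g : G} {A : Subgroup G} : cn g A = A ↔ g ∈ normalizer (A : Set G) := by
  rw [Subgroup.mem_normalizer_iff]
  constructor
  · intro h x
    constructor
    · intro hx
      have : g * x * g⁻¹ ∈ cn g A := conj_mem_cn hx
      rwa [h] at this
    · intro hx
      rw [← h, mem_cn] at hx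
      have e : g⁻¹ * (g * x * g⁻¹) * g = x := by group
      rwa [e] at hx
  · intro h
    ext x
    rw [mem_cn, h]
    have e : g * (g⁻¹ * x * g) * g⁻¹ = x := by group
    rw [e]

theorem cn_inv_of {g : G} {A : Subgroup G} (h : cn g A = A) : cn g⁻¹ A = A := by
  conv_lhs => rw [← h]
  rw [← cn_mul, inv_mul_cancel, cn_one]

theorem cn_eq_cn_iff {g k : G} {A : Subgroup G} : cn g A = cn k A ↔ k⁻¹ * g ∈ normalizer (A : Set G) := by
  rw [← cn_eq_iff, cn_mul]
  constructor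
  · intro h
    rw [h, ← cn_mul, inv_mul_cancel, cn_one]
  · intro h
    have := congrArg (cn k) h
    rwa [← cn_mul, mul_inv_cancel, cn_one] at this

theorem cn_mono (g : G) {A B : Subgroup G} (h : A ≤ B) : cn g A ≤ cn g B := fun x hx => by
  rw [mem_cn] at hx ⊢
  exact h hx

/-- **The hypotheses of STEP F.** -/
structure Hyp (S : Subgroup G) (s : G) (Z V L F : Subgroup G) : Prop where
  sS : s ∈ S
  /-- `s` interchanges `Z` and `sZ` -/
  ss : s * s ∈ normalizer (Z : Set G)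
  ne : cn s Z ≠ Z
  ZV : Z ≤ V
  LV : ∀ l ∈ L, cn l V = V
  /-- `L` is transitive on the points contained in `V` -/
  pts : ∀ g, cn g Z ≤ V → ∃ l ∈ L, cn g Z = cn l Z
  /-- the `L`'s of the other blocks centralise `V` -/
  blk : ∀ σ ∈ S, cn σ Z ≠ Z → ∀ l ∈ L, ∀ v ∈ V, (σ * l * σ⁻¹) * v = v * (σ * l * σ⁻¹)
  FD : F ≤ normalizer (Z : Set G) ⊓ normalizer (cn s Z : Set G)
  Fn : ∀ h ∈ normalizer (Z : Set G), ∀ f ∈ F, h * f * h⁻¹ ∈ F
  /-- `N_H(K_2) = ⟨D, L_2⟩`, every component of `N_1` contains a block, in which `V` is a line -/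
  cov : ∀ h ∈ normalizer (Z : Set G), ∃ c ∈ normalizer (Z : Set G),
    ∃ k ∈ closure (((normalizer (Z : Set G) ⊓ normalizer (cn s Z : Set G) : Subgroup G) : Set G) ∪ (cn s L : Set G)),
    ∃ σ ∈ S, h = c * k ∧ cn (c * s) Z = cn σ Z ∧ cn c V = V
  /-- `⟨V^{H_2}⟩` is abelian -/
  ab : ∀ σ ∈ S, ∀ h ∈ normalizer (cn s Z : Set G), ∀ a ∈ Z, ∀ b ∈ Z,
    (σ * a * σ⁻¹) * (h * b * h⁻¹) = (h * b * h⁻¹) * (σ * a * σ⁻¹)

namespace Hyp

variable {S : Subgroup G} {s : G} {Z V L F : Subgroup G}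

/-- the neighbours of `Z` among the blocks -/
def JJ (S : Subgroup G) (s : G) (Z : Subgroup G) (σ : G) : Prop :=
  σ ∈ S ∧ ∃ c ∈ normalizer (Z : Set G), cn σ Z = cn (c * s) Z

variable (H : Hyp S s Z V L F)

include H

theorem jj_ne {σ : G} (hσ : JJ S s Z σ) : cn σ Z ≠ Z := by
  obtain ⟨-, c, hc, e⟩ := hσ
  intro h
  apply H.ne
  rw [h, cn_mul] at e
  have h1 := congrArg (cn c⁻¹) e
  rw [← cn_mul c⁻¹ c, inv_mul_cancel, cn_one, cn_inv_of (cn_eq_iff.2 hc)] at h1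
  exact h1.symm

theorem jj_s : JJ S s Z s := ⟨H.sS, 1, one_mem _, by rw [one_mul]⟩

/-- `σ⁻¹ L σ ≤ N(Z)` for `σZ ≠ Z` -/
theorem L_conj {σ : G} (hσ : σ ∈ S) (hne : cn σ Z ≠ Z) {l : G} (hl : l ∈ L) :
    σ * l * σ⁻¹ ∈ normalizer (Z : Set G) := by
  rw [Subgroup.mem_normalizer_iff]
  have h1 : ∀ z ∈ Z, (σ * l * σ⁻¹) * z * (σ * l * σ⁻¹)⁻¹ = z := by
    intro z hz
    rw [H.blk σ hσ hne l hl z (H.ZV hz), mul_inv_cancel_right]
  intro z
  constructor
  · intro hz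
    rw [h1 z hz]; exact hz
  · intro hz
    have h2 : (σ * l * σ⁻¹) * ((σ * l * σ⁻¹) * z * (σ * l * σ⁻¹)⁻¹) =
        ((σ * l * σ⁻¹) * z * (σ * l * σ⁻¹)⁻¹) * (σ * l * σ⁻¹) := H.blk σ hσ hne l hl _ (H.ZV hz)
    have h3 : z = (σ * l * σ⁻¹) * z * (σ * l * σ⁻¹)⁻¹ := by
      have h4 : (σ * l * σ⁻¹)⁻¹ * ((σ * l * σ⁻¹) * ((σ * l * σ⁻¹) * z * (σ * l * σ⁻¹)⁻¹)) =
          (σ * l * σ⁻¹)⁻¹ * (((σ * l * σ⁻¹) * z * (σ * l * σ⁻¹)⁻¹) * (σ * l * σ⁻¹)) := by rw [h2]
      have h5 : (σ * l * σ⁻¹)⁻¹ * ((σ * l * σ⁻¹) * ((σ * l * σ⁻¹) * z * (σ * l * σ⁻¹)⁻¹)) =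
          (σ * l * σ⁻¹) * z * (σ * l * σ⁻¹)⁻¹ := by group
      have h6 : (σ * l * σ⁻¹)⁻¹ * (((σ * l * σ⁻¹) * z * (σ * l * σ⁻¹)⁻¹) * (σ * l * σ⁻¹)) = z := by group
      rw [h5, h6] at h4
      exact h4.symm
    rw [h3]; exact hz

omit H in
theorem ne_inv {σ : G} (hne : cn σ Z ≠ Z) : cn σ⁻¹ Z ≠ Z := by
  intro h
  apply hne
  have := cn_inv_of h
  rwa [inv_inv] at this

/-- `s⁻¹ D s ≤ D` -/
theorem D_conj {d : G} (hd : d ∈ normalizer (Z : Set G) ⊓ normalizer (cn s Z : Set G)) :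
    s⁻¹ * d * s ∈ normalizer (Z : Set G) ⊓ normalizer (cn s Z : Set G) := by
  rw [Subgroup.mem_inf, ← cn_eq_iff, ← cn_eq_iff] at hd ⊢
  have h1 : cn (s * s) Z = Z := cn_eq_iff.2 H.ss
  refine ⟨?_, ?_⟩
  · rw [cn_mul, cn_mul, hd.2, ← cn_mul, inv_mul_cancel, cn_one]
  · -- `s Z = s⁻¹ Z`
    have h2 : cn s Z = cn s⁻¹ Z := by
      have := congrArg (cn s⁻¹) h1
      rwa [← cn_mul, inv_mul_cancel_left] at this
    rw [h2, ← cn_mul]
    have h3 : s⁻¹ * d * s * s⁻¹ = s⁻¹ * d := by group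
    rw [h3, cn_mul, hd.1]

/-- **(N)** -/
theorem nbr {h : G} (hh : h ∈ normalizer (Z : Set G)) :
    ∃ σ, JJ S s Z σ ∧ ∃ x ∈ closure ((normalizer (Z : Set G) : Set G) ∪ (L : Set G)), h * s = σ * x := by
  obtain ⟨c, hc, k, hk, σ, hσ, e1, e2, -⟩ := H.cov h hh
  refine ⟨σ, ⟨hσ, c, hc, e2.symm⟩, σ⁻¹ * (c * s) * (s⁻¹ * k * s), mul_mem ?_ ?_, ?_⟩
  · exact subset_closure (Or.inl (cn_eq_cn_iff.1 e2))
  · clear e1
    induction hk using Subgroup.closure_induction with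
    | mem y hy =>
      rcases hy with hy | hy
      · exact subset_closure (Or.inl (Subgroup.mem_inf.1 (H.D_conj hy)).1)
      · exact subset_closure (Or.inr (mem_cn.1 hy))
    | one =>
      have : s⁻¹ * 1 * s = 1 := by group
      rw [this]; exact one_mem _
    | mul y z _ _ ihy ihz =>
      have : s⁻¹ * (y * z) * s = (s⁻¹ * y * s) * (s⁻¹ * z * s) := by group
      rw [this]; exact mul_mem ihy ihz
    | inv y _ ih =>
      have : s⁻¹ * y⁻¹ * s = (s⁻¹ * y * s)⁻¹ := by group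
      rw [this]; exact inv_mem ih
  · rw [e1]; group

/-- `X σ ⊆ S X` for neighbours `σ` -/
theorem X_comm {x : G} (hx : x ∈ closure ((normalizer (Z : Set G) : Set G) ∪ (L : Set G))) :
    ∀ σ, JJ S s Z σ → ∃ σ', JJ S s Z σ' ∧ ∃ x' ∈ closure ((normalizer (Z : Set G) : Set G) ∪ (L : Set G)),
      x * σ = σ' * x' := by
  have key : ∀ (x y : G), (y ∈ normalizer (Z : Set G) ∨ y ∈ L) →
      (∀ σ, JJ S s Z σ → ∃ σ', JJ S s Z σ' ∧ ∃ x' ∈ closure ((normalizer (Z : Set G) : Set G) ∪ (L : Set G)),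
        x * σ = σ' * x') →
      ∀ σ, JJ S s Z σ → ∃ σ', JJ S s Z σ' ∧ ∃ x' ∈ closure ((normalizer (Z : Set G) : Set G) ∪ (L : Set G)),
        x * y * σ = σ' * x' := by
    intro x y hy ih σ hσ
    rcases hy with hy | hy
    · obtain ⟨c, hc, e⟩ := hσ.2
      obtain ⟨σ1, hσ1, x1, hx1, e1⟩ := H.nbr (mul_mem hy hc)
      obtain ⟨σ2, hσ2, x2, hx2, e2⟩ := ih σ1 hσ1
      have h1 : (c * s)⁻¹ * σ ∈ normalizer (Z : Set G) := cn_eq_cn_iff.1 e
      refine ⟨σ2, hσ2, x2 * x1 * ((c * s)⁻¹ * σ), mul_mem (mul_mem hx2 hx1) (subset_closure (Or.inl h1)), ?_⟩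
      calc x * y * σ = x * ((y * c) * s) * ((c * s)⁻¹ * σ) := by group
        _ = (x * σ1) * x1 * ((c * s)⁻¹ * σ) := by rw [e1]; group
        _ = σ2 * (x2 * x1 * ((c * s)⁻¹ * σ)) := by rw [e2]; group
    · obtain ⟨σ1, hσ1, x1, hx1, e1⟩ := ih σ hσ
      have h1 : σ⁻¹ * y * σ⁻¹⁻¹ ∈ normalizer (Z : Set G) :=
        H.L_conj (inv_mem hσ.1) (ne_inv (H.jj_ne hσ)) hy
      rw [inv_inv] at h1
      refine ⟨σ1, hσ1, x1 * (σ⁻¹ * y * σ), mul_mem hx1 (subset_closure (Or.inl h1)), ?_⟩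
      calc x * y * σ = (x * σ) * (σ⁻¹ * y * σ) := by group
        _ = σ1 * (x1 * (σ⁻¹ * y * σ)) := by rw [e1]; group
  induction hx using Subgroup.closure_induction_right with
  | one => exact fun σ hσ => ⟨σ, hσ, 1, one_mem _, by rw [one_mul, mul_one]⟩
  | mul_right x hx y hy ih => exact key x y hy ih
  | mul_inv_cancel x hx y hy ih => exact key x y⁻¹ (hy.imp inv_mem inv_mem) ih

/-- `G₀ ⊆ S X` -/
theorem mem_SX {g : G} (hg : g ∈ normalizer (Z : Set G) ⊔ normalizer (cn s Z : Set G)) :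
    ∃ σ ∈ S, ∃ x ∈ closure ((normalizer (Z : Set G) : Set G) ∪ (L : Set G)), g = σ * x := by
  rw [Subgroup.sup_eq_closure] at hg
  suffices h : (∃ σ ∈ S, ∃ x ∈ closure ((normalizer (Z : Set G) : Set G) ∪ (L : Set G)), g = σ * x) ∧
      ∃ σ ∈ S, ∃ x ∈ closure ((normalizer (Z : Set G) : Set G) ∪ (L : Set G)), g * s = σ * x from h.1
  have step : ∀ g : G, (∃ σ ∈ S, ∃ x ∈ closure ((normalizer (Z : Set G) : Set G) ∪ (L : Set G)), g = σ * x) →
      ∀ h ∈ normalizer (Z : Set G),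
      ∃ σ ∈ S, ∃ x ∈ closure ((normalizer (Z : Set G) : Set G) ∪ (L : Set G)), g * h * s = σ * x := by
    rintro g ⟨σ, hσ, x, hx, rfl⟩ h hh
    obtain ⟨σ', hσ', x', hx', e⟩ := H.X_comm (mul_mem hx (subset_closure (Or.inl hh))) s H.jj_s
    refine ⟨σ * σ', mul_mem hσ hσ'.1, x', hx', ?_⟩
    calc σ * x * h * s = σ * ((x * h) * s) := by group
      _ = σ * σ' * x' := by rw [e]; group
  have key : ∀ (g y : G), (y ∈ normalizer (Z : Set G) ∨ y ∈ normalizer (cn s Z : Set G)) →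
      ((∃ σ ∈ S, ∃ x ∈ closure ((normalizer (Z : Set G) : Set G) ∪ (L : Set G)), g = σ * x) ∧
        ∃ σ ∈ S, ∃ x ∈ closure ((normalizer (Z : Set G) : Set G) ∪ (L : Set G)), g * s = σ * x) →
      ((∃ σ ∈ S, ∃ x ∈ closure ((normalizer (Z : Set G) : Set G) ∪ (L : Set G)), g * y = σ * x) ∧
        ∃ σ ∈ S, ∃ x ∈ closure ((normalizer (Z : Set G) : Set G) ∪ (L : Set G)), g * y * s = σ * x) := by
    rintro g y hy ⟨h1, h2⟩
    rcases hy with hy | hy
    · refine ⟨?_, step g h1 y hy⟩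
      obtain ⟨σ, hσ, x, hx, rfl⟩ := h1
      exact ⟨σ, hσ, x * y, mul_mem hx (subset_closure (Or.inl hy)), by group⟩
    · -- `y = s h s⁻¹`
      have hh : s⁻¹ * y * s ∈ normalizer (Z : Set G) := by
        rw [← cn_eq_iff] at hy ⊢
        rw [cn_mul, cn_mul, hy, ← cn_mul, inv_mul_cancel, cn_one]
      refine ⟨?_, ?_⟩
      · obtain ⟨σ, hσ, x, hx, e⟩ := step (g * s) h2 ((s⁻¹ * y * s) * (s * s)⁻¹) (mul_mem hh (inv_mem H.ss))
        refine ⟨σ, hσ, x, hx, ?_⟩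
        rw [← e]; group
      · obtain ⟨σ, hσ, x, hx, e⟩ := h2
        refine ⟨σ, hσ, x * (s⁻¹ * y * s), mul_mem hx (subset_closure (Or.inl hh)), ?_⟩
        calc g * y * s = (g * s) * (s⁻¹ * y * s) := by group
          _ = σ * (x * (s⁻¹ * y * s)) := by rw [e]; group
  induction hg using Subgroup.closure_induction_right with
  | one =>
    exact ⟨⟨1, one_mem _, 1, one_mem _, by rw [mul_one]⟩, ⟨s, H.sS, 1, one_mem _, by rw [one_mul, mul_one]⟩⟩
  | mul_right x hx y hy ih => exact key x y hy ih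
  | mul_inv_cancel x hx y hy ih => exact key x y⁻¹ (hy.imp inv_mem inv_mem) ih

section Trans

variable (htr : ∀ d ∈ normalizer (Z : Set G) ⊓ normalizer (cn s Z : Set G), ∃ f ∈ F, cn d V = cn f V)

include htr

/-- `V^H = V^F` -/
theorem line {h : G} (hh : h ∈ normalizer (Z : Set G)) : ∃ f ∈ F, cn h V = cn f V := by
  obtain ⟨c, hc, k, hk, σ, hσ, e1, e2, e3⟩ := H.cov h hh
  have hL2 : ∀ y ∈ cn s L, y ∈ normalizer (Z : Set G) ∧ cn y V = V := by
    intro y hy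
    have h1 : s * (s⁻¹ * y * s) * s⁻¹ = y := by group
    refine ⟨h1 ▸ H.L_conj H.sS H.ne (mem_cn.1 hy), ?_⟩
    have h2 : ∀ v ∈ V, y * v = v * y := by
      intro v hv
      have := H.blk s H.sS H.ne _ (mem_cn.1 hy) v hv
      rwa [h1] at this
    ext v
    rw [mem_cn]
    constructor
    · intro hv
      have h3 := h2 _ hv
      have h4 : v = y⁻¹ * v * y := by
        calc v = (y * (y⁻¹ * v * y)) * y⁻¹ := by group
          _ = y⁻¹ * v * y := by rw [h3]; group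
      rw [h4]; exact hv
    · intro hv
      have h4 : y⁻¹ * v * y = v := by
        rw [mul_assoc, ← h2 v hv, inv_mul_cancel_left]
      rw [h4]; exact hv
  have key : ∀ x y : G, (y ∈ normalizer (Z : Set G) ⊓ normalizer (cn s Z : Set G) ∨ y ∈ cn s L) →
      (∃ f ∈ F, cn x V = cn f V) → ∃ f ∈ F, cn (y * x) V = cn f V := by
    rintro x y hy ⟨f, hf, e⟩
    obtain ⟨hyH, f', hf', e'⟩ : y ∈ normalizer (Z : Set G) ∧ ∃ f' ∈ F, cn y V = cn f' V := by
      rcases hy with hy | hy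
      · exact ⟨(Subgroup.mem_inf.1 hy).1, htr y hy⟩
      · exact ⟨(hL2 y hy).1, 1, one_mem _, by rw [cn_one, (hL2 y hy).2]⟩
    refine ⟨(y * f * y⁻¹) * f', mul_mem (H.Fn y hyH f hf) hf', ?_⟩
    rw [cn_mul, e, ← cn_mul, cn_mul (y * f * y⁻¹), ← e', ← cn_mul]
    congr 1
    group
  have h1 : ∃ f ∈ F, cn k V = cn f V := by
    clear e1
    induction hk using Subgroup.closure_induction_left with
    | one => exact ⟨1, one_mem _, rfl⟩
    | mul_left y hy x hx ih => exact key x y hy ih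
    | inv_mul_cancel y hy x hx ih => exact key x y⁻¹ (hy.imp inv_mem inv_mem) ih
  obtain ⟨f, hf, e⟩ := h1
  refine ⟨c * f * c⁻¹, H.Fn c hc f hf, ?_⟩
  have e4 : c * f * c⁻¹ = (c * f) * c⁻¹ := rfl
  rw [e1, cn_mul, e, e4, cn_mul (c * f), cn_inv_of e3, cn_mul]

/-- `X = E H`, `E = ⟨F, L⟩` -/
theorem X_eq {x : G} (hx : x ∈ closure ((normalizer (Z : Set G) : Set G) ∪ (L : Set G))) :
    ∃ e ∈ closure ((F : Set G) ∪ (L : Set G)), ∃ h ∈ normalizer (Z : Set G), x = e * h := by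
  -- `H L ⊆ E H`
  have hHL : ∀ h ∈ normalizer (Z : Set G), ∀ l ∈ L,
      ∃ e ∈ closure ((F : Set G) ∪ (L : Set G)), ∃ h' ∈ normalizer (Z : Set G), h * l = e * h' := by
    intro h hh l hl
    obtain ⟨f, hf, e⟩ := H.line htr hh
    have hfH : f ∈ normalizer (Z : Set G) := (Subgroup.mem_inf.1 (H.FD hf)).1
    have hm : cn (f⁻¹ * h) V = V := by
      rw [cn_mul, e, ← cn_mul, inv_mul_cancel, cn_one]
    have hp : cn (f⁻¹ * h * l) Z ≤ V := by
      rw [cn_mul]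
      have h1 : cn l Z ≤ V := by
        rw [← H.LV l hl]; exact cn_mono l H.ZV
      rw [← hm]
      exact cn_mono _ h1
    obtain ⟨l', hl', e'⟩ := H.pts _ hp
    refine ⟨f * l', mul_mem (subset_closure (Or.inl hf)) (subset_closure (Or.inr hl')),
      l'⁻¹ * (f⁻¹ * h * l), cn_eq_cn_iff.1 e', ?_⟩
    group
  -- `H E ⊆ E H`
  have hHE : ∀ e ∈ closure ((F : Set G) ∪ (L : Set G)), ∀ h ∈ normalizer (Z : Set G),
      ∃ e' ∈ closure ((F : Set G) ∪ (L : Set G)), ∃ h' ∈ normalizer (Z : Set G), h * e = e' * h' := by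
    have key : ∀ x y : G, (y ∈ F ∨ y ∈ L) →
        (∀ h ∈ normalizer (Z : Set G), ∃ e' ∈ closure ((F : Set G) ∪ (L : Set G)),
          ∃ h' ∈ normalizer (Z : Set G), h * x = e' * h') →
        ∀ h ∈ normalizer (Z : Set G), ∃ e' ∈ closure ((F : Set G) ∪ (L : Set G)),
          ∃ h' ∈ normalizer (Z : Set G), h * (y * x) = e' * h' := by
      intro x y hy ih h hh
      rcases hy with hy | hy
      · obtain ⟨e', he', h', hh', e⟩ := ih h hh
        refine ⟨(h * y * h⁻¹) * e', mul_mem (subset_closure (Or.inl (H.Fn h hh y hy))) he', h', hh', ?_⟩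
        calc h * (y * x) = (h * y * h⁻¹) * (h * x) := by group
          _ = (h * y * h⁻¹) * e' * h' := by rw [e]; group
      · obtain ⟨e1, he1, h1, hh1, q1⟩ := hHL h hh y hy
        obtain ⟨e2, he2, h2, hh2, q2⟩ := ih h1 hh1
        refine ⟨e1 * e2, mul_mem he1 he2, h2, hh2, ?_⟩
        calc h * (y * x) = (h * y) * x := by group
          _ = e1 * (h1 * x) := by rw [q1]; group
          _ = e1 * e2 * h2 := by rw [q2]; group
    intro e he
    induction he using Subgroup.closure_induction_left with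
    | one => exact fun h hh => ⟨1, one_mem _, h, hh, by rw [mul_one, one_mul]⟩
    | mul_left y hy x hx ih => exact key x y hy ih
    | inv_mul_cancel y hy x hx ih => exact key x y⁻¹ (hy.imp inv_mem inv_mem) ih
  have key : ∀ x y : G, (y ∈ normalizer (Z : Set G) ∨ y ∈ L) →
      (∃ e ∈ closure ((F : Set G) ∪ (L : Set G)), ∃ h ∈ normalizer (Z : Set G), x = e * h) →
      ∃ e ∈ closure ((F : Set G) ∪ (L : Set G)), ∃ h ∈ normalizer (Z : Set G), y * x = e * h := by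
    rintro x y hy ⟨e, he, h, hh, rfl⟩
    rcases hy with hy | hy
    · obtain ⟨e', he', h', hh', q⟩ := hHE e he y hy
      exact ⟨e', he', h' * h, mul_mem hh' hh, by rw [← mul_assoc, q, mul_assoc]⟩
    · exact ⟨y * e, mul_mem (subset_closure (Or.inr hy)) he, h, hh, by rw [mul_assoc]⟩
  induction hx using Subgroup.closure_induction_left with
  | one => exact ⟨1, one_mem _, 1, one_mem _, by rw [mul_one]⟩
  | mul_left y hy x hx ih => exact key x y hy ih
  | inv_mul_cancel y hy x hx ih => exact key x y⁻¹ (hy.imp inv_mem inv_mem) ih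

/-- **STEP F** : the conjugates of `Z` under `⟨N(Z), N(sZ)⟩` commute. -/
theorem stepF {g k : G} (hg : g ∈ normalizer (Z : Set G) ⊔ normalizer (cn s Z : Set G))
    (hk : k ∈ normalizer (Z : Set G) ⊔ normalizer (cn s Z : Set G)) {a b : G} (ha : a ∈ Z) (hb : b ∈ Z) :
    (g * a * g⁻¹) * (k * b * k⁻¹) = (k * b * k⁻¹) * (g * a * g⁻¹) := by
  have key : ∀ g ∈ normalizer (Z : Set G) ⊔ normalizer (cn s Z : Set G), ∀ a ∈ Z, ∀ b ∈ Z,
      b * (g * a * g⁻¹) = (g * a * g⁻¹) * b := by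
    intro g hg a ha b hb
    obtain ⟨σ, hσ, x, hx, rfl⟩ := H.mem_SX hg
    obtain ⟨e, he, h, hh, rfl⟩ := H.X_eq htr hx
    have heN : e ∈ normalizer (cn s Z : Set G) := by
      have h1 : closure ((F : Set G) ∪ (L : Set G)) ≤ normalizer (cn s Z : Set G) := by
        rw [Subgroup.closure_le]
        rintro y (hy | hy)
        · exact (Subgroup.mem_inf.1 (H.FD hy)).2
        · have h2 := H.L_conj (inv_mem H.sS) (ne_inv H.ne) hy
          rw [inv_inv] at h2
          change y ∈ normalizer (cn s Z : Set G)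
          rw [← cn_eq_iff] at h2 ⊢
          rw [cn_mul, cn_mul] at h2
          have h3 := congrArg (cn s) h2
          rwa [← cn_mul, mul_inv_cancel, cn_one] at h3
      exact h1 he
    have ha' : h * a * h⁻¹ ∈ Z := (Subgroup.mem_normalizer_iff.1 hh a).1 ha
    have h1 := H.ab σ⁻¹ (inv_mem hσ) e heN b hb _ ha'
    have h2 : (σ * (e * h)) * a * (σ * (e * h))⁻¹ = σ * (e * (h * a * h⁻¹) * e⁻¹) * σ⁻¹ := by group
    rw [h2]
    rw [inv_inv] at h1
    calc b * (σ * (e * (h * a * h⁻¹) * e⁻¹) * σ⁻¹) = σ * ((σ⁻¹ * b * σ) * (e * (h * a * h⁻¹) * e⁻¹)) * σ⁻¹ := by group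
      _ = σ * ((e * (h * a * h⁻¹) * e⁻¹) * (σ⁻¹ * b * σ)) * σ⁻¹ := by rw [h1]
      _ = (σ * (e * (h * a * h⁻¹) * e⁻¹) * σ⁻¹) * b := by group
  have h1 := key (k⁻¹ * g) (mul_mem (inv_mem hk) hg) a ha b hb
  calc (g * a * g⁻¹) * (k * b * k⁻¹) = k * ((k⁻¹ * g * a * (k⁻¹ * g)⁻¹) * b) * k⁻¹ := by group
    _ = k * (b * (k⁻¹ * g * a * (k⁻¹ * g)⁻¹)) * k⁻¹ := by rw [h1]
    _ = (k * b * k⁻¹) * (g * a * g⁻¹) := by group

end Trans

/-- **STEP F**, final form. -/
theorem not_le (hZ1 : Z ≠ ⊥) (hZ2 : ∀ z ∈ Z, z * z = 1)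
    (hnl : ∀ A : Subgroup G, (∀ a ∈ A, a * a = 1) → normalizer (Z : Set G) ≤ normalizer (A : Set G) →
      normalizer (cn s Z : Set G) ≤ normalizer (A : Set G) → A = ⊥) :
    ¬ normalizer (Z : Set G) ⊓ normalizer (cn s Z : Set G) ≤
      F ⊔ ((normalizer (Z : Set G) ⊓ normalizer (cn s Z : Set G)) ⊓ normalizer (V : Set G)) := by
  intro hle
  have htr : ∀ d ∈ normalizer (Z : Set G) ⊓ normalizer (cn s Z : Set G), ∃ f ∈ F, cn d V = cn f V := by
    intro d hd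
    set D : Subgroup G := normalizer (Z : Set G) ⊓ normalizer (cn s Z : Set G) with hD
    have h1 : D ⊓ normalizer (V : Set G) ≤ normalizer (F : Set G) := by
      intro y hy
      have hyH : y ∈ normalizer (Z : Set G) := (Subgroup.mem_inf.1 (Subgroup.mem_inf.1 hy).1).1
      rw [Subgroup.mem_normalizer_iff]
      intro f
      constructor
      · exact H.Fn y hyH f
      · intro hf
        have := H.Fn y⁻¹ (inv_mem hyH) _ hf
        have e : y⁻¹ * (y * f * y⁻¹) * y⁻¹⁻¹ = f := by group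
        rwa [e] at this
    have h2 : d ∈ ((F ⊔ (D ⊓ normalizer (V : Set G)) : Subgroup G) : Set G) := hle hd
    rw [Subgroup.coe_mul_of_right_le_normalizer_left _ _ h1, Set.mem_mul] at h2
    obtain ⟨f, hf, y, hy, rfl⟩ := h2
    refine ⟨f, hf, ?_⟩
    rw [cn_mul, cn_eq_iff.2 (Subgroup.mem_inf.1 hy).2]
  set G0 : Subgroup G := normalizer (Z : Set G) ⊔ normalizer (cn s Z : Set G) with hG0
  let T : Set G := {y | ∃ g ∈ G0, ∃ a ∈ Z, y = g * a * g⁻¹}
  have hTc : ∀ x ∈ T, ∀ y ∈ T, x * y = y * x := by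
    rintro _ ⟨g, hg, a, ha, rfl⟩ _ ⟨k, hk, b, hb, rfl⟩
    exact H.stepF htr hg hk ha hb
  have hTs : ∀ x ∈ T, x * x = 1 := by
    rintro _ ⟨g, hg, a, ha, rfl⟩
    calc (g * a * g⁻¹) * (g * a * g⁻¹) = g * (a * a) * g⁻¹ := by group
      _ = 1 := by rw [hZ2 a ha]; group
  have hA2 : ∀ x ∈ closure T, ∀ y ∈ closure T, x * y = y * x := by
    intro x hx y hy
    have h1 : closure T ≤ centralizer T := by
      rw [Subgroup.closure_le]
      intro u hu
      rw [SetLike.mem_coe, Subgroup.mem_centralizer_iff]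
      exact fun v hv => hTc v hv u hu
    have h2 : closure T ≤ centralizer (closure T : Set G) := by
      rw [Subgroup.le_centralizer_iff, Subgroup.closure_le]
      intro u hu
      rw [SetLike.mem_coe, Subgroup.mem_centralizer_iff]
      intro v hv
      exact (Subgroup.mem_centralizer_iff.1 (h1 hv) u hu).symm
    exact (Subgroup.mem_centralizer_iff.1 (h2 hx) y hy).symm
  have hA3 : ∀ x ∈ closure T, x * x = 1 := by
    intro x hx
    induction hx using Subgroup.closure_induction with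
    | mem y hy => exact hTs y hy
    | one => exact one_mul 1
    | mul y z hy hz ihy ihz =>
      have h1 := hA2 y hy z hz
      calc y * z * (y * z) = y * (z * y) * z := by group
        _ = (y * y) * (z * z) := by rw [← h1]; group
        _ = 1 := by rw [ihy, ihz, one_mul]
    | inv y hy ih =>
      rw [← mul_inv_rev, ih, inv_one]
  have hN : G0 ≤ normalizer (closure T : Set G) := by
    intro k hk
    rw [← cn_eq_iff]
    have h1 : ∀ k ∈ G0, cn k (closure T) ≤ closure T := by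
      intro k hk y hy
      rw [mem_cn] at hy
      have h2 : ∀ z ∈ closure T, k * z * k⁻¹ ∈ closure T := by
        intro z hz
        induction hz using Subgroup.closure_induction with
        | mem z hz =>
          obtain ⟨g, hg, a, ha, rfl⟩ := hz
          exact subset_closure ⟨k * g, mul_mem hk hg, a, ha, by group⟩
        | one => rw [mul_one, mul_inv_cancel]; exact one_mem _
        | mul u v _ _ ihu ihv =>
          have : k * (u * v) * k⁻¹ = (k * u * k⁻¹) * (k * v * k⁻¹) := by group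
          rw [this]; exact mul_mem ihu ihv
        | inv u _ ih =>
          have : k * u⁻¹ * k⁻¹ = (k * u * k⁻¹)⁻¹ := by group
          rw [this]; exact inv_mem ih
      have h3 := h2 _ hy
      have h4 : k * (k⁻¹ * y * k) * k⁻¹ = y := by group
      rwa [h4] at h3
    apply le_antisymm (h1 k hk)
    have h2 := cn_mono k (h1 k⁻¹ (inv_mem hk))
    rwa [← cn_mul, mul_inv_cancel, cn_one] at h2
  have h1 := hnl (closure T) hA3 (le_sup_left.trans hN) (le_sup_right.trans hN)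
  apply hZ1
  rw [eq_bot_iff]
  intro z hz
  rw [← h1]
  exact subset_closure ⟨1, one_mem _, z, hz, by group⟩

end Hyp

/-- The field `cov` from the components of `N_1` : `κ` the component containing `sZ`; `stab` : `N_H(κ) ≤ ⟨D, L_2⟩`;
`blocks` : every component contains a block `σZ`, `H`-conjugate to `sZ` in the right way; `lines` : `V` is a line of the
component of `N_{σZ}` containing `Z` and `D_σ` is transitive on the lines. -/
theorem cov_of {S : Subgroup G} {s : G} {Z V L : Subgroup G} (κ : Subgroup G)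
    (Dκ : ∀ d ∈ normalizer (Z : Set G) ⊓ normalizer (cn s Z : Set G), cn d κ = κ)
    (stab : ∀ h ∈ normalizer (Z : Set G), cn h κ = κ →
      h ∈ closure (((normalizer (Z : Set G) ⊓ normalizer (cn s Z : Set G) : Subgroup G) : Set G) ∪ (cn s L : Set G)))
    (blocks : ∀ h ∈ normalizer (Z : Set G), ∃ c ∈ normalizer (Z : Set G), ∃ σ ∈ S,
      cn c κ = cn h κ ∧ cn (c * s) Z = cn σ Z)
    (lines : ∀ c ∈ normalizer (Z : Set G), ∀ σ ∈ S, cn (c * s) Z = cn σ Z →
      ∃ d ∈ normalizer (Z : Set G) ⊓ normalizer (cn σ Z : Set G), cn (d * c) V = V) :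
    ∀ h ∈ normalizer (Z : Set G), ∃ c ∈ normalizer (Z : Set G),
    ∃ k ∈ closure (((normalizer (Z : Set G) ⊓ normalizer (cn s Z : Set G) : Subgroup G) : Set G) ∪ (cn s L : Set G)),
    ∃ σ ∈ S, h = c * k ∧ cn (c * s) Z = cn σ Z ∧ cn c V = V := by
  intro h hh
  obtain ⟨c0, hc0, σ, hσ, e1, e2⟩ := blocks h hh
  obtain ⟨d, hd, e3⟩ := lines c0 hc0 σ hσ e2
  rw [Subgroup.mem_inf] at hd
  have hd' : cn d (cn σ Z) = cn σ Z := cn_eq_iff.2 hd.2
  have h1 : c0⁻¹ * d * c0 ∈ normalizer (Z : Set G) ⊓ normalizer (cn s Z : Set G) := by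
    rw [Subgroup.mem_inf, ← cn_eq_iff, ← cn_eq_iff]
    refine ⟨?_, ?_⟩
    · rw [cn_mul, cn_mul, cn_eq_iff.2 hc0, cn_eq_iff.2 hd.1, cn_inv_of (cn_eq_iff.2 hc0)]
    · rw [cn_mul, ← cn_mul c0 s, e2, cn_mul, hd', ← e2, ← cn_mul, inv_mul_cancel_left]
  have h2 : cn (d * c0) κ = cn h κ := by
    have h3 := congrArg (cn c0) (Dκ _ h1)
    rw [← cn_mul] at h3
    have h4 : c0 * (c0⁻¹ * d * c0) = d * c0 := by group
    rw [h4] at h3
    rw [h3, e1]
  have hc : d * c0 ∈ normalizer (Z : Set G) := mul_mem hd.1 hc0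
  refine ⟨d * c0, hc, (d * c0)⁻¹ * h, stab _ (mul_mem (inv_mem hc) hh) ?_, σ, hσ, by group, ?_, e3⟩
  · rw [cn_mul, ← h2, ← cn_mul, inv_mul_cancel, cn_one]
  · rw [mul_assoc, cn_mul, e2, hd']

end Cfsg.Agent.Omega.NO3S.EThree.StepF
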