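import Cfsg.Agent.Omega.KL.QF.HJ
import Cfsg.Agent.Omega.NO3S.EThree.Row7X

/-!
# Row (7) (`k = 2`, `q ≥ 4`, case (E), TI) without the level and without (V!) (helper651)

helper509's `Row7B.MB.false` with (V!) replaced by `hJ` (`KL/QF/HJ.lean`): `J(O)` moves `W i` if `W i ≰ N_i`.

* `MJ S P B ZJ L W Z C q` : `Bg`, `4 ≤ q`, TI, nonlocal, generation by blocks `GenU`, `FixU`;
* **`MJ.false : MLK → Ext → MJ .. → False`**;
* **`eX (hML) (hE) (hT : TiX K) (hW : NoWX K) : EX K fun k q => k = 2 ∧ 4 ≤ q`.**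
-/

set_option autoImplicit false
set_option linter.unusedSectionVars false

namespace Cfsg.Agent.Omega.NO3S.EThree.Row7J

open Subgroup Cfsg Cfsg.Agent.ZN.ChoiceBase
open Cfsg.Agent.ZN (jj zj bau zc zl o2)
open Cfsg.Agent.ZN.ChoiceSit (Syl)
open Cfsg.Agent.Omega.OM
open Cfsg.Agent.Omega.OM.PG.Peel (XW)
open Cfsg.Agent.Omega.OM.PG.TwoI (TA')
open Cfsg.Agent.Omega.Frame (Cls)
open Cfsg.Agent.Omega.NO3S.EThree
open Cfsg.Agent.Omega.NO3S.EThree.Frame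
open Cfsg.Agent.Omega.NO3S.EThree.Row7 (Nn vec2 vec2' fin2)
open Cfsg.Agent.Omega.MinPar (NonLoc)
open Cfsg.Agent.Omega.TCQ.R
open Cfsg.Agent.Omega.KL.QF (QFr QFb)
open Cfsg.Agent.Omega.KL.QF.OfBg (GenU FixU uni_a)
open Cfsg.Agent.Omega.KL.QF.PtV (B_le_T)
open Cfsg.Agent.Omega.KL.QF.KInX (NoW weirdK_of)
open Cfsg.Agent.Omega.Node.MultiOf Cfsg.Agent.Omega.Node.MulG Cfsg.Agent.Omega.Node.MulX
open scoped Pointwise

universe u

section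

variable {G : Type u} [Group G] [Finite G]

/-- **The data of row (7), without the level and without (V!).** -/
structure MJ (S : Sylow 2 G) (P B ZJ : Subgroup G) (L W Z C : Fin 2 → Subgroup G) (q : ℕ) : Prop where
  bg : Bg S P B ZJ L W Z C q
  hq : 4 ≤ q
  ti : ∀ i, TI (Z i)
  nonloc : NonLoc (normalizer (Z 0 : Set G)) (normalizer (Z 1 : Set G))
  gen : GenU (S : Subgroup G) B ZJ W Z q 0 1
  fix : FixU (S : Subgroup G) P W Z 0 1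

namespace MJ

variable {S : Sylow 2 G} {P B ZJ : Subgroup G} {L W Z C : Fin 2 → Subgroup G} {q : ℕ}
  (h : MJ S P B ZJ L W Z C q)
include h

theorem fq : FQ Z W B q := FQ.of_bg h.bg (h.ti 0) h.nonloc

theorem exists_pa : ∃ s, Pa (S : Subgroup G) W 0 1 s := KL.QF.HJ.exists_pa h.bg

/-- UNI, weak form -/
theorem uni : UniQ Z W B := by
  obtain ⟨s, p⟩ := h.exists_pa
  exact Row7B.uniQ_of_gen h.bg p h.gen

theorem qfb : QFb Z W B ((S : Subgroup G) ⊓ centralizer (Z 0 : Set G)) := by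
  obtain ⟨s, p⟩ := h.exists_pa
  exact KL.QF.HJ.qfb_of h.bg p (h.ti 0) h.nonloc h.gen h.fix

/-- the swap on `N_i` -/
theorem cj_N {s : G} (p : Pa (S : Subgroup G) W 0 1 s) : cj s (Nn Z 0) = Nn Z 1 := by
  have h1 : PG.NN Z (cj s (Z 0)) = cj s (PG.NN Z (Z 0)) := PG.NN_conj s (Z 0)
  rw [h.bg.cj_s_Z p] at h1
  exact h1.symm

theorem le_iff : W 0 ≤ Nn Z 0 ↔ W 1 ≤ Nn Z 1 := by
  obtain ⟨s, p⟩ := h.exists_pa
  have e1 := h.cj_N p
  constructor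
  · intro h1
    rw [← e1, ← p.ij]
    exact cj_mono s h1
  · intro h1
    have h2 : cj s (W 0) ≤ cj s (Nn Z 0) := by rw [e1, p.ij]; exact h1
    rwa [cj_le_iff, cj_inv_cj] at h2

theorem rad (h0 : Z 0 ≤ Nn Z 0) (i : Fin 2) : Z i ≤ Nn Z i := by
  rcases fin2 i with rfl | rfl
  · exact h0
  obtain ⟨s, p⟩ := h.exists_pa
  rw [← h.bg.cj_s_Z p, ← h.cj_N p]
  exact cj_mono s h0

/-- `1 ≠ [N_0, N_1] ≤ Z_0Z_1` is impossible. -/
theorem comm_false (com : ∀ x ∈ Nn Z 0, ∀ y ∈ Nn Z 1, x * y * x⁻¹ * y⁻¹ ∈ Z 0 ⊔ Z 1)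
    (nc : ¬ Nn Z 0 ≤ centralizer (Nn Z 1 : Set G)) : False := by
  obtain ⟨s, p⟩ := h.exists_pa
  refine h.bg.comm_false p (fun l => fin2 l) (h.ti 0) h.nonloc ?_ ?_
  · rw [vec2]
    exact com
  · rw [vec2]
    exact nc

/-- `[N_0, N_1] = 1` if `N_0 ∩ N_1 ≤ Z_0Z_1`. -/
theorem com_of_inter (hi : Nn Z 0 ⊓ Nn Z 1 ≤ Z 0 ⊔ Z 1) : Nn Z 0 ≤ centralizer (Nn Z 1 : Set G) := by
  by_contra nc
  refine h.comm_false (fun x hx y hy => hi ?_) nc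
  have hPP : PG.PP Z W := h.fq.toPP
  have a01 : PG.Adj Z (Z 0) (Z 1) := ⟨1, by rw [map_one, one_smul], by rw [map_one, one_smul]⟩
  have pt0 : PG.IsPt Z (Z 0) := ⟨1, by rw [map_one, one_smul]⟩
  have h1 : Nn Z 0 ≤ PG.HH (Z 1) := (hPP.NN_le_QQ pt0).trans (hPP.QQ_le_HH (hPP.adj_symm a01))
  have h2 : Nn Z 1 ≤ PG.HH (Z 0) := (hPP.NN_le_QQ (hPP.adj_pt a01)).trans (hPP.QQ_le_HH a01)
  refine mem_inf.2 ⟨?_, ?_⟩
  · have e : x * y * x⁻¹ * y⁻¹ = x * (y * x⁻¹ * y⁻¹) := by group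
    rw [e]
    exact mul_mem hx ((mem_normalizer_iff.1 (PG.PP.HH_le_NN (Z 0) (h2 hy)) _).1 (inv_mem hx))
  · exact mul_mem ((mem_normalizer_iff.1 (PG.PP.HH_le_NN (Z 1) (h1 hx)) _).1 hy) (inv_mem hy)

theorem sylU0 : SylU0 Z W :=
  ⟨(S : Subgroup G) ⊓ normalizer (Z 0 : Set G), h.bg.syl 0, by
    rw [h.bg.inf_normalizer 0]; exact inf_le_right⟩

theorem regX : PG.PcQ.RegX Z (XW Z W) := by
  have h2 : 2 < q := lt_of_lt_of_le (by decide) h.hq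
  have D : FQ ![Z 0, Z 1] ![W 0, W 1] B q := by
    rw [vec2, vec2]
    exact h.fq
  have h1 := h.bg.regX h2 D
  rwa [vec2, vec2] at h1

/-- `J(O)` moves `W i` -/
theorem hJ (hML : ML.Final.MLK.{u, u}) (hE : ML.Ex.Two.Ext.{u, u}) (hV : ¬ W 0 ≤ Nn Z 0) (i : Fin 2) :
    ∃ A ∈ AA (OO Z), ¬ A ≤ centralizer (W i : Set G) := by
  obtain ⟨s, p⟩ := h.exists_pa
  refine KL.QF.HJ.hJ_of h.bg p (h.ti 0) h.nonloc hML (KL.Q.EndG.noPreG hML hE) h.hq (B_le_T h.bg 0) h.qfb ?_ hV i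
  intro R hR hRC hne
  obtain ⟨L', V', l, hLR, hRL, hb, hV⟩ := h.gen R hR hRC hne
  exact (uni_a h.bg p (fun l => fin2 l) hRC hLR hRL hb hV).1

/-- LEMMA 0 -/
theorem l0 : PG.PcQ.L0 Z := h.fq.l0 h.bg.wc h.uni

/-- **(A)**: `W i ≰ N_i` is impossible. -/
theorem false_V (hML : ML.Final.MLK.{u, u}) (hE : ML.Ex.Two.Ext.{u, u}) (hV : ∀ i, ¬ W i ≤ Nn Z i) : False := by
  have D := h.fq
  have noD := NoDQ.of_bg h.bg hML (h.ti 0) h.nonloc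
  have noQ := NoQQ.of_bg h.bg hML (h.ti 0) h.nonloc
  have noP := NoP.of_bg h.bg hML (h.ti 0) h.nonloc
  have h2 : 2 < q := lt_of_lt_of_le (by decide) h.hq
  by_cases h0 : Z 0 ≤ Nn Z 0
  · have hrad := h.rad h0
    have hL := Plug.LvIn.of_bgJ h.bg (h.ti 0) h.nonloc (h.hJ hML hE (hV 0))
      fun i K h1 h2 h3 => D.done h.bg.wc h.uni h1 h2 h3
    have h1b : OneB Z W := End.oneB_of D noD noQ hL hrad hV
    have h1a : TA' Z (XW Z W) := PlugA.ta_of D.toPP D.xf noP D.tip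
      fun A hA2 hAc hAX hmv hH => End.false_of_H D noD noQ hL (hrad 0) (hV 0) hA2 hAc hAX hmv hH
    exact D.false_rad noD noQ noP (CoreP.of_bg h.bg) h.com_of_inter hrad h1a h1b
  · refine D.nrTwo noP (D.thmC2_nr h2 h0 h.sylU0 fun K h3 h4 h5 => D.done h.bg.wc h.uni h3 h4 h5) h0 ?_
    exact NrOne.nr_one D h2 h.regX h0 (D.adj (i := 1) (j := 0) (by decide))

/-- **Row (7).** -/
protected theorem false (hML : ML.Final.MLK.{u, u}) (hE : ML.Ex.Two.Ext.{u, u}) : False := by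
  by_cases h0 : W 0 ≤ Nn Z 0
  · obtain ⟨s, p⟩ := h.exists_pa
    refine KL.QF.Fin.false_of_qfr h.bg p (fun l => fin2 l) h.hq hML (KL.Q.EndG.noPreG hML hE)
      (T := (S : Subgroup G) ⊓ centralizer (Z 0 : Set G)) ?_
    rw [vec2, vec2]
    exact h.qfb.qfr h0
  · refine h.false_V hML hE fun i => ?_
    rcases fin2 i with rfl | rfl
    · exact h0
    · exact fun h1 => h0 (h.le_iff.2 h1)

end MJ

end

variable {K : Cls.{u}}

/-- **Row (7) over `MulL`**, from TI and NoW. -/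
theorem eX (hML : ML.Final.MLK.{u, u}) (hE : ML.Ex.Two.Ext.{u, u}) (hT : Row7X.TiX K) (hW : Row7X.NoWX K) :
    EX K fun k q => k = 2 ∧ 4 ≤ q := by
  rintro G _ _ hG S P B ZJ k L W Z C A q - ⟨rfl, hq⟩ hM hN
  have hti := hT G hG S P B ZJ L W Z C A q hq hM hN
  have hg := Row7X.gen hM hti (weirdK_of hM.bg hti (hW G hG S P B ZJ L W Z C A q hq hM hN hti))
  exact ((⟨hM.bg, hq, hti, Row7X.nonloc hM hN, hg.1, hg.2⟩ : MJ S P B ZJ L W Z C q).false hML hE).elim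

end Cfsg.Agent.Omega.NO3S.EThree.Row7J
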