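import Cfsg.Agent.Omega.NO3S.EThree.NrTwoQ
import Cfsg.Agent.Omega.OM.PG.PcQ

/-!
# THEOREM R for `q ≥ 4` (`k = 2`), assembly: helper627 #23558 (10), helper691 #21425 (6)

`D : FQ Z U B q`, `X_i = W_iN_i = XW Z U (Z i)`.

* `OneB Z U` : (1b) of THEOREM R / THEOREM N;
* `FQ.exists_mv_of` : some `A ∈ AA O` moves `U i`; `FQ.AA_Q_le` : `AA Q_i ⊆ AA O`; `FQ.tb_of` : `PeelQ.TB`;
* `FQ.inter_of` : `N_0 ∩ N_1 ≤ Z 0 Z 1`.
-/

set_option autoImplicit false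
set_option linter.unusedSectionVars false

namespace Cfsg.Agent.Omega.NO3S.EThree

open Subgroup Cfsg Cfsg.Agent.ZN Cfsg.Agent.Omega.MinPar
open Cfsg.Agent.Omega.NoFF.Basic (conj_conj mem_conj conj_le_iff conj_le_centralizer comm_symm comm_mono)
open Cfsg.Agent.Omega.NOThreeL.Pair (conj_eq_of_mem)
open Cfsg.Agent.Omega.OM.PG
open Cfsg.Agent.Omega.OM.PG.Int (Ex rix_ne)
open Cfsg.Agent.Omega.OM.PG.Peel (Nob Exa XW)
open Cfsg.Agent.Omega.NO3S.EThree.ExactA (eab_iff eab_mono eab_sup swp)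
open Cfsg.Agent.ZN.ChoiceBase (AA mm mm_eq mem_AA_iff AA_nonempty card_le_mm cj_mem_AA mm_cj mm_mono jj_eq_of_jj_le)
open scoped Pointwise

universe u

variable {G : Type u} [Group G]

/-- **(1b)**: `A ∈ AA O`, `C_A(N_i)` centralises `X_i` : `A` centralises `N_i`. -/
def OneB (Z U : Fin 2 → Subgroup G) : Prop :=
  ∀ i, ∀ A ∈ AA (OO Z), A ⊓ centralizer (NN Z (Z i) : Set G) ≤ centralizer (XW Z U (Z i) : Set G) →
    A ≤ centralizer (NN Z (Z i) : Set G)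

namespace FQ

variable {Z U : Fin 2 → Subgroup G} {B : Subgroup G} {q : ℕ} [Finite G] (D : FQ Z U B q)
include D

/-- **(a)** some `A ∈ AA O` moves `U i`. -/
theorem exists_mv_of (hNO : NoDQ Z) (hG : OneB Z U) (i : Fin 2) :
    ∃ A ∈ AA (OO Z), ¬ A ≤ centralizer (U i : Set G) := by
  set X : Subgroup G := XW Z U (Z i) with hX
  have hNX : NN Z (Z i) ≤ X := le_sup_left
  obtain ⟨A, hA, hmv⟩ := D.exists_moves hNO i
  obtain ⟨hex, -, hB⟩ := D.exact_AA hNO i hA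
  set K := (A ⊓ centralizer (NN Z (Z i) : Set G)) ⊔ NN Z (Z i) with hKdef
  by_contra hcon
  push Not at hcon
  have hKC : K ≤ centralizer (NN Z (Z i) : Set G) := sup_le inf_le_right (D.N_comm i)
  have hKQ : K ≤ QQ (Z i) := (le_inf hB.2.1 hKC).trans (D.O_inf_le i)
  have hKX : K ≤ centralizer (X : Set G) := by
    refine comm_symm (sup_le (comm_symm hKC) (iSup_le fun l => comm_symm ?_))
    obtain ⟨c, hc, e⟩ := D.ln_conj l.2
    have h1 : MulAut.conj c⁻¹ • K ∈ AA (OO Z) := by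
      have h2 := cj_mem_AA c⁻¹ hB
      rw [mem_AA_iff] at hB ⊢
      refine ⟨h2.1, ?_, ?_⟩
      · have h3 := conj_le_iff (g := c⁻¹) |>.2 hKQ
        have h4 : MulAut.conj c⁻¹ • QQ (Z i) = QQ (Z i) :=
          conj_eq_of_mem (MinSimple.VModule.le_normalizer_o2 _ (inv_mem hc))
        rw [h4] at h3
        exact h3.trans (D.Q_le_O i)
      · have h3 : Nat.card (MulAut.conj c⁻¹ • K : Subgroup G) = Nat.card K := ChoiceBase.card_cj c⁻¹ K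
        rw [h3]; exact hB.2.2
    have h4 := conj_le_centralizer (g := c) (hcon _ h1)
    rw [conj_conj, mul_inv_cancel, map_one, one_smul] at h4
    rw [e]
    exact h4
  exact hmv (hG i A hA ((le_sup_left : _ ≤ K).trans hKX))

/-- `AA Q_i ⊆ AA O` -/
theorem AA_Q_le (hNO : NoDQ Z) (i : Fin 2) {A : Subgroup G} (hA : A ∈ AA (QQ (Z i))) : A ∈ AA (OO Z) := by
  obtain ⟨A', hA'⟩ := AA_nonempty (OO Z)
  have hB := (D.exact_AA hNO i hA').2.2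
  have hKQ : (A' ⊓ centralizer (NN Z (Z i) : Set G)) ⊔ NN Z (Z i) ≤ QQ (Z i) :=
    (le_inf hB.2.1 (sup_le inf_le_right (D.N_comm i))).trans (D.O_inf_le i)
  rw [mem_AA_iff] at hA hB ⊢
  exact ⟨hA.1, hA.2.1.trans (D.Q_le_O i), (hB.2.2.trans (card_le_mm hB.1 hKQ)).trans hA.2.2⟩

/-- **`TB`** from (1b). -/
theorem tb_of (hNO : NoDQ Z) (hG : OneB Z U) : PeelQ.TB Z (XW Z U) := by
  rintro a u ⟨k, rfl, rfl⟩ A hA hc
  have e0 : QQ (MulAut.conj k • Z 0) = MulAut.conj k • QQ (Z 0) := QQ_conj k _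
  have hA' : MulAut.conj k⁻¹ • A ∈ AA (QQ (Z 0)) := by
    have h1 := cj_mem_AA k⁻¹ hA
    have h2 : ChoiceBase.cj k⁻¹ (QQ (MulAut.conj k • Z 0)) = QQ (Z 0) := by
      rw [e0]
      exact inv_conj_conj k _
    rwa [h2] at h1
  have eN : NN Z (MulAut.conj k • Z 1) = MulAut.conj k • NN Z (Z 1) := NN_conj k _
  have eX : XW Z U (MulAut.conj k • Z 1) = MulAut.conj k • XW Z U (Z 1) := Peel.XW_conj k _
  have h1 : MulAut.conj k⁻¹ • A ≤ centralizer (NN Z (Z 1) : Set G) := by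
    refine hG 1 _ (D.AA_Q_le hNO 0 hA') ?_
    intro x hx
    have h3 : k * x * k⁻¹ ∈ A := by
      have h4 : x ∈ MulAut.conj k⁻¹ • A := hx.1
      rw [mem_conj] at h4
      simpa using h4
    have h4 : k * x * k⁻¹ ∈ centralizer (NN Z (MulAut.conj k • Z 1) : Set G) := by
      rw [eN]
      exact (Peel.mem_cent_conj (g := k)).2 hx.2
    have h5 := hc ⟨h3, h4⟩
    rw [eX] at h5
    exact (Peel.mem_cent_conj (g := k)).1 h5
  rw [eN]
  have h2 := conj_le_centralizer (g := k) h1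
  rwa [conj_inv_conj] at h2

/-- **(b)** `N_0 ∩ N_1 ≤ Z 0 Z 1` -/
theorem inter_of (hNO : NoDQ Z) (hQ : NoQQ Z) (hZ : ∀ i, Z i ≤ NN Z (Z i)) (hG : OneB Z U) :
    NN Z (Z 0) ⊓ NN Z (Z 1) ≤ Z 0 ⊔ Z 1 :=
  D.inter hNO hQ hZ (D.exists_mv_of hNO hG)

/-! ### The inputs of `ExactQ`, `PcQ` -/

omit [Finite G] in
theorem fusP : PcQ.FusP Z := D.fus

theorem free0 : ∀ y ∈ QQ (Z 0), ∀ v ∈ U 0, v ∉ Z 0 → y * v = v * y → y ∈ centralizer (U 0 : Set G) :=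
  fun y hy v hv hvZ h => D.free 0 y (D.O_le_B (D.Q_le_O 0 hy)) v hv hvZ h

omit [Finite G] in
theorem card0 : Nat.card (U 0) = Nat.card (Z 0) * Nat.card (Z 0) := by
  rw [D.cardU, D.cardZ, pow_two]

theorem surQ : ExactQ.Sur Z U := ExactQ.sur_of D.toPP D.free0 D.card0

/-- a point in `N_u ∩ N_b`, `u ~ b`, is `u` or `b` (from THEOREM I) -/
theorem hdis (hi : NN Z (Z 0) ⊓ NN Z (Z 1) ≤ Z 0 ⊔ Z 1) :
    ∀ a u b : Subgroup G, Adj Z u b → IsPt Z a → a ≤ NN Z u → a ≤ NN Z b → a = u ∨ a = b := by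
  rintro a _ _ ⟨k, rfl, rfl⟩ ha h1 h2
  rw [NN_conj] at h1 h2
  obtain ⟨x, hx, hx1⟩ : ∃ x ∈ a, x ≠ 1 := by
    by_contra hcon
    push Not at hcon
    exact ExactQ.pt_ne D.toPP ha ((eq_bot_iff_forall _).2 hcon)
  have h3 : x ∈ MulAut.conj k • (Z 0 ⊔ Z 1) := by
    have h4 : x ∈ MulAut.conj k • (NN Z (Z 0) ⊓ NN Z (Z 1)) := by
      rw [Subgroup.smul_inf]
      exact ⟨h1 hx, h2 hx⟩
    exact conj_le_iff.2 hi h4
  rw [Subgroup.smul_sup] at h3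
  exact PcQ.FusP.adj D.fus ⟨k, rfl, rfl⟩ ha hx h3 hx1

end FQ

end Cfsg.Agent.Omega.NO3S.EThree
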