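import Cfsg.Agent.Omega.NO3S.EThree.Row7B
import Cfsg.Agent.Omega.KL.QF.OfTop

/-!
# Row (7): the data `MB` from generation by blocks (`GenU`) and FIX (`FixU`) over `T = C_S(Z 0)`

* `uniQ_of_gen` : `GenU .. 0 1` gives `UniQ Z W B` (both indices: the swap);
* `MB.of_gen` : `MB` from `Bg`, TI, `NonLoc`, `GenU`, `FixU`, (V!);
* `MB.of_top` : the same over a top level `K₀` (`Top S P K₀`) from the socket `WeirdK`.
-/

set_option autoImplicit false
set_option linter.unusedSectionVars false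

namespace Cfsg.Agent.Omega.NO3S.EThree.Row7B

open Subgroup Cfsg Cfsg.Agent.ZN.ChoiceBase
open Cfsg.Agent.ZN (jj zj bau zc zl o2)
open Cfsg.Agent.ZN.ChoiceSit (Syl)
open Cfsg.Agent.Omega.OM
open Cfsg.Agent.Omega.FFThm (NatKM)
open Cfsg.Agent.Omega.FrameFF (cv)
open Cfsg.Agent.Omega.NO3S.Level (nxt)
open Cfsg.Agent.Omega.NO3S.EThree
open Cfsg.Agent.Omega.NO3S.EThree.Frame
open Cfsg.Agent.Omega.NO3S.EThree.Row7 (Nn vec2 vec2' fin2)
open Cfsg.Agent.Omega.MinPar (NonLoc)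
open Cfsg.Agent.MinSimple.MinParabolic (IsMinPar)
open Cfsg.Agent.Omega.Node.MulG (Top)
open Cfsg.Agent.Omega.KL.QF Cfsg.Agent.Omega.KL.QF.OfBg Cfsg.Agent.Omega.KL.QF.PtV Cfsg.Agent.Omega.KL.QF.OfTop
open scoped Pointwise

universe u

variable {G : Type u} [Group G]

theorem isMinPar_cj {T P : Subgroup G} (g : G) (h : IsMinPar T P) : IsMinPar (cj g T) (cj g P) where
  le := cj_mono g h.le
  not_le := by
    intro h1
    rw [← cj_normalizer, cj_le_iff, cj_inv_cj] at h1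
    exact h.not_le h1
  exists_max := by
    obtain ⟨N, hN, hmax⟩ := h.exists_max
    refine ⟨cj g N, lt_of_le_of_ne (cj_mono g hN.le) fun e => hN.ne ?_, fun K hK hKP => ?_⟩
    · rw [← cj_inv_cj g N, e, cj_inv_cj]
    · have h1 : K = cj g (cj g⁻¹ K) := (cj_cj_inv g K).symm
      rw [h1]
      refine cj_mono g (hmax _ ?_ (lt_of_le_of_ne ?_ fun e => hKP.ne ?_))
      · rw [← cj_le_iff]; exact hK
      · have h2 := cj_mono g⁻¹ hKP.le
        rwa [cj_inv_cj] at h2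
      · rw [h1, e]

theorem syl_cj {T X : Subgroup G} (h : Syl T X) (g : G) : Syl (cj g T) (cj g X) := by
  refine ⟨cj_mono g h.1, isPGroup_cj g h.2.1, fun Q hQ hQ2 hle => ?_⟩
  have h1 := h.2.2 (cj g⁻¹ Q) (by rw [cj_le_iff, inv_inv]; exact hQ) (isPGroup_cj _ hQ2)
    (by rw [← cj_le_iff]; exact hle)
  rw [← h1, cj_cj_inv]

variable [Finite G] {S : Sylow 2 G} {P B ZJ : Subgroup G} {L W Z C : Fin 2 → Subgroup G} {q : ℕ}

/-- **UNI, both indices.** -/
theorem uniQ_of_gen (h : Bg S P B ZJ L W Z C q) {s : G} (p : Pa (S : Subgroup G) W 0 1 s)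
    (hg : GenU (S : Subgroup G) B ZJ W Z q 0 1) : UniQ Z W B := by
  set T : Subgroup G := (S : Subgroup G) ⊓ centralizer (Z 0 : Set G) with hT
  have hBT : B ≤ T := B_le_T h 0
  have hST : Syl T (centralizer (Z 0 : Set G)) := syl_T h 0
  have hR : ∀ R : Subgroup G, IsMinPar T R → R ≤ centralizer (Z 0 : Set G) → ¬ R ≤ normalizer (Z 1 : Set G) →
      R ≤ normalizer (W 1 : Set G) := by
    intro R hR hRC hne
    obtain ⟨L', V', l, hLR, hRL, hb, hV⟩ := hg R hR hRC hne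
    exact (uni_a h p (fun l => fin2 l) hRC hLR hRL hb hV).1
  have e01 : cj s (Z 0) = Z 1 := h.cj_s_Z p
  have e10 : cj s (Z 1) = Z 0 := h.cj_s_Z' p
  intro i j hij
  rcases fin2 i with rfl | rfl
  · rcases fin2 j with rfl | rfl
    · exact absurd rfl hij
    exact ⟨T, hBT, hST, hR⟩
  · rcases fin2 j with rfl | rfl
    swap
    · exact absurd rfl hij
    refine ⟨cj s T, ?_, ?_, fun R hRT hRC hne => ?_⟩
    · rw [← cj_eq_of_mem_normalizer (h.S_norm_B p.mem)]
      exact cj_mono s hBT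
    · have h1 := syl_cj hST s
      rwa [cj_centralizer, e01] at h1
    · have hR1 : R = cj s (cj s⁻¹ R) := (cj_cj_inv s R).symm
      have h1 : IsMinPar T (cj s⁻¹ R) := by
        have h2 := isMinPar_cj s⁻¹ hRT
        rwa [cj_inv_cj] at h2
      have h2 : cj s⁻¹ R ≤ centralizer (Z 0 : Set G) := by
        rw [cj_le_iff, inv_inv, cj_centralizer, e01]
        exact hRC
      have h3 : ¬ cj s⁻¹ R ≤ normalizer (Z 1 : Set G) := by
        intro h4
        rw [cj_le_iff, inv_inv, cj_normalizer, e10] at h4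
        exact hne h4
      have h4 := cj_mono s (hR _ h1 h2 h3)
      rwa [cj_cj_inv, cj_normalizer, p.ji] at h4

/-- **`MB` from generation by blocks and FIX.** -/
theorem MB.of_gen (h : Bg S P B ZJ L W Z C q) (hq : 4 ≤ q) (hTI : ∀ i, TI (Z i))
    (hnl : NonLoc (normalizer (Z 0 : Set G)) (normalizer (Z 1 : Set G)))
    (hg : GenU (S : Subgroup G) B ZJ W Z q 0 1) (hf : FixU (S : Subgroup G) P W Z 0 1)
    (hoff : ∀ i, ∀ F ≤ B, B ≤ normalizer (F : Set G) → (∀ x ∈ F, ∀ y ∈ F, x * y = y * x) → (∀ x ∈ F, x ^ 2 = 1) →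
      W i ≤ F → ∃ A ≤ B, ¬ A ≤ centralizer (F : Set G) ∧
        (centralizer (A : Set G)).relIndex F ≤ (centralizer (F : Set G)).relIndex A) : MB S P B ZJ L W Z C q := by
  obtain ⟨s, p⟩ : ∃ s, Pa (S : Subgroup G) W 0 1 s := by
    obtain ⟨j, s, p⟩ := h.exists_partner 0
    rcases fin2 j with rfl | rfl
    · exact absurd rfl p.ne
    · exact ⟨s, p⟩
  refine ⟨h, hq, hTI, hnl, uniQ_of_gen h p hg, hoff, fun hW => ⟨(S : Subgroup G) ⊓ centralizer (Z 0 : Set G), ?_⟩⟩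
  have h1 := qfr_of h p (fun l => fin2 l) (hTI 0) hnl (by rw [vec2]; exact hW) hg hf
  rwa [vec2, vec2] at h1

end Cfsg.Agent.Omega.NO3S.EThree.Row7B
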