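import Cfsg.Agent.Omega.NO3S.EThree.FrQB

/-!
# LEMMA FIX for all `q` (`k = 2`; helper997 #20474 (1))

`D : FQ Z U B q`.

* `FixA U B i j` : some `A ∈ AA B` moves `U i` and centralises `U j` (stage `-1`);
* `FQ.fix` : **LEMMA FIX** : `n ∈ Q = C_B(U 0 U 1)`, `n² = 1`, `[n, Q] ≤ Z i` implies `n ∈ U 0 U 1`;
* `FQ.inf_U` : `U i ∩ N_i ≤ Z i` if `U i ≰ N_i`;
* `FQ.fixN` : `U i ≰ N_i`, `n ∈ N_i`, `[n, B] ≤ Z i` implies `n ∈ Z 0 Z 1`.
-/

set_option autoImplicit false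
set_option linter.unusedSectionVars false

namespace Cfsg.Agent.Omega.NO3S.EThree

open Subgroup Cfsg Cfsg.Agent.ZN Cfsg.Agent.Omega.MinPar
open Cfsg.Agent.Omega.NoFF.Basic (conj_conj mem_conj conj_le_iff conj_le_centralizer comm_symm comm_mono)
open Cfsg.Agent.Omega.NOThreeL.Pair (conj_eq_of_mem)
open Cfsg.Agent.Omega.OM.PG
open Cfsg.Agent.Omega.NO3S.EThree.ExactA (eab_iff eab_mono eab_sup swp)
open Cfsg.Agent.ZN.ChoiceBase (AA)
open scoped Pointwise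

universe u

variable {G : Type u} [Group G]

/-- some `A ∈ AA B` moves `U i` and centralises `U j` -/
def FixA (U : Fin 2 → Subgroup G) (B : Subgroup G) (i j : Fin 2) : Prop :=
  ∃ A ∈ AA B, ¬ A ≤ centralizer (U i : Set G) ∧ A ≤ centralizer (U j : Set G)

namespace FQ

variable {Z U : Fin 2 → Subgroup G} {B : Subgroup G} {q : ℕ} [Finite G] (D : FQ Z U B q)
include D

/-- **LEMMA FIX.** -/
theorem fix {i j : Fin 2} (hij : i ≠ j) (hA : FixA U B i j) {n : G} (hn : n ∈ B)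
    (hnU : ∀ k, n ∈ centralizer (U k : Set G)) (hn2 : n ^ 2 = 1)
    (h : ∀ b ∈ B, (∀ k, b ∈ centralizer (U k : Set G)) → n * b * n⁻¹ * b⁻¹ ∈ Z i) : n ∈ U 0 ⊔ U 1 := by
  obtain ⟨A, hA, hmv, hAj⟩ := hA
  have hAB : A ≤ B := hA.2.1
  obtain ⟨l, hlU, hlZ, -, -, hlQ⟩ := D.mvl i j hij
  obtain ⟨hrt, hA1, -⟩ := D.rt_AA le_rfl (D.U_le_B i) hA hmv hlU hlZ
  set Q : Subgroup G := B ⊓ centralizer (U i : Set G) ⊓ centralizer (U j : Set G) with hQ
  have hQk : ∀ b ∈ Q, ∀ k, b ∈ centralizer (U k : Set G) := by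
    intro b hb k
    rcases fin_two_or hij k with h1 | h1
    · rw [h1]; exact hb.1.2
    · rw [h1]; exact hb.2
  have hnQ : n ∈ Q := ⟨⟨hn, hnU i⟩, hnU j⟩
  have hlQ1 : ∀ b ∈ Q, l * b * l⁻¹ ∈ Q := by
    intro b hb
    rw [← hlQ, mem_conj]
    have e : l⁻¹ * (l * b * l⁻¹) * l = b := by group
    rwa [e]
  have hlQ2 : ∀ b ∈ Q, l⁻¹ * b * l ∈ Q := by
    intro b hb
    rw [← hlQ, mem_conj] at hb
    exact hb
  have hBQ : B ≤ normalizer (Q : Set G) :=
    NO3L.LemP.le_normalizer_inf (NO3L.LemP.le_normalizer_inf le_normalizer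
      ((D.B_le_NU i).trans (NO3L.LemP.normalizer_le_normalizer_cent (U i))))
      ((D.B_le_NU j).trans (NO3L.LemP.normalizer_le_normalizer_cent (U j)))
  have hUQ : U i ≤ Q := by
    refine le_inf (le_inf (D.U_le_B i) (eab_iff.1 (D.eU i)).1) ?_
    exact comm_symm ((D.half i j hij).2.trans (centralizer_le (SetLike.coe_subset_coe.2 (D.UQ' i))))
  have hn1 : n * n = 1 := by rw [← pow_two]; exact hn2
  have hmain := hrt.fix (Q := Q) (F := Q) (n := l * n * l⁻¹)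
    (le_inf (le_inf (inf_le_left.trans hAB) inf_le_right) (inf_le_left.trans hAj))
    (inf_le_left.trans inf_le_right)
    (fun a ha b hb => by
      have h2 := (mem_normalizer_iff.1 (hBQ (inv_mem (hAB ha))) b).1 hb
      rwa [inv_inv] at h2)
    le_rfl hUQ
    (fun a ha => (mem_normalizer_iff.1 (hBQ (hAB ha)) _).1 (hlQ1 n hnQ))
    (by
      calc l * n * l⁻¹ * (l * n * l⁻¹) = l * (n * n) * l⁻¹ := by group
        _ = 1 := by rw [hn1]; group)
    (fun b hb => by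
      rw [mem_conj]
      have e : l⁻¹ * (l * n * l⁻¹ * b * (l * n * l⁻¹)⁻¹ * b⁻¹) * l =
          n * (l⁻¹ * b * l) * n⁻¹ * (l⁻¹ * b * l)⁻¹ := by group
      rw [e]
      exact h _ (hlQ2 b hb).1.1 (hQk _ (hlQ2 b hb)))
    (fun X hX _ hXQ => TC.off hX (hXQ.trans (inf_le_left.trans inf_le_left)) hA)
    (fun X hX hUX hXQ => by
      set A0 : Subgroup G := A ⊓ centralizer (U i : Set G) with hA0
      have h2 := TC.off hX (hXQ.trans (inf_le_left.trans inf_le_left)) hA1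
      have hXU : X ≤ centralizer (U i : Set G) :=
        (eab_iff.1 hX).1.trans (centralizer_le (SetLike.coe_subset_coe.2 hUX))
      have h3 : (centralizer ((A0 ⊔ U i : Subgroup G) : Set G)).relIndex X =
          (centralizer (A0 : Set G)).relIndex X := by
        rw [← inf_relIndex_left X, ← inf_relIndex_left X (centralizer (A0 : Set G))]
        congr 1
        refine le_antisymm (inf_le_inf_left _ (centralizer_le (SetLike.coe_subset_coe.2 le_sup_left))) ?_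
        rintro x ⟨hx, hx'⟩
        refine ⟨hx, ?_⟩
        have h4 : A0 ⊔ U i ≤ centralizer ({x} : Set G) := by
          refine sup_le (fun a ha => ?_) fun u hu => ?_
          · exact mem_centralizer_singleton_iff.2 (mem_centralizer_iff.1 hx' a ha)
          · exact mem_centralizer_singleton_iff.2 (mem_centralizer_iff.1 (hXU hx) u hu)
        exact mem_centralizer_iff.2 fun y hy => mem_centralizer_singleton_iff.1 (h4 hy)
      have h4 : (centralizer (X : Set G)).relIndex (A0 ⊔ U i : Subgroup G) ≤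
          (centralizer (X : Set G)).relIndex A0 := by
        refine relIndex_sup_le (comm_symm hXU) ?_
        refine (comm_symm ?_ : U i ≤ centralizer (A0 : Set G)).trans (centralizer_le_normalizer _)
        exact inf_le_right
      rw [← h3]
      exact h2.trans h4)
  refine D.zQ n hn hnU hn2 fun b hb hbU => ?_
  have hbQ : b ∈ Q := ⟨⟨hb, hbU i⟩, hbU j⟩
  have h5 := hmain _ (hlQ1 b hbQ)
  have e : l * n * l⁻¹ * (l * b * l⁻¹) * (l * n * l⁻¹)⁻¹ * (l * b * l⁻¹)⁻¹ = l * (n * b * n⁻¹ * b⁻¹) * l⁻¹ := by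
    group
  rw [e, conj_eq_one_iff] at h5
  exact (mul_inv_eq_iff_eq_mul.1 (mul_inv_eq_one.1 h5)).symm

/-- `U i ∩ N_i ≤ Z i` if `U i ≰ N_i` -/
theorem inf_U {i : Fin 2} (hV : ¬ U i ≤ NN Z (Z i)) {x : G} (hx : x ∈ U i) (hxN : x ∈ NN Z (Z i)) : x ∈ Z i := by
  by_contra hxZ
  apply hV
  obtain ⟨j, hij⟩ := fin_two_ex i
  have hZN : Z i ≤ NN Z (Z i) := by
    intro z hz
    obtain ⟨b, hb, -, e⟩ := D.root i j hij x hx hxZ z hz
    rw [← e]
    exact mul_mem (D.B_norm_N i hb hxN) (inv_mem hxN)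
  intro y hy
  by_cases hyZ : y ∈ Z i
  · exact hZN hyZ
  obtain ⟨t, -, h1, -, h2⟩ := D.tor i j hij x hx hxZ y hy hyZ
  have h3 : t ∈ HH (Z i) := ChoiceBase.mem_normalizer_iff_cj.2 h1
  have h4 := (mem_normalizer_iff.1 (D.HH_norm_N i h3) x).1 hxN
  have h5 := mul_mem h4 (inv_mem (hZN h2))
  have e : t * x * t⁻¹ * (y⁻¹ * (t * x * t⁻¹))⁻¹ = y := by group
  rwa [e] at h5

theorem mem_Z_of_fix {i : Fin 2} {x : G} (hx : x ∈ U i) (h : ∀ b ∈ B, b * x = x * b) : x ∈ Z i := by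
  by_contra hxZ
  obtain ⟨j, hij⟩ := fin_two_ex i
  have h1 : Z i = ⊥ := by
    rw [eq_bot_iff]
    intro z hz
    obtain ⟨b, hb, -, e⟩ := D.root i j hij x hx hxZ z hz
    rw [mem_bot, ← e, h b hb]
    group
  have h2 := D.cardZ i
  have h3 := D.cardU i
  rw [h1, card_bot] at h2
  rw [← h2, one_pow] at h3
  have h4 : U i = ⊥ := Subgroup.card_eq_one.1 h3
  rw [h4, mem_bot] at hx
  exact hxZ (hx ▸ one_mem _)

/-- **`C_{N_i/Z_i}(B) = Z_j Z_i / Z_i`** if `U i ≰ N_i`. -/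
theorem fixN {i j : Fin 2} (hij : i ≠ j) (hA : FixA U B i j) (hV : ¬ U i ≤ NN Z (Z i)) {n : G}
    (hn : n ∈ NN Z (Z i)) (h : ∀ b ∈ B, n * b * n⁻¹ * b⁻¹ ∈ Z i) : n ∈ Z 0 ⊔ Z 1 := by
  have hnB : n ∈ B := D.O_le_B (D.N_le_O i hn)
  have hnU : ∀ k, n ∈ centralizer (U k : Set G) := by
    intro k
    rcases fin_two_or hij k with h1 | h1
    · rw [h1]
      exact comm_symm ((D.UQ' i).trans (D.Q_cent_N i)) hn
    · rw [h1]
      exact centralizer_le (SetLike.coe_subset_coe.2 (D.U_le_N hij)) (D.N_comm i hn)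
  have h1 := D.fix hij hA hnB hnU ((eab_iff.1 (D.N_eab i)).2 n hn) fun b hb _ => h b hb
  have hUU : U j ≤ centralizer (U i : Set G) :=
    (D.half i j hij).2.trans (centralizer_le (SetLike.coe_subset_coe.2 (D.UQ' i)))
  have h2 : U 0 ⊔ U 1 = U i ⊔ U j := by
    rcases fin_two_pair hij with ⟨rfl, rfl⟩ | ⟨rfl, rfl⟩
    · rfl
    · exact sup_comm _ _
  rw [h2] at h1
  obtain ⟨x, hx, y, hy, e⟩ := OM.KTwo.exists_mul_of_mem_sup (hUU.trans (centralizer_le_normalizer _)) h1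
  have hxN : x ∈ NN Z (Z i) := by
    have h3 := mul_mem hn (inv_mem (D.U_le_N hij hy))
    rwa [e, mul_inv_cancel_right] at h3
  have hxZ := D.inf_U hV hx hxN
  have hyZ : y ∈ Z j := by
    refine D.mem_Z_of_fix hy fun b hb => ?_
    have h3 : n * b * n⁻¹ * b⁻¹ = x * (y * b * y⁻¹ * b⁻¹) * x⁻¹ := by
      have h4 : b * x⁻¹ = x⁻¹ * b := D.cBZ i hb (inv_mem hxZ)
      rw [e]
      calc x * y * b * (x * y)⁻¹ * b⁻¹ = x * (y * b * y⁻¹ * b⁻¹) * (b * x⁻¹) * b⁻¹ := by group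
        _ = _ := by rw [h4]; group
    have h5 : y * b * y⁻¹ * b⁻¹ ∈ Z j := by
      have h6 := inv_mem (D.com j b hb y hy)
      have e1 : (b * y * b⁻¹ * y⁻¹)⁻¹ = y * b * y⁻¹ * b⁻¹ := by group
      rwa [e1] at h6
    have h6 := h b hb
    rw [h3] at h6
    have h7 := mem_centralizer_iff.1 (hUU (D.ZU' j h5)) x hx
    rw [h7, mul_inv_cancel_right] at h6
    have h8 : y * b * y⁻¹ * b⁻¹ = 1 := by
      have h9 : y * b * y⁻¹ * b⁻¹ ∈ U 0 ⊓ U 1 := by
        rcases fin_two_pair hij with ⟨rfl, rfl⟩ | ⟨rfl, rfl⟩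
        · exact ⟨D.ZU' 0 h6, D.ZU' 1 h5⟩
        · exact ⟨D.ZU' 0 h5, D.ZU' 1 h6⟩
      rwa [D.inf, mem_bot] at h9
    exact (mul_inv_eq_iff_eq_mul.1 (mul_inv_eq_one.1 h8)).symm
  rw [e]
  exact mul_mem (D.Z_le_sup i hxZ) (D.Z_le_sup j hyZ)

end FQ

end Cfsg.Agent.Omega.NO3S.EThree
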