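import Cfsg.Agent.Omega.NO3S.EThree.FrQ
import Cfsg.Agent.Omega.NO3S.EThree.FrameG

/-!
# NO-3S, case (E), `k = 2`, all `q`: the frame `FQ` from the frame `Bg` (every level)

`FQ.of_bg : Bg S P B ZJ L W Z C q → TI (Z 0) → NonLoc (N(Z 0)) (N(Z 1)) → FQ Z W B q` (`ι = Fin 2`).
-/

set_option autoImplicit false
set_option linter.unusedSectionVars false

namespace Cfsg.Agent.Omega.NO3S.EThree

open Subgroup Cfsg Cfsg.Agent.ZN.ChoiceBase
open Cfsg.Agent.ZN (zc zl o2)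
open Cfsg.Agent.ZN.ChoiceSit (Syl)
open Cfsg.Agent.Omega.OM Cfsg.Agent.Omega.OM.Uni
open Cfsg.Agent.Omega.NO3S (HypJ HypN Hyp)
open Cfsg.Agent.Omega.NO3S.EThree.Frame
open scoped Pointwise

universe u

variable {G : Type u} [Group G]

namespace BgQ

theorem other {i j : Fin 2} (hij : i ≠ j) : j = 1 - i := by
  have h2 : ∀ a b : Fin 2, a ≠ b → b = 1 - a := by decide
  exact h2 i j hij

variable [Finite G] {S : Sylow 2 G} {P B ZJ : Subgroup G} {L W Z C : Fin 2 → Subgroup G} {q : ℕ}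
  (h : Bg S P B ZJ L W Z C q)
include h

theorem C_le_W {i j : Fin 2} (hij : i ≠ j) : C i ≤ W j := by
  refine (h.C_le i).trans (iSup_le fun l => ?_)
  have : (l : Fin 2) = j := by
    have h1 := l.2
    have h2 : ∀ a b c : Fin 2, a ≠ b → c ≠ a → c = b := by decide
    exact h2 i j l hij h1
  rw [this]

theorem C_eq_W {i j : Fin 2} (hij : i ≠ j) : C i = W j := le_antisymm (C_le_W h hij) (h.fr.WjC i j hij)

theorem W_inf_ZJ (i : Fin 2) {x : G} (hx : x ∈ W i) (hz : x ∈ ZJ) : x ∈ Z i :=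
  (h.fr.blk i).toMd.mem_Z_iff.2 ⟨hx, fun b hb => ((h.fr.mem_ZJ x).1 hz).2 b hb⟩

theorem ZJ_eq : ZJ = Z 0 ⊔ Z 1 := by
  apply le_antisymm
  · intro z hz
    obtain ⟨w, hw, c, hc, hcz, rfl⟩ := h.fr.split_ZJ 0 hz
    exact mul_mem (mem_sup_left hw) (mem_sup_right (W_inf_ZJ h 1 (C_le_W h (by decide) hc) hcz))
  · exact sup_le (h.fr.Z_le 0) (h.fr.Z_le 1)

theorem V_eq : zl (S : Subgroup G) P = W 0 ⊔ W 1 := by
  apply le_antisymm
  · intro v hv
    obtain ⟨w, hw, c, hc, rfl⟩ := h.fr.WC 0 v hv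
    exact mul_mem (mem_sup_left hw) (mem_sup_right (C_le_W h (by decide) hc))
  · exact sup_le (h.fr.WV 0) (h.fr.WV 1)

theorem cent_iff {x : G} : (∀ v ∈ zl (S : Subgroup G) P, x * v = v * x) ↔ ∀ i, x ∈ centralizer (W i : Set G) := by
  constructor
  · intro hx i
    exact mem_centralizer_iff.2 fun w hw => (hx w (h.fr.WV i hw)).symm
  · intro hx v hv
    obtain ⟨w, hw, c, hc, rfl⟩ := h.fr.WC 0 v hv
    have h1 := mem_centralizer_iff.1 (hx 0) w hw
    have h2 := mem_centralizer_iff.1 (hx 1) c (C_le_W h (by decide) hc)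
    have c1 : Commute x w := h1.symm
    have c2 : Commute x c := h2.symm
    exact (c1.mul_right c2).eq

theorem mem_Q_iff {x : G} : x ∈ o2 P ↔ x ∈ B ∧ ∀ i, x ∈ centralizer (W i : Set G) := by
  constructor
  · intro hx
    exact ⟨h.fr.QB hx, (cent_iff h).1 ((h.fr.mem_Q x (h.fr.QB hx)).1 hx)⟩
  · rintro ⟨hx, h1⟩
    exact (h.fr.mem_Q x hx).2 ((cent_iff h).2 h1)

theorem Q_eq {i j : Fin 2} (hij : i ≠ j) :
    B ⊓ centralizer (W i : Set G) ⊓ centralizer (W j : Set G) = o2 P := by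
  ext x
  rw [mem_Q_iff h]
  constructor
  · rintro ⟨⟨h1, h2⟩, h3⟩
    refine ⟨h1, fun l => ?_⟩
    have h4 : ∀ a b c : Fin 2, a ≠ b → c = a ∨ c = b := by decide
    rcases h4 i j l hij with rfl | rfl
    · exact h2
    · exact h3
  · rintro ⟨h1, h2⟩
    exact ⟨⟨h1, h2 i⟩, h2 j⟩

theorem cj_W_L {i : Fin 2} {l : G} (hl : l ∈ L i) : cj l (W i) = W i := by
  refine Subgroup.eq_of_le_of_card_ge ?_ (by rw [card_cj])
  rintro _ ⟨w, hw, rfl⟩
  exact (h.fr.blk i).nV l hl w hw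

theorem mvl {i j : Fin 2} (hij : i ≠ j) : ∃ l : G, MulAut.conj l • W i = W i ∧ MulAut.conj l • Z i ⊓ Z i = ⊥ ∧
    l ∈ centralizer (Z j : Set G) ∧
    MulAut.conj l • (B ⊓ centralizer (W i : Set G)) = B ⊓ centralizer (W i : Set G) ∧
    MulAut.conj l • (B ⊓ centralizer (W i : Set G) ⊓ centralizer (W j : Set G)) =
      B ⊓ centralizer (W i : Set G) ⊓ centralizer (W j : Set G) := by
  obtain ⟨l, hl, hne, -⟩ := (h.fr.blk i).exists_mv
  refine ⟨l, cj_W_L h hl, (h.fr.blk i).nat_tri (h.fr.cardZ i) hl hne, ?_, ?_, ?_⟩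
  · exact mem_centralizer_iff.2 fun z hz =>
      (h.fr.LC i l hl z (h.fr.Z_le j hz) (h.fr.WjC i j hij ((h.fr.blk j).ZV hz))).symm
  · change cj l _ = _
    refine Subgroup.eq_of_le_of_card_ge ?_ (by rw [card_cj])
    have h1 : cj l (centralizer (W i : Set G)) = centralizer (W i : Set G) := by
      rw [cj_centralizer, cj_W_L h hl]
    rintro _ ⟨x, ⟨hx, hxc⟩, rfl⟩
    refine mem_inf.2 ⟨?_, ?_⟩
    · exact (h.fr.blk i).cor l hl x hx fun v hv => (mem_centralizer_iff.1 hxc v hv).symm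
    · rw [← h1]
      exact ⟨x, hxc, rfl⟩
  · change cj l _ = _
    rw [Q_eq h hij]
    refine Subgroup.eq_of_le_of_card_ge ?_ (by rw [card_cj])
    rintro _ ⟨x, hx, rfl⟩
    exact h.fr.LQ i l hl x hx

theorem tor {i j : Fin 2} (hij : i ≠ j) {x : G} (hx : x ∈ W i) (hxZ : x ∉ Z i) {y : G} (hy : y ∈ W i)
    (hyZ : y ∉ Z i) : ∃ t : G, t ∈ centralizer (W j : Set G) ∧
    MulAut.conj t • Z i = Z i ∧ MulAut.conj t • W i = W i ∧ y⁻¹ * (t * x * t⁻¹) ∈ Z i := by
  rcases Nat.lt_or_ge 2 q with hq | hq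
  · obtain ⟨t, htP, htC, htZ, -, ht, -⟩ := (h.scal hq i).ex x hx hxZ y hy hyZ
    refine ⟨t, ?_, mem_normalizer_iff_cj.1 htZ, h.fix htP htC i, ht⟩
    rwa [C_eq_W h hij] at htC
  · refine ⟨1, one_mem _, by simp, by simp, ?_⟩
    have hq2 : q = 2 := le_antisymm hq (h.fr.blk i).one
    rw [one_mul, inv_one, mul_one]
    have hZ2 : Nat.card (Z i) = 2 := by rw [h.fr.cardZ i, hq2]
    have hW : Nat.card (W i) = 4 := by rw [(h.fr.blk i).card, hZ2, hq2]
    have h3 : (Z i).relIndex (W i) = 2 := by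
      have h5 : Nat.card (Z i) * (Z i).relIndex (W i) = Nat.card (W i) := by
        have h6 := Subgroup.card_mul_index ((Z i).subgroupOf (W i))
        rwa [Nat.card_congr (Subgroup.subgroupOfEquivOfLe (h.fr.blk i).ZV).toEquiv] at h6
      rw [hZ2, hW] at h5
      omega
    have h6 := Subgroup.mul_mem_iff_of_index_two (H := (Z i).subgroupOf (W i)) h3
      (a := (⟨y, hy⟩ : W i)⁻¹) (b := ⟨x, hx⟩)
    have h7 : ((⟨y, hy⟩ : W i)⁻¹ * ⟨x, hx⟩) ∈ (Z i).subgroupOf (W i) := by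
      rw [h6]
      constructor
      · intro h8
        exact absurd ((mem_subgroupOf.1 (inv_mem_iff.1 h8))) hyZ
      · intro h8
        exact absurd (mem_subgroupOf.1 h8) hxZ
    exact mem_subgroupOf.1 h7

theorem ti (hTI : TI (Z 0)) {a b : Subgroup G} (ha : PG.IsPt Z a) (hb : PG.IsPt Z b) {x : G} (hxa : x ∈ a)
    (hxb : x ∈ b) (hx : x ≠ 1) : a = b := by
  obtain ⟨g, rfl⟩ := ha
  obtain ⟨k, rfl⟩ := hb
  change cj g (Z 0) = cj k (Z 0)
  have h1 : cj (k⁻¹ * g) (Z 0) = Z 0 := by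
    apply hTI
    intro hbot
    have h2 : k⁻¹ * x * k ∈ cj (k⁻¹ * g) (Z 0) ⊓ Z 0 := by
      refine mem_inf.2 ⟨?_, mem_cj.1 hxb⟩
      rw [mem_cj]
      have e : (k⁻¹ * g)⁻¹ * (k⁻¹ * x * k) * (k⁻¹ * g) = g⁻¹ * x * g := by group
      rw [e]
      exact mem_cj.1 hxa
    rw [hbot, mem_bot] at h2
    apply hx
    have e : x = k * (k⁻¹ * x * k) * k⁻¹ := by group
    rw [e, h2]; group
  have h3 := congrArg (cj k) h1
  rwa [cj_cj, mul_inv_cancel_left] at h3

theorem isPt (j : Fin 2) : PG.IsPt Z (Z j) := by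
  have h2 : ∀ a : Fin 2, a = 0 ∨ a = 1 := by decide
  rcases h2 j with rfl | rfl
  · exact ⟨1, by simp⟩
  · obtain ⟨j, s, p⟩ := h.exists_partner 0
    have hj : j = 1 := by
      have h1 := p.ne
      have h2 : ∀ a : Fin 2, 0 ≠ a → a = 1 := by decide
      exact h2 j h1
    subst hj
    exact ⟨s, (h.cj_s_Z p).symm⟩

end BgQ

open BgQ in
/-- **The frame `FQ` from `Bg`** (every level). -/
theorem FQ.of_bg [Finite G] {S : Sylow 2 G} {P B ZJ : Subgroup G} {L W Z C : Fin 2 → Subgroup G} {q : ℕ}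
    (h : Bg S P B ZJ L W Z C q) (hTI : TI (Z 0))
    (hnl : MinPar.NonLoc (normalizer (Z 0 : Set G)) (normalizer (Z 1 : Set G))) : FQ Z W B q := by
  obtain ⟨j, s, p⟩ := h.exists_partner 0
  have hj : j = 1 := by
    have h1 := p.ne
    have h2 : ∀ a : Fin 2, 0 ≠ a → a = 1 := by decide
    exact h2 j h1
  subst hj
  have hPP := h.toPP p hTI hnl
  have e1 : ∀ F : Fin 2 → Subgroup G, ![F 0, F 1] = F := by
    intro F
    funext i
    have h2 : ∀ a : Fin 2, a = 0 ∨ a = 1 := by decide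
    rcases h2 i with rfl | rfl <;> rfl
  rw [e1 Z, e1 W] at hPP
  exact
    { toPP := hPP
      cardZ := h.fr.cardZ
      cardU := fun i => by rw [(h.fr.blk i).card, h.fr.cardZ i, pow_two]
      ZU' := fun i => (h.fr.blk i).ZV
      sqU := fun i x hx => h.fr.Vsq (h.fr.WV i hx)
      inf := h.W_disj (by decide)
      ti := fun a b ha hb x hxa hxb hx => BgQ.ti h hTI ha hb hxa hxb hx
      fus := by
        intro a ha x hxa hxJ hx
        obtain ⟨g, rfl⟩ := ha
        rw [← ZJ_eq h] at hxJ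
        obtain ⟨l, hl⟩ := h.fus (i := 0) hxJ (mem_cj.1 hxa)
        have h3 := BgQ.ti h hTI ⟨g, rfl⟩ (isPt h l) hxa hl hx
        have h2 : ∀ a : Fin 2, a = 0 ∨ a = 1 := by decide
        rcases h2 l with rfl | rfl
        · exact Or.inl h3
        · exact Or.inr h3
      cen := fun i => h.o2_cent i
      UQ' := fun i => h.W_le_o2 i
      half := fun i j hij => by
        have h3 := h.lemK (i := i) (j := j) hij.symm
        exact ⟨h3.trans inf_le_left, h3.trans inf_le_right⟩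
      ab := by
        rintro a l l' ⟨k, rfl, rfl⟩ ⟨k', hk', rfl⟩
        have h3 : k⁻¹ * k' ∈ normalizer (Z 0 : Set G) := by
          rw [mem_normalizer_iff_cj]
          have h4 : cj k (Z 0) = cj k' (Z 0) := hk'
          rw [← cj_cj, ← h4, cj_inv_cj]
        have h4 := h.comm 0 (a := 1) (b := k⁻¹ * k') (one_mem _) h3
        rw [cj_one] at h4
        have h5 : W 0 ≤ centralizer (cj (k⁻¹ * k') (W 0) : Set G) :=
          (h.fr.WV 0).trans (h4.trans (centralizer_le (cj_mono _ (h.fr.WV 0))))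
        have h6 := cj_mono k h5
        rw [cj_centralizer, cj_cj, mul_inv_cancel_left] at h6
        exact h6
      syl := by rw [← ZJ_eq h]; exact h.syl_B
      swB := ⟨s, mem_normalizer_iff_cj.1 (h.S_norm_B p.mem), h.cj_s_Z p, h.cj_s_Z' p, p.ij, p.ji⟩
      com := fun i b hb x hx => (h.fr.blk i).com b hb x hx
      free := fun i b hb x hx hxZ e => mem_centralizer_iff.2 fun u hu =>
        ((h.fr.blk i).free b hb x hx hxZ e u hu).symm
      root := fun i j hij x hx hxZ z hz => by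
        obtain ⟨b, hb, hbc, e⟩ := h.root i x hx hxZ z hz
        exact ⟨b, hb, by rwa [C_eq_W h hij] at hbc, e⟩
      zB := fun x hx hx2 hc => by
        rw [← ZJ_eq h, ← h.fr.zcB]
        exact mem_zc.2 ⟨hx, hx2, hc⟩
      zQ := fun x hx hxU hx2 hc => by
        rw [← V_eq h]
        refine h.fr.zcQ x ((mem_Q_iff h).2 ⟨hx, hxU⟩) hx2 fun y hy => ?_
        obtain ⟨h3, h4⟩ := (mem_Q_iff h).1 hy
        exact (hc y h3 h4).symm
      mvl := fun i j hij => BgQ.mvl h hij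
      tor := fun i j hij x hx hxZ y hy hyZ => BgQ.tor h hij hx hxZ hy hyZ }

end Cfsg.Agent.Omega.NO3S.EThree
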