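import Cfsg.Agent.Omega.NO3S.EThree.Frame
import Cfsg.Agent.Omega.NO3S.EThree.StepF

/-!
# NO-3S, `V_P` a sum of `k ≥ 2` natural modules: supply of the fields of STEP F, `O₂(H₁/F₁) = 1`

* `Bs.stepF` : `StepF.Hyp S s (Z i) (W i) (P ⊓ C(C i)) F` from `Bs`, `Pa`, `TI` and the field `cov`;
* `Bs.core` : `R ≤ N_S(Z i)`, `F₁ R` normal in `H₁ = N_G(Z i)` (`F₁ = C_{H₁}(N₁)`) implies `R ≤ F₁`;
* `Bs.NN_eq` : `N₁ = NN ![Z i, Z j] (Z i) = ⟨Z j ^ H₁⟩`.
-/

set_option autoImplicit false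
set_option linter.unusedSectionVars false

namespace Cfsg.Agent.Omega.NO3S.EThree.Frame

open Subgroup Cfsg Cfsg.Agent.ZN.ChoiceBase
open Cfsg.Agent.ZN (jj zj bau zc zl o2)
open Cfsg.Agent.ZN.ChoiceSit (Syl exists_syl syl_conj)
open Cfsg.Agent.Omega.OM Cfsg.Agent.Omega.OM.Uni
open scoped Pointwise

universe u

variable {G : Type u} [Group G]

namespace Bs

section A

variable [Finite G] {S : Sylow 2 G} {P : Subgroup G} {ι : Type} {L W Z C A : ι → Subgroup G} {q m : ℕ}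
  (h : Bs S P L W Z C A q m) {i j : ι} {s : G} (p : Pa (S : Subgroup G) W i j s)
include h p

theorem s_sq : s * s ∈ normalizer (Z i : Set G) := by
  rw [mem_normalizer_iff_cj, ← cj_cj, h.cj_s_Z p, h.cj_s_Z' p]

/-- `k Z i ≤ W i` implies `k Z i = l Z i` with `l ∈ P ∩ C(C i)` (from TI). -/
theorem pts (hTI : TI (Z i)) {k : G} (hk : cj k (Z i) ≤ W i) :
    ∃ l ∈ P, l ∈ centralizer (C i : Set G) ∧ cj l (Z i) = cj k (Z i) := by
  obtain ⟨z, hz, hz1⟩ : ∃ x ∈ Z i, x ≠ 1 := by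
    by_contra hcon
    push Not at hcon
    exact h.Z_ne i ((eq_bot_iff_forall _).2 hcon)
  have hx : k * z * k⁻¹ ∈ cj k (Z i) := ⟨z, hz, rfl⟩
  have hx1 : k * z * k⁻¹ ≠ 1 := fun e => hz1 (conj_eq_one_iff.1 e)
  obtain ⟨l, hl, hlc, y, hy, e⟩ := h.tr i _ (hk hx) hx1
  have h1 : cj (l⁻¹ * k) (Z i) = Z i := by
    apply hTI
    intro hbot
    have h2 : y ∈ cj (l⁻¹ * k) (Z i) ⊓ Z i := by
      refine mem_inf.2 ⟨?_, hy⟩
      rw [mem_cj]
      have e1 : (l⁻¹ * k)⁻¹ * y * (l⁻¹ * k) = k⁻¹ * (l * y * l⁻¹) * k := by group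
      have e2 : k⁻¹ * (k * z * k⁻¹) * k = z := by group
      rw [e1, e, e2]
      exact hz
    rw [hbot, mem_bot] at h2
    rw [h2, mul_one, mul_inv_cancel] at e
    exact hx1 e.symm
  refine ⟨l, hl, hlc, ?_⟩
  have h2 := congrArg (cj l) h1
  rw [cj_cj, mul_inv_cancel_left] at h2
  exact h2.symm

/-- **The hypotheses of STEP F.** -/
theorem stepF [Finite ι] (hTI : TI (Z i)) {F : Subgroup G}
    (hF : F ≤ normalizer (Z i : Set G) ⊓ normalizer (Z j : Set G))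
    (hFn : normalizer (Z i : Set G) ≤ normalizer (F : Set G))
    (cov : ∀ x ∈ normalizer (Z i : Set G), ∃ c ∈ normalizer (Z i : Set G),
      ∃ k ∈ closure (((normalizer (Z i : Set G) ⊓ normalizer (StepF.cn s (Z i) : Set G) : Subgroup G) : Set G) ∪
        (StepF.cn s (P ⊓ centralizer (C i : Set G)) : Set G)),
      ∃ σ ∈ (S : Subgroup G), x = c * k ∧ StepF.cn (c * s) (Z i) = StepF.cn σ (Z i) ∧ StepF.cn c (W i) = W i) :
    StepF.Hyp (S : Subgroup G) s (Z i) (W i) (P ⊓ centralizer (C i : Set G)) F where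
  sS := p.mem
  ss := h.s_sq p
  ne := fun e => p.ne (h.Z_inj ((h.cj_s_Z p).symm.trans e)).symm
  ZV := (h.fr.blk i).ZV
  LV := fun l hl => h.fix hl.1 hl.2 i
  pts := fun g hg => by
    obtain ⟨l, hl, hlc, e⟩ := h.pts p hTI hg
    exact ⟨l, ⟨hl, hlc⟩, e.symm⟩
  blk := by
    rintro σ hσ hne l ⟨hl, hlc⟩ v hv
    obtain ⟨τ, hτ⟩ := h.perm_S hσ
    have h1 : τ i ≠ i := fun e => hne (by
      have := (hτ i).2.1
      rw [e] at this
      exact this)
    have h2 : σ * l * σ⁻¹ ∈ centralizer (C (τ i) : Set G) := by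
      rw [← (hτ i).2.2, ← cj_centralizer]
      exact ⟨l, hlc, rfl⟩
    exact (mem_centralizer_iff.1 h2 v (h.fr.WjC _ _ h1 hv)).symm
  FD := by
    have e : StepF.cn s (Z i) = Z j := h.cj_s_Z p
    rw [e]
    exact hF
  Fn := fun x hx f hf => (mem_normalizer_iff.1 (hFn hx) f).1 hf
  cov := cov
  ab := by
    intro σ hσ x hx a ha b hb
    have e : StepF.cn s (Z i) = Z j := h.cj_s_Z p
    rw [e] at hx
    have h1 := h.comm j (one_mem _) hx
    rw [cj_one] at h1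
    have hσV : σ * a * σ⁻¹ ∈ zl (S : Subgroup G) P := by
      have h2 : σ ∈ normalizer (zl (S : Subgroup G) P : Set G) :=
        MinSimple.VModule.le_normalizer_zl _ _ (h.hyp.star.isLoc.le hσ)
      exact (mem_normalizer_iff.1 h2 a).1 (h.fr.ZV i ha)
    have hxV : x * b * x⁻¹ ∈ cj x (zl (S : Subgroup G) P) := ⟨b, h.fr.ZV i hb, rfl⟩
    exact (mem_centralizer_iff.1 (h1 hσV) _ hxV).symm

/-- `N₁ = ⟨Z j ^ N(Z i)⟩`. -/
theorem NN_eq : PG.NN ![Z i, Z j] (Z i) = ⨆ k : normalizer (Z i : Set G), cj (k : G) (Z j) := by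
  apply le_antisymm
  · refine sSup_le ?_
    rintro u ⟨k, hk, rfl⟩
    have hk' : k ∈ normalizer (Z i : Set G) := mem_normalizer_iff_cj.2 hk.symm
    exact le_iSup (fun k : normalizer (Z i : Set G) => cj (k : G) (Z j)) ⟨k, hk'⟩
  · refine iSup_le fun k => le_sSup ⟨k, ?_, rfl⟩
    exact (mem_normalizer_iff_cj.1 k.2).symm

/-- **`O₂(H₁ / F₁) = 1`.** -/
theorem core [Finite ι] {R : Subgroup G} (hR : R ≤ (S : Subgroup G) ⊓ normalizer (Z i : Set G))
    (hn : normalizer (Z i : Set G) ≤ normalizer ((PG.FF ![Z i, Z j] (Z i) ⊔ R : Subgroup G) : Set G)) :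
    R ≤ PG.FF ![Z i, Z j] (Z i) := by
  have : Fact (Nat.Prime 2) := ⟨Nat.prime_two⟩
  set H : Subgroup G := normalizer (Z i : Set G) with hH
  set N : Subgroup G := PG.NN ![Z i, Z j] (Z i) with hN
  set F : Subgroup G := PG.FF ![Z i, Z j] (Z i) with hF
  set T : Subgroup G := (S : Subgroup G) ⊓ H with hT
  set M : Subgroup G := F ⊔ R with hM
  have hFH : F ≤ H := inf_le_left
  have hMH : M ≤ H := sup_le hFH (hR.trans inf_le_right)
  have hFn : H ≤ normalizer (F : Set G) := PG.PP.HH_le_FF (Z i)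
  have hNn : H ≤ normalizer (N : Set G) := PG.PP.HH_le_NN (Z i)
  set R₀ : Subgroup G := T ⊓ M with hR₀
  have hSylT : Syl T H := h.syl i
  -- `R₀` is Sylow in `M`
  have hSyl : Syl R₀ M := by
    refine ⟨inf_le_right, hSylT.2.1.to_le inf_le_left, fun Q hQ h2 hle => ?_⟩
    obtain ⟨Q', hQ', hQQ'⟩ := exists_syl h2 (hQ.trans hMH)
    obtain ⟨x, hx, e⟩ := syl_conj hSylT hQ'
    have h1 : Q ≤ cj x R₀ := by
      rw [hR₀, cj_inf, e, cj_eq_of_mem_normalizer (hn hx)]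
      exact le_inf hQQ' hQ
    symm
    exact Subgroup.eq_of_le_of_card_ge hle ((Subgroup.card_le_of_le h1).trans (card_cj _ _).le)
  -- Frattini
  have hfr : ∀ x ∈ H, ∃ f ∈ F, ∃ n ∈ H, n ∈ normalizer (R₀ : Set G) ∧ x = f * n := by
    intro x hx
    have h1 : Syl (cj x R₀) M := by
      refine ⟨?_, isPGroup_cj x hSyl.2.1, fun Q hQ h2 hle => ?_⟩
      · have := cj_mono x hSyl.1
        rwa [cj_eq_of_mem_normalizer (hn hx)] at this
      · have h3 := cj_mono x⁻¹ hQ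
        rw [cj_eq_of_mem_normalizer (hn (inv_mem hx))] at h3
        have h4 := hSyl.2.2 (cj x⁻¹ Q) h3 (isPGroup_cj _ h2) (cj_le_iff.1 hle)
        rw [← h4, cj_cj_inv]
    obtain ⟨y, hy, e⟩ := syl_conj hSyl h1
    -- `y = f r`
    have hRF : R ≤ normalizer (F : Set G) := (hR.trans inf_le_right).trans hFn
    have hy' : y ∈ ((F ⊔ R : Subgroup G) : Set G) := hy
    rw [Subgroup.coe_mul_of_right_le_normalizer_left _ _ hRF, Set.mem_mul] at hy'
    obtain ⟨f, hf, r, hr, rfl⟩ := hy'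
    have hr0 : r ∈ R₀ := ⟨hR hr, mem_sup_right hr⟩
    refine ⟨f, hf, f⁻¹ * x, mul_mem (inv_mem (hFH hf)) hx, ?_, by group⟩
    rw [mem_normalizer_iff_cj, ← cj_cj, ← e, cj_cj, inv_mul_cancel_left,
      cj_eq_of_mem_normalizer (Subgroup.le_normalizer hr0)]
  -- `E = C_N(R₀)` is normalised by `H`
  set E : Subgroup G := N ⊓ centralizer (R₀ : Set G) with hE
  have hEn : H ≤ normalizer (E : Set G) := by
    intro x hx
    obtain ⟨f, hf, n, hnH, hnR, rfl⟩ := hfr x hx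
    refine mul_mem ?_ ?_
    · refine centralizer_le_normalizer _ (centralizer_le ?_ hf.2)
      exact_mod_cast (inf_le_left : E ≤ N)
    · rw [mem_normalizer_iff_cj, hE, cj_inf, cj_centralizer, cj_eq_of_mem_normalizer (hNn hnH),
        cj_eq_of_mem_normalizer hnR]
  have hZN : Z j ≤ N := by
    rw [hN, h.NN_eq p]
    have := le_iSup (fun k : normalizer (Z i : Set G) => cj (k : G) (Z j)) 1
    rwa [OneMemClass.coe_one, cj_one] at this
  -- `Z j ∩ E ≠ 1`
  have h1 : Z j ⊓ E ≠ ⊥ := by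
    have h2 := PLocal.OffenderStep.inf_centralizer_ne_bot (Z j) T (h.Z_two j) hSylT.2.1
      ((h.T_le p).trans inf_le_right) (h.Z_ne j)
    intro hbot
    apply h2
    rw [eq_bot_iff, ← hbot]
    refine le_inf inf_le_left (le_inf (inf_le_left.trans hZN) (inf_le_right.trans (centralizer_le ?_)))
    exact_mod_cast (inf_le_left : R₀ ≤ T)
  have h2 : Z j ≤ E := by
    refine le_trans ((h.toIn j).irr _ inf_le_left ?_ h1) inf_le_right
    intro x hx
    have hxH : x ∈ H := h.L_norm p.ne.symm hx.1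
    rw [mem_normalizer_iff_cj, cj_inf, cj_eq_of_mem_normalizer ((h.toIn j).NN hx),
      cj_eq_of_mem_normalizer (hEn hxH)]
  have h3 : N ≤ E := by
    rw [hN, h.NN_eq p]
    refine iSup_le fun k => ?_
    have := cj_mono (k : G) h2
    rwa [cj_eq_of_mem_normalizer (hEn k.2)] at this
  intro r hr
  refine ⟨(hR hr).2, ?_⟩
  have h4 : R₀ ≤ centralizer (N : Set G) := by
    rw [le_centralizer_iff]
    exact h3.trans inf_le_right
  exact h4 ⟨hR hr, mem_sup_right hr⟩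

end A

end Bs

end Cfsg.Agent.Omega.NO3S.EThree.Frame
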