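import Cfsg.Agent.Omega.TC.Int
import Cfsg.Agent.Omega.OM.PG.Peel

/-!
# A full root group on a line: the cores of FIX and of THEOREM I, all `q` (helper997 #20474 (1), (4))

`Rt A E Z₁ x` : the elementary abelian group `A` induces on `E` the full root group with centre `Z₁`, `x ≤ E`,
`x ∩ Z₁ = 1`, `|x| = |Z₁|`.

* `Rt.fix` : `n ∈ Q`, `[n, Q] ≤ x`, `A`, `A_0 = C_A(E)` offend on the elementary abelian groups `≥ E` in `F` : `[n, Q] = 1`;
* `Rt.int` : `A ≤ O` exact on `N ≥ E`, (NO) and the lifting for `O` on `N`: `[n, R] ≤ x Z₂` implies `[n, R] ≤ Z₂`.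
-/

set_option autoImplicit false
set_option linter.unusedSectionVars false

namespace Cfsg.Agent.Omega.NO3S.EThree

open Subgroup Cfsg Cfsg.Agent.ZN
open Cfsg.Agent.Omega.NoFF.Basic (comm_symm)
open Cfsg.Agent.Omega.NO3S.EThree.ExactA (eab_iff eab_mono)
open Cfsg.Agent.Omega.OM.PG.Int (Ex rix_ne)
open Cfsg.Agent.Omega.OM.PG.Peel (Nob Exa exa_peel)
open scoped Pointwise

universe u

variable {G : Type u} [Group G]

section count

variable [Finite G]

theorem relIndex_le_of {H A M : Subgroup G} (f : G → G) (h1 : ∀ a ∈ A, f a ∈ M)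
    (h2 : ∀ a ∈ A, ∀ a' ∈ A, f a = f a' → a⁻¹ * a' ∈ H) : H.relIndex A ≤ Nat.card M := by
  classical
  have key : Function.Injective (fun c : A ⧸ H.subgroupOf A => (⟨f (c.out : A), h1 _ (c.out).2⟩ : M)) := by
    intro c c' e
    have e' : f (c.out : A) = f (c'.out : A) := congrArg Subtype.val e
    have h3 := h2 _ (c.out).2 _ (c'.out).2 e'
    have h4 : (QuotientGroup.mk c.out : A ⧸ H.subgroupOf A) = QuotientGroup.mk c'.out :=
      QuotientGroup.eq.2 (mem_subgroupOf.2 (by simpa using h3))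
    rwa [QuotientGroup.out_eq', QuotientGroup.out_eq'] at h4
  exact Nat.card_le_card_of_injective _ key

theorem le_relIndex_of {H D M : Subgroup G} (f : G → G) (h1 : ∀ z ∈ M, ∃ y ∈ D, f y = z)
    (h2 : ∀ y ∈ D, ∀ y' ∈ D, y⁻¹ * y' ∈ H → f y = f y') : Nat.card M ≤ H.relIndex D := by
  classical
  choose! g hg hfg using h1
  have key : Function.Injective
      (fun z : M => (QuotientGroup.mk (⟨g z, hg z z.2⟩ : D) : D ⧸ H.subgroupOf D)) := by
    intro z z' e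
    have h3 := QuotientGroup.eq.1 e
    have h4 := h2 _ (hg z z.2) _ (hg z' z'.2) (by simpa [mem_subgroupOf] using h3)
    rw [hfg z z.2, hfg z' z'.2] at h4
    exact Subtype.ext h4
  exact Nat.card_le_card_of_injective _ key

end count

/-- `A` induces on `E` the full root group with centre `Z₁`; `x ≤ E` with `x ∩ Z₁ = 1`, `|x| = |Z₁|`. -/
structure Rt (A E Z₁ x : Subgroup G) : Prop where
  Ae : IsElementaryAbelian 2 A
  Ee : IsElementaryAbelian 2 E
  ZE : Z₁ ≤ E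
  xE : x ≤ E
  disj : ∀ e ∈ x, e ∈ Z₁ → e = 1
  com : ∀ a ∈ A, ∀ e ∈ E, a * e * a⁻¹ * e⁻¹ ∈ Z₁
  free : ∀ a ∈ A, ∀ e ∈ x, e ≠ 1 → a * e = e * a → a ∈ centralizer (E : Set G)
  full : ∀ e ∈ x, e ≠ 1 → ∀ z ∈ Z₁, ∃ a ∈ A, a * e * a⁻¹ * e⁻¹ = z
  nob : (centralizer (E : Set G)).relIndex A ≤ (centralizer (A : Set G)).relIndex E
  card : Nat.card x = Nat.card Z₁
  mv : ¬ A ≤ centralizer (E : Set G)

namespace Rt

variable {A E Z₁ x : Subgroup G} (h : Rt A E Z₁ x)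
include h

theorem cE {a b : G} (ha : a ∈ E) (hb : b ∈ E) : a * b = b * a :=
  mem_centralizer_iff.1 ((eab_iff.1 h.Ee).1 hb) a ha

theorem sE {a : G} (ha : a ∈ E) : a * a = 1 := by rw [← pow_two]; exact (eab_iff.1 h.Ee).2 a ha

theorem iE {a : G} (ha : a ∈ E) : a⁻¹ = a := inv_eq_of_mul_eq_one_right (h.sE ha)

theorem cA {a b : G} (ha : a ∈ A) (hb : b ∈ A) : a * b = b * a :=
  mem_centralizer_iff.1 ((eab_iff.1 h.Ae).1 hb) a ha

theorem conjE {a e : G} (ha : a ∈ A) (he : e ∈ E) : a * e * a⁻¹ ∈ E := by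
  have h1 := mul_mem (h.ZE (h.com a ha e he)) he
  rwa [inv_mul_cancel_right] at h1

/-- `x^a ∩ x = 1` for `a ∈ A - C(E)` -/
theorem sep {a e e' : G} (ha : a ∈ A) (he : e ∈ x) (he' : e' ∈ x) (hae : a * e' * a⁻¹ = e) :
    e = 1 ∨ a ∈ centralizer (E : Set G) := by
  have h1 := h.com a ha e' (h.xE he')
  rw [hae] at h1
  have h2 := h.disj _ (mul_mem he (inv_mem he')) h1
  have h3 : e = e' := mul_inv_eq_one.1 h2
  by_cases h4 : e' = 1
  · exact Or.inl (h3.trans h4)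
  · refine Or.inr (h.free a ha e' he' h4 ?_)
    rw [h3] at hae
    exact mul_inv_eq_iff_eq_mul.1 hae

variable [Finite G]

/-- **FIX, core.** -/
theorem fix {Q F : Subgroup G} {n : G} (hA0 : A ⊓ centralizer (E : Set G) ≤ Q) (hQE : Q ≤ centralizer (E : Set G))
    (hAQ : ∀ a ∈ A, ∀ b ∈ Q, a⁻¹ * b * a ∈ Q) (hFQ : F ≤ Q) (hEF : E ≤ F)
    (hnF : ∀ a ∈ A, a * n * a⁻¹ ∈ F) (hn2 : n * n = 1)
    (hx : ∀ b ∈ Q, n * b * n⁻¹ * b⁻¹ ∈ x)
    (off1 : ∀ X : Subgroup G, IsElementaryAbelian 2 X → E ≤ X → X ≤ F →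
      (centralizer (A : Set G)).relIndex X ≤ (centralizer (X : Set G)).relIndex A)
    (off2 : ∀ X : Subgroup G, IsElementaryAbelian 2 X → E ≤ X → X ≤ F →
      (centralizer ((A ⊓ centralizer (E : Set G) : Subgroup G) : Set G)).relIndex X ≤
        (centralizer (X : Set G)).relIndex (A ⊓ centralizer (E : Set G) : Subgroup G)) :
    ∀ b ∈ Q, n * b * n⁻¹ * b⁻¹ = 1 := by
  classical
  set A0 : Subgroup G := A ⊓ centralizer (E : Set G) with hA0d
  have hnF1 : n ∈ F := by have := hnF 1 (one_mem _); simpa using this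
  have hnQ : ∀ a ∈ A, a * n * a⁻¹ ∈ Q := fun a ha => hFQ (hnF a ha)
  have cQE : ∀ b ∈ Q, ∀ e ∈ E, b * e = e * b := fun b hb e he => (mem_centralizer_iff.1 (hQE hb) e he).symm
  have ni : n⁻¹ = n := inv_eq_of_mul_eq_one_right hn2
  -- `[n^a, b] ∈ x^a`
  have hxa : ∀ a ∈ A, ∀ b ∈ Q, ∃ e ∈ x, (a * n * a⁻¹) * b * (a * n * a⁻¹)⁻¹ * b⁻¹ = a * e * a⁻¹ := by
    intro a ha b hb
    refine ⟨_, hx _ (hAQ a ha b hb), by group⟩
  -- they commute
  have hcom : ∀ a ∈ A, ∀ b ∈ A, (a * n * a⁻¹) * (b * n * b⁻¹) = (b * n * b⁻¹) * (a * n * a⁻¹) := by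
    intro a ha b hb
    obtain ⟨e, he, h1⟩ := hxa a ha _ (hnQ b hb)
    obtain ⟨e', he', h2⟩ := hxa b hb _ (hnQ a ha)
    have h3 : a * e * a⁻¹ = (b * e' * b⁻¹)⁻¹ := by rw [← h1, ← h2]; group
    have hc : b⁻¹ * a ∈ A := mul_mem (inv_mem hb) ha
    have h4 : (b⁻¹ * a) * e * (b⁻¹ * a)⁻¹ = e' := by
      calc (b⁻¹ * a) * e * (b⁻¹ * a)⁻¹ = b⁻¹ * (a * e * a⁻¹) * b := by group
        _ = e'⁻¹ := by rw [h3]; group
        _ = e' := h.iE (h.xE he')
    rcases h.sep hc he' he h4 with h5 | h5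
    · rw [h5] at h2
      have h6 : (b * n * b⁻¹) * (a * n * a⁻¹) * (b * n * b⁻¹)⁻¹ * (a * n * a⁻¹)⁻¹ = 1 := by rw [h2]; group
      have h7 := mul_inv_eq_one.1 h6
      exact (mul_inv_eq_iff_eq_mul.1 h7).symm
    · have hc0 : b⁻¹ * a ∈ Q := hA0 ⟨hc, h5⟩
      have h6 := hx _ hc0
      set e₀ := n * (b⁻¹ * a) * n⁻¹ * (b⁻¹ * a)⁻¹ with he₀
      have h7 : (b⁻¹ * a) * n * (b⁻¹ * a)⁻¹ = e₀⁻¹ * n := by rw [he₀]; group
      have h8 : a * n * a⁻¹ = (b * e₀⁻¹ * b⁻¹) * (b * n * b⁻¹) := by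
        calc a * n * a⁻¹ = b * ((b⁻¹ * a) * n * (b⁻¹ * a)⁻¹) * b⁻¹ := by group
          _ = _ := by rw [h7]; group
      have h9 : b * e₀⁻¹ * b⁻¹ ∈ E := h.conjE hb (inv_mem (h.xE h6))
      have h10 := cQE _ (hnQ b hb) _ h9
      rw [h8]
      calc (b * e₀⁻¹ * b⁻¹) * (b * n * b⁻¹) * (b * n * b⁻¹) = ((b * e₀⁻¹ * b⁻¹) * (b * n * b⁻¹)) * (b * n * b⁻¹) := rfl
        _ = ((b * n * b⁻¹) * (b * e₀⁻¹ * b⁻¹)) * (b * n * b⁻¹) := by rw [h10]
        _ = _ := by group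
  -- the group `X`
  set gens : Set G := (E : Set G) ∪ {y | ∃ a ∈ A, y = a * n * a⁻¹} with hgens
  set X : Subgroup G := closure gens with hX
  have hgc : ∀ y ∈ gens, ∀ y' ∈ gens, y * y' = y' * y := by
    rintro y (hy | ⟨a, ha, rfl⟩) y' (hy' | ⟨a', ha', rfl⟩)
    · exact h.cE hy hy'
    · exact (cQE _ (hnQ a' ha') _ hy).symm
    · exact cQE _ (hnQ a ha) _ hy'
    · exact hcom a ha a' ha'
  have hXg : X ≤ centralizer gens := by
    rw [hX, closure_le]
    intro y hy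
    exact mem_centralizer_iff.2 fun y' hy' => hgc y' hy' y hy
  have hXc : X ≤ centralizer (X : Set G) := by
    rw [le_centralizer_iff, hX, closure_le]
    intro y hy
    exact mem_centralizer_iff.2 fun y' hy' => (mem_centralizer_iff.1 (hXg hy') y hy).symm
  have hXs : ∀ y ∈ X, y ^ 2 = 1 := by
    intro y hy
    rw [hX] at hy
    induction hy using closure_induction with
    | mem y hy =>
      rcases hy with hy | ⟨a, ha, rfl⟩
      · rw [pow_two]; exact h.sE hy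
      · rw [pow_two]
        calc a * n * a⁻¹ * (a * n * a⁻¹) = a * (n * n) * a⁻¹ := by group
          _ = 1 := by rw [hn2]; group
    | one => exact one_pow _
    | mul y y' hy hy' h1 h2 =>
      have h3 : y * y' = y' * y := (mem_centralizer_iff.1 (hXc (hX ▸ hy)) y' (hX ▸ hy')).symm
      rw [(show Commute y y' from h3).mul_pow, h1, h2, one_mul]
    | inv y _ h1 => rw [inv_pow, h1, inv_one]
  have hXe : IsElementaryAbelian 2 X := eab_iff.2 ⟨hXc, hXs⟩
  have hEX : E ≤ X := fun e he => subset_closure (Or.inl he)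
  have hnX : ∀ a ∈ A, a * n * a⁻¹ ∈ X := fun a ha => subset_closure (Or.inr ⟨a, ha, rfl⟩)
  have hnX1 : n ∈ X := by have := hnX 1 (one_mem _); simpa using this
  have hXF : X ≤ F := by
    rw [hX, closure_le]
    rintro y (hy | ⟨a, ha, rfl⟩)
    · exact hEF hy
    · exact hnF a ha
  -- an element of `A0` which centralises `n` centralises `X`
  have hcX : ∀ b ∈ A0, b * n = n * b → b ∈ centralizer (X : Set G) := by
    intro b hb hbn
    have h1 : X ≤ centralizer ({b} : Set G) := by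
      rw [hX, closure_le]
      rintro y (hy | ⟨a, ha, rfl⟩)
      · rw [SetLike.mem_coe, mem_centralizer_singleton_iff]
        exact mem_centralizer_iff.1 hb.2 y hy
      · rw [SetLike.mem_coe, mem_centralizer_singleton_iff]
        have h2 := h.cA ha hb.1
        have h3 : a⁻¹ * b = b * a⁻¹ := by
          calc a⁻¹ * b = a⁻¹ * (b * a) * a⁻¹ := by group
            _ = a⁻¹ * (a * b) * a⁻¹ := by rw [h2]
            _ = b * a⁻¹ := by group
        calc a * n * a⁻¹ * b = a * n * (a⁻¹ * b) := by group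
          _ = a * (n * b) * a⁻¹ := by rw [h3]; group
          _ = (a * b) * n * a⁻¹ := by rw [← hbn]; group
          _ = b * (a * n * a⁻¹) := by rw [h2]; group
    exact mem_centralizer_iff.2 fun y hy => mem_centralizer_singleton_iff.1 (h1 hy)
  by_cases hω : ∀ b ∈ A0, n * b * n⁻¹ * b⁻¹ = 1
  · -- `ω = 0`
    have h1 : A0 ≤ centralizer (X : Set G) := by
      intro b hb
      refine hcX b hb ?_
      have h2 := mul_inv_eq_one.1 (hω b hb)
      exact (mul_inv_eq_iff_eq_mul.1 h2).symm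
    have h2 : (centralizer (X : Set G)).relIndex A ≤ (centralizer (E : Set G)).relIndex A := by
      rw [← inf_relIndex_left A (centralizer (E : Set G))]
      exact relIndex_le_of_le_left h1 index_ne_zero_of_finite
    have h3 := (off1 X hXe hEX hXF).trans (h2.trans h.nob)
    obtain ⟨u, hu, k, -, hk, e⟩ := TC.le_sup_of_relIndex hEX h3 hXc hnX1
    obtain ⟨a, ha, haE⟩ := SetLike.not_le_iff_exists.1 h.mv
    have hak : a * k = k * a := mem_centralizer_iff.1 hk a ha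
    set z := a * u * a⁻¹ * u⁻¹ with hz
    have hzE : z ∈ E := h.ZE (h.com a ha u hu)
    have h4 : a * n * a⁻¹ = z * n := by
      calc a * n * a⁻¹ = a * u * (k * a⁻¹) := by rw [e]; group
        _ = a * u * (a⁻¹ * k) := by
          have : k * a⁻¹ = a⁻¹ * k := by
            calc k * a⁻¹ = a⁻¹ * (a * k) * a⁻¹ := by group
              _ = a⁻¹ * (k * a) * a⁻¹ := by rw [hak]
              _ = a⁻¹ * k := by group
          rw [this]
        _ = z * (u * k) := by rw [hz]; group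
        _ = z * n := by rw [← e]
    intro b hb
    obtain ⟨e', he', h5⟩ := hxa a ha b hb
    have h6 : (a * n * a⁻¹) * b * (a * n * a⁻¹)⁻¹ * b⁻¹ = n * b * n⁻¹ * b⁻¹ := by
      rw [h4]
      have hzn : z * (n * b * n⁻¹ * b⁻¹) = (n * b * n⁻¹ * b⁻¹) * z := h.cE hzE (h.xE (hx b hb))
      have hzb := cQE b hb z hzE
      have hbz : b * z⁻¹ = z⁻¹ * b := by
        calc b * z⁻¹ = z⁻¹ * (z * b) * z⁻¹ := by group
          _ = z⁻¹ * (b * z) * z⁻¹ := by rw [hzb]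
          _ = z⁻¹ * b := by group
      calc z * n * b * (z * n)⁻¹ * b⁻¹ = z * (n * b * n⁻¹ * b⁻¹) * (b * z⁻¹) * b⁻¹ := by group
        _ = (n * b * n⁻¹ * b⁻¹) * z * (z⁻¹ * b) * b⁻¹ := by rw [hzn, hbz]
        _ = n * b * n⁻¹ * b⁻¹ := by group
    rw [h6] at h5
    exact (h.sep ha (hx b hb) he' h5.symm).resolve_right haE
  · -- `ω ≠ 0`
    exfalso
    push Not at hω
    obtain ⟨b₀, hb₀, hne⟩ := hω
    have hsub : ∀ b ∈ A0, b ∈ Q := fun b hb => hA0 hb
    -- the commutators of `n^a n⁻¹`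
    have key : ∀ a ∈ A, ∀ b ∈ A0, (a * n * a⁻¹ * n) * b * (a * n * a⁻¹ * n)⁻¹ * b⁻¹ =
        a * (n * b * n⁻¹ * b⁻¹) * a⁻¹ * (n * b * n⁻¹ * b⁻¹)⁻¹ := by
      intro a ha b hb
      have hab := h.cA ha hb.1
      set e := n * b * n⁻¹ * b⁻¹ with he
      have heE : e ∈ E := h.xE (hx b (hsub b hb))
      have h1 : n * b * n⁻¹ = e * b := by rw [he]; group
      have h2 : (a * n * a⁻¹) * e = e * (a * n * a⁻¹) := cQE _ (hnQ a ha) e heE
      have h3 : (a * n * a⁻¹) * b * (a * n * a⁻¹)⁻¹ = a * e * a⁻¹ * b := by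
        have h4 : a⁻¹ * b * a = b := by
          calc a⁻¹ * b * a = a⁻¹ * (b * a) := by group
            _ = a⁻¹ * (a * b) := by rw [hab]
            _ = b := by group
        calc (a * n * a⁻¹) * b * (a * n * a⁻¹)⁻¹ = a * (n * (a⁻¹ * b * a) * n⁻¹) * a⁻¹ := by group
          _ = a * (e * b) * a⁻¹ := by rw [h4, h1]
          _ = a * e * (b * a⁻¹) := by group
          _ = a * e * (a⁻¹ * b) := by
            have : b * a⁻¹ = a⁻¹ * b := by
              calc b * a⁻¹ = a⁻¹ * (a * b) * a⁻¹ := by group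
                _ = a⁻¹ * (b * a) * a⁻¹ := by rw [hab]
                _ = a⁻¹ * b := by group
            rw [this]
          _ = a * e * a⁻¹ * b := by group
      have h5 : (a * e * a⁻¹) * e = e * (a * e * a⁻¹) := h.cE (h.conjE ha heE) heE
      calc (a * n * a⁻¹ * n) * b * (a * n * a⁻¹ * n)⁻¹ * b⁻¹
          = (a * n * a⁻¹) * (n * b * n⁻¹) * (a * n * a⁻¹)⁻¹ * b⁻¹ := by group
        _ = ((a * n * a⁻¹) * e) * b * (a * n * a⁻¹)⁻¹ * b⁻¹ := by rw [h1]; group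
        _ = e * ((a * n * a⁻¹) * b * (a * n * a⁻¹)⁻¹) * b⁻¹ := by rw [h2]; group
        _ = e * (a * e * a⁻¹) := by rw [h3]; group
        _ = (a * e * a⁻¹) * e := h5.symm
        _ = a * e * a⁻¹ * e⁻¹ := by rw [h.iE heE]
    set e₀ := n * b₀ * n⁻¹ * b₀⁻¹ with he₀
    have he₀x : e₀ ∈ x := hx b₀ (hsub b₀ hb₀)
    let X1 : Subgroup G :=
      { carrier := {y | y ∈ X ∧ ∀ b ∈ A0, y * b * y⁻¹ * b⁻¹ ∈ Z₁}
        one_mem' := ⟨one_mem _, fun b _ => by simp⟩
        mul_mem' := by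
          rintro y y' ⟨h1, h2⟩ ⟨h3, h4⟩
          refine ⟨mul_mem h1 h3, fun b hb => ?_⟩
          have e : y * y' * b * (y * y')⁻¹ * b⁻¹ = y * (y' * b * y'⁻¹ * b⁻¹) * y⁻¹ * (y * b * y⁻¹ * b⁻¹) := by group
          have h5 : y * (y' * b * y'⁻¹ * b⁻¹) * y⁻¹ = y' * b * y'⁻¹ * b⁻¹ := by
            have h6 := mem_centralizer_iff.1 (hXc h1) _ (hEX (h.ZE (h4 b hb)))
            rw [← h6, mul_inv_cancel_right]
          rw [e, h5]
          exact mul_mem (h4 b hb) (h2 b hb)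
        inv_mem' := by
          rintro y ⟨h1, h2⟩
          refine ⟨inv_mem h1, fun b hb => ?_⟩
          have e : y⁻¹ * b * y⁻¹⁻¹ * b⁻¹ = y⁻¹ * (y * b * y⁻¹ * b⁻¹)⁻¹ * y := by group
          have h6 := mem_centralizer_iff.1 (hXc h1) _ (hEX (h.ZE (inv_mem (h2 b hb))))
          rw [e, mul_assoc, h6, inv_mul_cancel_left]
          exact inv_mem (h2 b hb) }
    have hX1 : X1 ≤ X := fun y hy => hy.1
    set C : Subgroup G := X ⊓ centralizer (A0 : Set G) with hC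
    have hCX1 : C ≤ X1 := by
      rintro y ⟨h1, h2⟩
      refine ⟨h1, fun b hb => ?_⟩
      have e : y * b * y⁻¹ * b⁻¹ = 1 := by rw [← mem_centralizer_iff.1 h2 b hb]; group
      rw [e]; exact one_mem _
    have h1 := relIndex_mul_relIndex C X1 X hCX1 hX1
    have h2 : C.relIndex X = (centralizer (A0 : Set G)).relIndex X := inf_relIndex_left _ _
    have h3 : 2 ≤ X1.relIndex X := by
      have h4 := rix_ne X1 X
      have h5 : X1.relIndex X ≠ 1 := by
        intro h5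
        have h6 : n ∈ X1 := relIndex_eq_one.1 h5 hnX1
        exact hne (h.disj _ he₀x (h6.2 b₀ hb₀))
      omega
    have h4 : Nat.card Z₁ ≤ C.relIndex X1 := by
      refine le_relIndex_of (fun y => y * b₀ * y⁻¹ * b₀⁻¹) ?_ ?_
      · intro z hz
        obtain ⟨a, ha, e⟩ := h.full e₀ he₀x hne z hz
        refine ⟨a * n * a⁻¹ * n, ⟨mul_mem (hnX a ha) hnX1, fun b hb => ?_⟩, ?_⟩
        · rw [key a ha b hb]
          exact h.com a ha _ (h.xE (hx b (hsub b hb)))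
        · rw [key a ha b₀ hb₀]
          exact e
      · intro y _ y' _ hyy
        have h5 := mem_centralizer_iff.1 hyy.2 b₀ hb₀
        have e : y' = y * (y⁻¹ * y') := by group
        change y * b₀ * y⁻¹ * b₀⁻¹ = y' * b₀ * y'⁻¹ * b₀⁻¹
        rw [e]
        have h6 : (y⁻¹ * y') * b₀ * (y⁻¹ * y')⁻¹ = b₀ := by rw [← h5]; group
        calc y * b₀ * y⁻¹ * b₀⁻¹ = y * ((y⁻¹ * y') * b₀ * (y⁻¹ * y')⁻¹) * y⁻¹ * b₀⁻¹ := by rw [h6]
          _ = _ := by group
    have h5 := off2 X hXe hEX hXF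
    have h6 : (centralizer (X : Set G)).relIndex A0 ≤ Nat.card x := by
      refine relIndex_le_of (fun b => n * b * n⁻¹ * b⁻¹) (fun b hb => hx b (hsub b hb)) ?_
      intro b hb b' hb' hbb
      refine hcX _ (mul_mem (inv_mem hb) hb') ?_
      have h7 : b * n⁻¹ * b⁻¹ = b' * n⁻¹ * b'⁻¹ := by
        have h8 : n * (b * n⁻¹ * b⁻¹) = n * (b' * n⁻¹ * b'⁻¹) := by
          calc n * (b * n⁻¹ * b⁻¹) = n * b * n⁻¹ * b⁻¹ := by group
            _ = n * b' * n⁻¹ * b'⁻¹ := hbb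
            _ = _ := by group
        exact mul_left_cancel h8
      rw [ni] at h7
      calc b⁻¹ * b' * n = b⁻¹ * (b' * n * b'⁻¹) * b' := by group
        _ = b⁻¹ * (b * n * b⁻¹) * b' := by rw [h7]
        _ = n * (b⁻¹ * b') := by group
    rw [h.card] at h6
    have h7 : 0 < Nat.card Z₁ := Nat.card_pos
    have h8 : Nat.card Z₁ * 2 ≤ Nat.card Z₁ := by
      calc Nat.card Z₁ * 2 ≤ C.relIndex X1 * X1.relIndex X := Nat.mul_le_mul h4 h3
        _ = (centralizer (A0 : Set G)).relIndex X := by rw [h1, h2]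
        _ ≤ _ := h5.trans h6
    omega

/-- **THEOREM I, core.** -/
theorem int {N O Z₂ R : Subgroup G} {n : G} (hN : IsElementaryAbelian 2 N) (hEN : E ≤ N)
    (hNO : ∀ B : Subgroup G, IsElementaryAbelian 2 B → B ≤ O →
      (centralizer (N : Set G)).relIndex B ≤ (centralizer (B : Set G)).relIndex N)
    (hLift : ∀ B : Subgroup G, IsElementaryAbelian 2 B → B ≤ O → Ex B N → ∀ n ∈ N,
      (∀ b ∈ B, n * b * n⁻¹ * b⁻¹ ∈ Z₂) → n ∈ centralizer (B : Set G))
    (hAO : A ≤ O) (hAe : Ex A N) (hAN : ∀ a ∈ A, ∀ m ∈ N, a * m * a⁻¹ ∈ N)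
    (hAZ : ∀ a ∈ A, ∀ z ∈ Z₂, a * z = z * a) (hEZ : ∀ e ∈ E, e ∈ Z₂ → e = 1) (hZN : Z₂ ≤ N)
    (hA0 : A ⊓ centralizer (E : Set G) ≤ R) (hRE : R ≤ centralizer (E : Set G))
    (hAR : ∀ a ∈ A, ∀ b ∈ R, a⁻¹ * b * a ∈ R)
    (hn : n ∈ N) (hx : ∀ b ∈ R, ∃ e ∈ x, ∃ z ∈ Z₂, n * b * n⁻¹ * b⁻¹ = e * z) :
    ∀ b ∈ R, n * b * n⁻¹ * b⁻¹ ∈ Z₂ := by
  classical
  obtain ⟨hNc, hNs⟩ := eab_iff.1 hN
  have cN : ∀ p ∈ N, ∀ q ∈ N, p * q = q * p := fun p hp q hq => (mem_centralizer_iff.1 (hNc hq) p hp)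
  have sN : ∀ p ∈ N, p * p = 1 := fun p hp => by rw [← pow_two]; exact hNs p hp
  have iN : ∀ p ∈ N, p⁻¹ = p := fun p hp => inv_eq_of_mul_eq_one_right (sN p hp)
  set A0 : Subgroup G := A ⊓ centralizer (E : Set G) with hA0d
  have hA0A : A0 ≤ A := inf_le_left
  have hA0e : IsElementaryAbelian 2 A0 := eab_mono h.Ae hA0A
  have cRE : ∀ b ∈ R, ∀ e ∈ E, b * e = e * b := fun b hb e he => (mem_centralizer_iff.1 (hRE hb) e he).symm
  obtain ⟨hEx0, hle⟩ := exa_peel (N := N) (V := E) (B := A) hEN hAe h.nob (hNO A0 hA0e (hA0A.trans hAO))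
  by_cases hp : ∀ b ∈ A0, n * b * n⁻¹ * b⁻¹ ∈ Z₂
  · -- `p = 0`
    have h1 := hLift A0 hA0e (hA0A.trans hAO) hEx0 n hn hp
    have h2 : n ∈ E ⊔ (N ⊓ centralizer (A : Set G)) := hle ⟨hn, h1⟩
    obtain ⟨u, hu, k, hk, e⟩ := OM.KTwo.exists_mul_of_mem_sup
      (((inf_le_left : N ⊓ centralizer (A : Set G) ≤ N).trans (hNc.trans (centralizer_le hEN))).trans
        (centralizer_le_normalizer _)) h2
    obtain ⟨a, ha, haE⟩ := SetLike.not_le_iff_exists.1 h.mv
    have hak : a * k = k * a := mem_centralizer_iff.1 hk.2 a ha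
    set z := a * u * a⁻¹ * u⁻¹ with hz
    have hzE : z ∈ E := h.ZE (h.com a ha u hu)
    have h4 : a * n * a⁻¹ = z * n := by
      calc a * n * a⁻¹ = a * u * (k * a⁻¹) := by rw [e]; group
        _ = a * u * (a⁻¹ * k) := by
          have : k * a⁻¹ = a⁻¹ * k := by
            calc k * a⁻¹ = a⁻¹ * (a * k) * a⁻¹ := by group
              _ = a⁻¹ * (k * a) * a⁻¹ := by rw [hak]
              _ = a⁻¹ * k := by group
          rw [this]
        _ = z * (u * k) := by rw [hz]; group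
        _ = z * n := by rw [← e]
    intro b hb
    obtain ⟨e₁, he₁, z₁, hz₁, h5⟩ := hx b hb
    obtain ⟨e₂, he₂, z₂, hz₂, h6⟩ := hx _ (hAR a ha b hb)
    have h7 : (a * n * a⁻¹) * b * (a * n * a⁻¹)⁻¹ * b⁻¹ = a * e₂ * a⁻¹ * z₂ := by
      calc (a * n * a⁻¹) * b * (a * n * a⁻¹)⁻¹ * b⁻¹ = a * (n * (a⁻¹ * b * a) * n⁻¹ * (a⁻¹ * b * a)⁻¹) * a⁻¹ := by
            group
        _ = a * e₂ * (z₂ * a⁻¹) := by rw [h6]; group
        _ = a * e₂ * (a⁻¹ * z₂) := by
          have h8 := hAZ a⁻¹ (inv_mem ha) z₂ hz₂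
          rw [h8]
        _ = _ := by group
    have h8 : (a * n * a⁻¹) * b * (a * n * a⁻¹)⁻¹ * b⁻¹ = n * b * n⁻¹ * b⁻¹ := by
      rw [h4]
      have hcN : n * b * n⁻¹ * b⁻¹ ∈ N := by
        rw [h5]
        exact mul_mem (hEN (h.xE he₁)) (hZN hz₁)
      have hzn : z * (n * b * n⁻¹ * b⁻¹) = (n * b * n⁻¹ * b⁻¹) * z := cN _ (hEN hzE) _ hcN
      have hzb := cRE b hb z hzE
      have hbz : b * z⁻¹ = z⁻¹ * b := by
        calc b * z⁻¹ = z⁻¹ * (z * b) * z⁻¹ := by group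
          _ = z⁻¹ * (b * z) * z⁻¹ := by rw [hzb]
          _ = z⁻¹ * b := by group
      calc z * n * b * (z * n)⁻¹ * b⁻¹ = z * (n * b * n⁻¹ * b⁻¹) * (b * z⁻¹) * b⁻¹ := by group
        _ = (n * b * n⁻¹ * b⁻¹) * z * (z⁻¹ * b) * b⁻¹ := by rw [hzn, hbz]
        _ = n * b * n⁻¹ * b⁻¹ := by group
    rw [h8, h5] at h7
    have h9 : (a * e₂ * a⁻¹)⁻¹ * e₁ = z₂ * z₁⁻¹ := by
      calc (a * e₂ * a⁻¹)⁻¹ * e₁ = (a * e₂ * a⁻¹)⁻¹ * (e₁ * z₁) * z₁⁻¹ := by group
        _ = z₂ * z₁⁻¹ := by rw [h7]; group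
    have h10 : (a * e₂ * a⁻¹)⁻¹ * e₁ = 1 := by
      refine hEZ _ (mul_mem (inv_mem (h.conjE ha (h.xE he₂))) (h.xE he₁)) ?_
      rw [h9]
      exact mul_mem hz₂ (inv_mem hz₁)
    have h11 : a * e₂ * a⁻¹ = e₁ := inv_mul_eq_one.1 h10
    have h12 := (h.sep ha he₁ he₂ h11).resolve_right haE
    rw [h5, h12, one_mul]
    exact hz₁
  · -- `p ≠ 0`
    exfalso
    push Not at hp
    obtain ⟨b₀, hb₀, hne⟩ := hp
    obtain ⟨e₀, he₀, z₀, hz₀, h0⟩ := hx b₀ (hA0 hb₀)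
    have he₀1 : e₀ ≠ 1 := by
      intro h1
      apply hne
      rw [h0, h1, one_mul]
      exact hz₀
    -- the commutators of `n^a n`
    have key : ∀ a ∈ A, ∀ b ∈ A0, ∀ e ∈ x, ∀ z ∈ Z₂, n * b * n⁻¹ * b⁻¹ = e * z →
        (a * n * a⁻¹ * n) * b * (a * n * a⁻¹ * n)⁻¹ * b⁻¹ = a * e * a⁻¹ * e⁻¹ := by
      intro a ha b hb e he z hz h1
      have hab := h.cA ha hb.1
      have heE : e ∈ E := h.xE he
      have h1' : n * b * n⁻¹ = e * z * b := by rw [← h1]; group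
      have hbE : ∀ y ∈ E, b * y = y * b := fun y hy => (mem_centralizer_iff.1 hb.2 y hy).symm
      have hba : b * a⁻¹ = a⁻¹ * b := by
        calc b * a⁻¹ = a⁻¹ * (a * b) * a⁻¹ := by group
          _ = a⁻¹ * (b * a) * a⁻¹ := by rw [hab]
          _ = a⁻¹ * b := by group
      have h3 : (a * n * a⁻¹) * b * (a * n * a⁻¹)⁻¹ = a * e * a⁻¹ * z * b := by
        have h4 : a⁻¹ * b * a = b := by
          calc a⁻¹ * b * a = a⁻¹ * (b * a) := by group
            _ = a⁻¹ * (a * b) := by rw [hab]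
            _ = b := by group
        have h5 := hAZ a⁻¹ (inv_mem ha) z hz
        calc (a * n * a⁻¹) * b * (a * n * a⁻¹)⁻¹ = a * (n * (a⁻¹ * b * a) * n⁻¹) * a⁻¹ := by group
          _ = a * (e * z * b) * a⁻¹ := by rw [h4, h1']
          _ = a * e * z * (b * a⁻¹) := by group
          _ = a * e * (z * a⁻¹) * b := by rw [hba]; group
          _ = a * e * a⁻¹ * z * b := by rw [← h5]; group
      have hnaN : a * n * a⁻¹ ∈ N := hAN a ha n hn
      have hezN : e * z ∈ N := mul_mem (hEN heE) (hZN hz)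
      have h2 : (a * n * a⁻¹) * (e * z) = (e * z) * (a * n * a⁻¹) := cN _ hnaN _ hezN
      have haeN : a * e * a⁻¹ ∈ N := hEN (h.conjE ha heE)
      have h5 : (e * z) * (a * e * a⁻¹) = (a * e * a⁻¹) * (e * z) := cN _ hezN _ haeN
      have h6 : e * z * z = e := by rw [mul_assoc, sN z (hZN hz), mul_one]
      calc (a * n * a⁻¹ * n) * b * (a * n * a⁻¹ * n)⁻¹ * b⁻¹
          = (a * n * a⁻¹) * (n * b * n⁻¹) * (a * n * a⁻¹)⁻¹ * b⁻¹ := by group
        _ = ((a * n * a⁻¹) * (e * z)) * b * (a * n * a⁻¹)⁻¹ * b⁻¹ := by rw [h1']; group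
        _ = (e * z) * ((a * n * a⁻¹) * b * (a * n * a⁻¹)⁻¹) * b⁻¹ := by rw [h2]; group
        _ = ((e * z) * (a * e * a⁻¹)) * z := by rw [h3]; group
        _ = a * e * a⁻¹ * (e * z * z) := by rw [h5]; group
        _ = a * e * a⁻¹ * e⁻¹ := by rw [h6, h.iE heE]
    -- `B_p`
    let Bp : Subgroup G :=
      { carrier := {b | b ∈ A0 ∧ n * b * n⁻¹ * b⁻¹ ∈ Z₂}
        one_mem' := ⟨one_mem _, by simp⟩
        mul_mem' := by
          rintro b b' ⟨h1, h2⟩ ⟨h3, h4⟩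
          refine ⟨mul_mem h1 h3, ?_⟩
          have h5 : b * (n * b' * n⁻¹ * b'⁻¹) * b⁻¹ = n * b' * n⁻¹ * b'⁻¹ := by
            rw [hAZ b h1.1 _ h4, mul_inv_cancel_right]
          have e : n * (b * b') * n⁻¹ * (b * b')⁻¹ =
              (n * b * n⁻¹ * b⁻¹) * (b * (n * b' * n⁻¹ * b'⁻¹) * b⁻¹) := by group
          rw [e, h5]
          exact mul_mem h2 h4
        inv_mem' := by
          rintro b ⟨h1, h2⟩
          refine ⟨inv_mem h1, ?_⟩
          have e : n * b⁻¹ * n⁻¹ * b⁻¹⁻¹ = b⁻¹ * (n * b * n⁻¹ * b⁻¹)⁻¹ * b := by group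
          have h5 := hAZ b h1.1 _ (inv_mem h2)
          rw [e, mul_assoc, ← h5, inv_mul_cancel_left]
          exact inv_mem h2 }
    have hBpA0 : Bp ≤ A0 := fun b hb => hb.1
    have hBpe : IsElementaryAbelian 2 Bp := eab_mono hA0e hBpA0
    have hBpO : Bp ≤ O := (hBpA0.trans hA0A).trans hAO
    let D' : Subgroup G :=
      { carrier := {y | (y ∈ N ∧ y ∈ centralizer (Bp : Set G)) ∧ ∀ b ∈ A0, y * b * y⁻¹ * b⁻¹ ∈ Z₁}
        one_mem' := ⟨⟨one_mem _, one_mem _⟩, fun b _ => by simp⟩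
        mul_mem' := by
          rintro y y' ⟨⟨h1, h1'⟩, h2⟩ ⟨⟨h3, h3'⟩, h4⟩
          refine ⟨⟨mul_mem h1 h3, mul_mem h1' h3'⟩, fun b hb => ?_⟩
          have e : y * y' * b * (y * y')⁻¹ * b⁻¹ = y * (y' * b * y'⁻¹ * b⁻¹) * y⁻¹ * (y * b * y⁻¹ * b⁻¹) := by group
          have h5 : y * (y' * b * y'⁻¹ * b⁻¹) * y⁻¹ = y' * b * y'⁻¹ * b⁻¹ := by
            rw [cN _ h1 _ (hEN (h.ZE (h4 b hb))), mul_inv_cancel_right]
          rw [e, h5]
          exact mul_mem (h4 b hb) (h2 b hb)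
        inv_mem' := by
          rintro y ⟨⟨h1, h1'⟩, h2⟩
          refine ⟨⟨inv_mem h1, inv_mem h1'⟩, fun b hb => ?_⟩
          have e : y⁻¹ * b * y⁻¹⁻¹ * b⁻¹ = y⁻¹ * (y * b * y⁻¹ * b⁻¹)⁻¹ * y := by group
          have h6 := cN _ (hEN (h.ZE (inv_mem (h2 b hb)))) _ h1
          rw [e, mul_assoc, h6, inv_mul_cancel_left]
          exact inv_mem (h2 b hb) }
    set CB : Subgroup G := N ⊓ centralizer (Bp : Set G) with hCB
    set CA : Subgroup G := N ⊓ centralizer (A0 : Set G) with hCA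
    have hD'CB : D' ≤ CB := fun y hy => hy.1
    have hCACB : CA ≤ CB := inf_le_inf_left _ (centralizer_le hBpA0)
    have hCAD' : CA ≤ D' := by
      intro y hy
      refine ⟨hCACB hy, fun b hb => ?_⟩
      have e : y * b * y⁻¹ * b⁻¹ = 1 := by rw [← mem_centralizer_iff.1 hy.2 b hb]; group
      rw [e]; exact one_mem _
    have h1 : Nat.card Z₁ ≤ CA.relIndex D' := by
      refine le_relIndex_of (fun y => y * b₀ * y⁻¹ * b₀⁻¹) ?_ ?_
      · intro z hz
        obtain ⟨a, ha, e⟩ := h.full e₀ he₀ he₀1 z hz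
        refine ⟨a * n * a⁻¹ * n, ⟨⟨mul_mem (hAN a ha n hn) hn, ?_⟩, fun b hb => ?_⟩, ?_⟩
        · refine mem_centralizer_iff.2 fun b hb => ?_
          have h2 := key a ha b hb.1 1 (one_mem _) _ hb.2 (by rw [one_mul])
          simp only [mul_one, mul_inv_cancel, inv_one] at h2
          have h3 := mul_inv_eq_one.1 h2
          exact (mul_inv_eq_iff_eq_mul.1 h3).symm
        · obtain ⟨e₁, he₁, z₁, hz₁, h5⟩ := hx b (hA0 hb)
          rw [key a ha b hb e₁ he₁ z₁ hz₁ h5]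
          exact h.com a ha _ (h.xE he₁)
        · rw [key a ha b₀ hb₀ e₀ he₀ z₀ hz₀ h0]
          exact e
      · intro y _ y' _ hyy
        have h5 := mem_centralizer_iff.1 hyy.2 b₀ hb₀
        have e : y' = y * (y⁻¹ * y') := by group
        change y * b₀ * y⁻¹ * b₀⁻¹ = y' * b₀ * y'⁻¹ * b₀⁻¹
        rw [e]
        have h6 : (y⁻¹ * y') * b₀ * (y⁻¹ * y')⁻¹ = b₀ := by rw [← h5]; group
        calc y * b₀ * y⁻¹ * b₀⁻¹ = y * ((y⁻¹ * y') * b₀ * (y⁻¹ * y')⁻¹) * y⁻¹ * b₀⁻¹ := by rw [h6]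
          _ = _ := by group
    have h2 : Bp.relIndex A0 ≤ Nat.card x := by
      choose! f hf g hg hfg using hx
      refine relIndex_le_of f (fun b hb => hf b (hA0 hb)) ?_
      intro b hb b' hb' hbb
      refine ⟨mul_mem (inv_mem hb) hb', ?_⟩
      have h3 := hfg b (hA0 hb)
      have h4 := hfg b' (hA0 hb')
      have h5 : n * (b⁻¹ * b') * n⁻¹ * (b⁻¹ * b')⁻¹ =
          b⁻¹ * ((n * b * n⁻¹ * b⁻¹)⁻¹ * (n * b' * n⁻¹ * b'⁻¹)) * b := by
        group
      have h6 : (n * b * n⁻¹ * b⁻¹)⁻¹ * (n * b' * n⁻¹ * b'⁻¹) = (g b)⁻¹ * g b' := by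
        rw [h3, h4, hbb]; group
      rw [h5, h6]
      have h7 : (g b)⁻¹ * g b' ∈ Z₂ := mul_mem (inv_mem (hg b (hA0 hb))) (hg b' (hA0 hb'))
      rw [mul_assoc, ← hAZ b hb.1 _ h7, inv_mul_cancel_left]
      exact h7
    rw [h.card] at h2
    -- the indices
    have f0 : (centralizer (N : Set G)).relIndex A0 = (centralizer (A0 : Set G)).relIndex N := hEx0
    have hcNB : A0 ⊓ centralizer (N : Set G) ≤ Bp := by
      rintro b ⟨hb1, hb2⟩
      refine ⟨hb1, ?_⟩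
      have e : n * b * n⁻¹ * b⁻¹ = 1 := by rw [mem_centralizer_iff.1 hb2 n hn]; group
      rw [e]; exact one_mem _
    have f1 : (centralizer (N : Set G)).relIndex Bp * Bp.relIndex A0 = (centralizer (N : Set G)).relIndex A0 := by
      have g1 := relIndex_mul_relIndex _ _ _ hcNB hBpA0
      have g2 : (A0 ⊓ centralizer (N : Set G)).relIndex A0 = (centralizer (N : Set G)).relIndex A0 :=
        inf_relIndex_left _ _
      have g3 : (A0 ⊓ centralizer (N : Set G)).relIndex Bp = (centralizer (N : Set G)).relIndex Bp := by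
        have g4 : A0 ⊓ centralizer (N : Set G) = Bp ⊓ centralizer (N : Set G) :=
          le_antisymm (le_inf hcNB inf_le_right) (inf_le_inf_right _ hBpA0)
        rw [g4]; exact inf_relIndex_left _ _
      rw [g2, g3] at g1
      exact g1
    have f2 : CA.relIndex CB * (centralizer (Bp : Set G)).relIndex N = (centralizer (A0 : Set G)).relIndex N := by
      have g1 := relIndex_mul_relIndex _ _ _ hCACB (inf_le_left : CB ≤ N)
      have g2 : CA.relIndex N = (centralizer (A0 : Set G)).relIndex N := inf_relIndex_left _ _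
      have g3 : CB.relIndex N = (centralizer (Bp : Set G)).relIndex N := inf_relIndex_left _ _
      rw [g2, g3] at g1
      exact g1
    have f3 : CA.relIndex D' * D'.relIndex CB = CA.relIndex CB := relIndex_mul_relIndex _ _ _ hCAD' hD'CB
    have f4 := hNO Bp hBpe hBpO
    have p1 : 0 < Nat.card Z₁ := Nat.card_pos
    have p2 := Nat.pos_of_ne_zero (rix_ne (centralizer (Bp : Set G)) N)
    have p3 := Nat.pos_of_ne_zero (rix_ne D' CB)
    set q := Nat.card Z₁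
    set β := (centralizer (N : Set G)).relIndex Bp
    set κ := (centralizer (Bp : Set G)).relIndex N
    set r := Bp.relIndex A0
    set s := CA.relIndex D'
    set t := D'.relIndex CB
    have f5 : β * r = s * t * κ := by rw [f1, f0, ← f2, ← f3]
    have f6 : β * r ≤ κ * q := Nat.mul_le_mul f4 h2
    have f7 : q * t * κ ≤ s * t * κ := Nat.mul_le_mul_right _ (Nat.mul_le_mul_right _ h1)
    have ht1 : t = 1 := by
      have g1 : (q * κ) * t ≤ (q * κ) * 1 := by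
        calc (q * κ) * t = q * t * κ := by ring
          _ ≤ s * t * κ := f7
          _ ≤ κ * q := by rw [← f5]; exact f6
          _ = (q * κ) * 1 := by ring
      have g2 := Nat.le_of_mul_le_mul_left g1 (Nat.mul_pos p1 p2)
      omega
    have hβκ : β = κ := by
      refine le_antisymm f4 ?_
      rw [ht1, mul_one] at f7 f5
      have g1 : κ * q ≤ β * q := by
        calc κ * q = q * κ := by ring
          _ ≤ s * κ := by simpa using f7
          _ = β * r := f5.symm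
          _ ≤ β * q := Nat.mul_le_mul_left _ h2
      exact Nat.le_of_mul_le_mul_right g1 p1
    have h3 : n ∈ centralizer (Bp : Set G) := hLift Bp hBpe hBpO hβκ n hn fun b hb => hb.2
    have h4 : CB ≤ D' := relIndex_eq_one.1 ht1
    have h5 := (h4 ⟨hn, h3⟩).2 b₀ hb₀
    rw [h0] at h5
    have h6 : z₀ ∈ E := by
      have := mul_mem (inv_mem (h.xE he₀)) (h.ZE h5)
      rwa [inv_mul_cancel_left] at this
    have h7 := hEZ z₀ h6 hz₀
    rw [h7, mul_one] at h5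
    exact he₀1 (h.disj _ he₀ h5)

end Rt

end Cfsg.Agent.Omega.NO3S.EThree
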