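import Cfsg.Agent.Omega.NO3S.EThree.FrQ
import Cfsg.Agent.Omega.NO3S.EThree.RtQ

/-!
# The frame `FQ` of TEXT Q4: basic facts

* `FQ.pt`, `FQ.adj` : `Z i` is a point, `Z i ~ Z j`; `FQ.U_le_N` : `U j ≤ N_i`; `FQ.Q_le_O`, `FQ.O_le_B`;
* `FQ.rt` : a `Rt` from an elementary abelian `A ≤ B` moving `U i` with `|A : C_A(U i)| ≥ |U i : C_{U i}(A)|`;
* `FQ.rt_AA` : a `Rt` from `A ∈ AA Y`, `U i ≤ Y ≤ B`.
-/

set_option autoImplicit false
set_option linter.unusedSectionVars false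

namespace Cfsg.Agent.Omega.NO3S.EThree

open Subgroup Cfsg Cfsg.Agent.ZN Cfsg.Agent.Omega.MinPar
open Cfsg.Agent.Omega.NoFF.Basic (conj_conj mem_conj conj_le_iff conj_le_centralizer comm_symm comm_mono)
open Cfsg.Agent.Omega.NOThreeL.Pair (conj_eq_of_mem)
open Cfsg.Agent.Omega.OM.PG
open Cfsg.Agent.Omega.OM.PG.Int (Ex rix_ne)
open Cfsg.Agent.Omega.OM.PG.Peel (Nob Exa)
open Cfsg.Agent.Omega.NO3S.EThree.ExactA (eab_iff eab_mono eab_sup swp)
open Cfsg.Agent.ZN.ChoiceSit (Syl o2_le_syl)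
open Cfsg.Agent.ZN.ChoiceBase (AA)
open Cfsg.Agent.Omega.NO3S.ML (card_mul_relIndex card_sup_mul_of_comm)
open scoped Pointwise

universe u

variable {G : Type u} [Group G]

theorem fin_two_or {i j : Fin 2} (h : i ≠ j) (k : Fin 2) : k = i ∨ k = j := by
  revert i j k; decide

theorem fin_two_ex (i : Fin 2) : ∃ j : Fin 2, i ≠ j := by revert i; decide

theorem fin_two_pair {i j : Fin 2} (h : i ≠ j) : (i = 0 ∧ j = 1) ∨ (i = 1 ∧ j = 0) := by
  revert i j; decide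

/-- the cosets of `H` in `K N`, `N ≤ H` -/
theorem relIndex_sup_le [Finite G] {H K N : Subgroup G} (hN : N ≤ H) (hK : N ≤ normalizer (K : Set G)) :
    H.relIndex (K ⊔ N) ≤ H.relIndex K := by
  classical
  have hdec : ∀ y ∈ K ⊔ N, ∃ k ∈ K, ∃ n ∈ N, y = k * n := fun y hy => OM.KTwo.exists_mul_of_mem_sup hK hy
  choose! k hk n hn e using hdec
  have key : Function.Injective (fun c : (K ⊔ N : Subgroup G) ⧸ H.subgroupOf (K ⊔ N) =>
      (QuotientGroup.mk (⟨k (c.out : (K ⊔ N : Subgroup G)), hk _ (c.out).2⟩ : K) : K ⧸ H.subgroupOf K)) := by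
    intro c c' e1
    have h3 := QuotientGroup.eq.1 e1
    have h3' : (k (c.out : (K ⊔ N : Subgroup G)))⁻¹ * k (c'.out : (K ⊔ N : Subgroup G)) ∈ H := by
      simpa [mem_subgroupOf] using h3
    have h4 : ((c.out : (K ⊔ N : Subgroup G)) : G)⁻¹ * (c'.out : (K ⊔ N : Subgroup G)) ∈ H := by
      have e2 := e _ (c.out).2
      have e3 := e _ (c'.out).2
      have h5 : ((c.out : (K ⊔ N : Subgroup G)) : G)⁻¹ * (c'.out : (K ⊔ N : Subgroup G)) =
          (n (c.out : (K ⊔ N : Subgroup G)))⁻¹ * ((k (c.out : (K ⊔ N : Subgroup G)))⁻¹ *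
            k (c'.out : (K ⊔ N : Subgroup G))) * n (c'.out : (K ⊔ N : Subgroup G)) := by
        calc ((c.out : (K ⊔ N : Subgroup G)) : G)⁻¹ * (c'.out : (K ⊔ N : Subgroup G))
            = (k (c.out : (K ⊔ N : Subgroup G)) * n (c.out : (K ⊔ N : Subgroup G)))⁻¹ *
              (k (c'.out : (K ⊔ N : Subgroup G)) * n (c'.out : (K ⊔ N : Subgroup G))) := by rw [← e2, ← e3]
          _ = _ := by group
      rw [h5]
      exact mul_mem (mul_mem (inv_mem (hN (hn _ (c.out).2))) h3') (hN (hn _ (c'.out).2))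
    have h6 : (QuotientGroup.mk c.out : (K ⊔ N : Subgroup G) ⧸ H.subgroupOf (K ⊔ N)) = QuotientGroup.mk c'.out :=
      QuotientGroup.eq.2 (mem_subgroupOf.2 (by simpa using h4))
    rwa [QuotientGroup.out_eq', QuotientGroup.out_eq'] at h6
  exact Nat.card_le_card_of_injective _ key

namespace FQ

variable {Z U : Fin 2 → Subgroup G} {B : Subgroup G} {q : ℕ}

section basic

variable (D : FQ Z U B q)
include D

theorem pt (i : Fin 2) : IsPt Z (Z i) := by
  rcases fin_two_or (by decide : (0 : Fin 2) ≠ 1) i with h | h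
  · rw [h]; exact ⟨1, by rw [map_one, one_smul]⟩
  · rw [h]
    obtain ⟨s, h0, -, -, -⟩ := D.swap
    exact ⟨s, h0.symm⟩

theorem adj {i j : Fin 2} (hij : i ≠ j) : Adj Z (Z i) (Z j) := by
  have h01 : Adj Z (Z 0) (Z 1) := ⟨1, by rw [map_one, one_smul], by rw [map_one, one_smul]⟩
  have h2 := fin_two_pair hij
  rcases h2 with ⟨rfl, rfl⟩ | ⟨rfl, rfl⟩
  · exact h01
  · exact D.adj_symm h01

theorem ln (i : Fin 2) : LnOn Z U (Z i) (U i) := by
  rcases fin_two_or (by decide : (0 : Fin 2) ≠ 1) i with h | h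
  · rw [h]; exact ⟨1, by rw [map_one, one_smul], by rw [map_one, one_smul]⟩
  · rw [h]
    obtain ⟨s, h0, -, h1, -⟩ := D.swap
    exact ⟨s, h0.symm, h1.symm⟩

theorem eU (i : Fin 2) : IsElementaryAbelian 2 (U i) := eab_iff.2 ⟨D.ab _ _ _ (D.ln i) (D.ln i), D.sqU i⟩

theorem eZ (i : Fin 2) : IsElementaryAbelian 2 (Z i) := eab_mono (D.eU i) (D.ZU' i)

theorem B2 : IsPGroup 2 B := D.syl.2.1

theorem B_le : B ≤ centralizer ((Z 0 ⊔ Z 1 : Subgroup G) : Set G) := D.syl.1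

theorem Z_le_sup (i : Fin 2) : Z i ≤ Z 0 ⊔ Z 1 := by
  rcases fin_two_or (by decide : (0 : Fin 2) ≠ 1) i with h | h
  · rw [h]; exact le_sup_left
  · rw [h]; exact le_sup_right

theorem D_le_cent (i : Fin 2) : centralizer ((Z 0 ⊔ Z 1 : Subgroup G) : Set G) ≤ centralizer (Z i : Set G) :=
  centralizer_le (D.Z_le_sup i)

theorem D_le_HH (i : Fin 2) : centralizer ((Z 0 ⊔ Z 1 : Subgroup G) : Set G) ≤ HH (Z i) :=
  (D.D_le_cent i).trans (centralizer_le_normalizer _)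

theorem B_le_HH (i : Fin 2) : B ≤ HH (Z i) := D.B_le.trans (D.D_le_HH i)

theorem cBZ (i : Fin 2) {b z : G} (hb : b ∈ B) (hz : z ∈ Z i) : b * z = z * b :=
  (mem_centralizer_iff.1 (D.D_le_cent i (D.B_le hb)) z hz).symm

theorem Q_le_D (i : Fin 2) : QQ (Z i) ≤ centralizer ((Z 0 ⊔ Z 1 : Subgroup G) : Set G) := by
  rw [le_centralizer_iff]
  have key : ∀ k, Z k ≤ centralizer (QQ (Z i) : Set G) := by
    intro k
    by_cases hik : i = k
    · rw [← hik]; exact comm_symm (D.cen i)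
    · exact (D.ZU' k).trans (D.half i k hik).2
  exact sup_le (key 0) (key 1)

theorem Q_le_O (i : Fin 2) : QQ (Z i) ≤ OO Z :=
  MinSimple.VModule.le_o2 (D.Q_le_D i) (MinSimple.VModule.o2_isPGroup _) ((D.D_le_HH i).trans (MinSimple.VModule.le_normalizer_o2 _))

theorem NQ (i : Fin 2) : NN Z (Z i) ≤ QQ (Z i) := D.NN_le_QQ (D.pt i)

theorem N_le_O (i : Fin 2) : NN Z (Z i) ≤ OO Z := (D.NQ i).trans (D.Q_le_O i)

theorem N_comm (i : Fin 2) : NN Z (Z i) ≤ centralizer (NN Z (Z i) : Set G) := D.NN_comm (D.pt i)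

theorem Q_cent_N (i : Fin 2) : QQ (Z i) ≤ centralizer (NN Z (Z i) : Set G) := D.QQ_le_cent (D.pt i)

theorem N_eab (i : Fin 2) : IsElementaryAbelian 2 (NN Z (Z i)) := by
  refine eab_iff.2 ⟨D.N_comm i, ?_⟩
  refine NoFF.Lines.Geo.sq_of_comm (D.N_comm i) (ι := {u : Subgroup G // Adj Z (Z i) u})
    (B := fun u => (u : Subgroup G)) (fun u => u.2.le_NN) ?_ fun u => D.ZsqConj (D.adj_pt u.2)
  exact sSup_le fun u hu => le_iSup (fun u : {u : Subgroup G // Adj Z (Z i) u} => (u : Subgroup G)) ⟨u, hu⟩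

theorem HH_norm_N (i : Fin 2) : HH (Z i) ≤ normalizer (NN Z (Z i) : Set G) := PP.HH_le_NN (Z i)

theorem B_norm_N (i : Fin 2) {b n : G} (hb : b ∈ B) (hn : n ∈ NN Z (Z i)) : b * n * b⁻¹ ∈ NN Z (Z i) :=
  (mem_normalizer_iff.1 (D.HH_norm_N i (D.B_le_HH i hb)) n).1 hn

theorem B_norm_U (i : Fin 2) {b x : G} (hb : b ∈ B) (hx : x ∈ U i) : b * x * b⁻¹ ∈ U i := by
  have h1 := mul_mem (D.ZU' i (D.com i b hb x hx)) hx
  rwa [inv_mul_cancel_right] at h1

theorem B_le_NU (i : Fin 2) : B ≤ normalizer (U i : Set G) := by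
  intro b hb
  rw [mem_normalizer_iff]
  intro x
  refine ⟨D.B_norm_U i hb, fun hx => ?_⟩
  have := D.B_norm_U i (inv_mem hb) hx
  have e : b⁻¹ * (b * x * b⁻¹) * b⁻¹⁻¹ = x := by group
  rwa [e] at this

/-! ### `X_i = W_i N_i` -/

section XW

open Cfsg.Agent.Omega.OM.PG.Peel (XW)

theorem ln_conj {i : Fin 2} {l : Subgroup G} (h : LnOn Z U (Z i) l) :
    ∃ c ∈ HH (Z i), l = MulAut.conj c • U i := by
  obtain ⟨k, hk, rfl⟩ := h
  obtain ⟨k₀, hk₀, hU⟩ := D.ln i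
  have h1 : MulAut.conj k₀⁻¹ • U i = U 0 := by rw [hU, inv_conj_conj]
  have h2 : MulAut.conj k₀⁻¹ • Z i = Z 0 := by rw [hk₀, inv_conj_conj]
  refine ⟨k * k₀⁻¹, ChoiceBase.mem_normalizer_iff_cj.2 ?_, ?_⟩
  · change MulAut.conj (k * k₀⁻¹) • Z i = Z i
    rw [← conj_conj, h2, ← hk]
  · rw [← conj_conj, h1]

theorem ln_le_Q {i : Fin 2} {l : Subgroup G} (h : LnOn Z U (Z i) l) : l ≤ QQ (Z i) := by
  obtain ⟨c, hc, rfl⟩ := D.ln_conj h
  have h1 : MulAut.conj c • QQ (Z i) = QQ (Z i) :=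
    conj_eq_of_mem (MinSimple.VModule.le_normalizer_o2 _ hc)
  rw [← h1]
  exact conj_le_iff.2 (D.UQ' i)

theorem XW_le_Q (i : Fin 2) : XW Z U (Z i) ≤ QQ (Z i) :=
  sup_le (D.NQ i) (iSup_le fun l => D.ln_le_Q l.2)

theorem XW_comm (i : Fin 2) : XW Z U (Z i) ≤ centralizer (XW Z U (Z i) : Set G) := by
  have hN : XW Z U (Z i) ≤ centralizer (NN Z (Z i) : Set G) := (D.XW_le_Q i).trans (D.Q_cent_N i)
  refine sup_le (comm_symm hN) (iSup_le fun l => comm_symm (sup_le ?_ (iSup_le fun l' => ?_)))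
  · exact comm_symm ((D.ln_le_Q l.2).trans (D.Q_cent_N i))
  · exact D.ab _ _ _ l'.2 l.2

theorem XW_eab (i : Fin 2) : IsElementaryAbelian 2 (XW Z U (Z i)) := by
  refine eab_iff.2 ⟨D.XW_comm i, ?_⟩
  refine NoFF.Lines.Geo.sq_of_comm (D.XW_comm i) (ι := Option {l : Subgroup G // LnOn Z U (Z i) l})
    (B := fun o => o.elim (NN Z (Z i)) fun l => (l : Subgroup G)) ?_ ?_ ?_
  · rintro (_ | l)
    · exact le_sup_left
    · exact (le_iSup (fun l : {l : Subgroup G // LnOn Z U (Z i) l} => (l : Subgroup G)) l).trans le_sup_right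
  · refine sup_le ?_ (iSup_le fun l => ?_)
    · exact le_iSup (fun o : Option {l : Subgroup G // LnOn Z U (Z i) l} =>
        (o.elim (NN Z (Z i)) fun l => (l : Subgroup G) : Subgroup G)) none
    · exact le_iSup (fun o : Option {l : Subgroup G // LnOn Z U (Z i) l} =>
        (o.elim (NN Z (Z i)) fun l => (l : Subgroup G) : Subgroup G)) (some l)
  · rintro (_ | l)
    · exact (eab_iff.1 (D.N_eab i)).2
    · obtain ⟨c, -, e⟩ := D.ln_conj l.2
      intro x hx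
      have hx' : x ∈ MulAut.conj c • U i := e ▸ hx
      exact NoFF.Lines.Geo.conj_sq (D.sqU i) c x hx'

/-- the groups `X_a` -/
theorem xf : OM.PG.Peel.XF Z (XW Z U) := OM.PG.Peel.xf D.toPP (D.XW_eab 0) (D.XW_le_Q 0)

end XW

end basic

section fin

variable [Finite G] (D : FQ Z U B q)
include D

theorem O_le_B : OO Z ≤ B := o2_le_syl D.syl

theorem U_le_B (i : Fin 2) : U i ≤ B := (D.UQ' i).trans ((D.Q_le_O i).trans D.O_le_B)

theorem U_le_O (i : Fin 2) : U i ≤ OO Z := (D.UQ' i).trans (D.Q_le_O i)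

theorem q_pos : 0 < q := by
  rw [← D.cardZ 0]; exact Nat.card_pos

/-- `x = (Z i)^l` is a complement of `Z i` in `U i`. -/
theorem sup_eq {i : Fin 2} {l : G} (h1 : MulAut.conj l • U i = U i) (h2 : MulAut.conj l • Z i ⊓ Z i = ⊥) :
    Z i ⊔ MulAut.conj l • Z i = U i := by
  have hle : MulAut.conj l • Z i ≤ U i := by
    rw [← h1]; exact conj_le_iff.2 (D.ZU' i)
  refine Subgroup.eq_of_le_of_card_ge (sup_le (D.ZU' i) hle) ?_
  have h3 := card_sup_mul_of_comm (K := Z i) (L := MulAut.conj l • Z i)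
    fun a ha b hb => mem_centralizer_iff.1 ((eab_iff.1 (D.eU i)).1 (hle hb)) a (D.ZU' i ha)
  have h4 : Nat.card (MulAut.conj l • Z i : Subgroup G) = Nat.card (Z i) :=
    (Nat.card_congr (Subgroup.equivSMul (MulAut.conj l) (Z i)).toEquiv).symm
  have h5 : Z i ⊓ MulAut.conj l • Z i = ⊥ := by rw [inf_comm]; exact h2
  rw [h5, card_bot, mul_one, h4, D.cardZ i, ← pow_two] at h3
  rw [h3, D.cardU i]

/-- `U j ≤ N_i` -/
theorem U_le_N {i j : Fin 2} (hij : i ≠ j) : U j ≤ NN Z (Z i) := by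
  obtain ⟨l, h1, h2, h3, -, -⟩ := D.mvl j i hij.symm
  rw [← D.sup_eq h1 h2]
  refine sup_le (D.adj hij).le_NN ?_
  have h4 : MulAut.conj l • Z i = Z i := conj_eq_of_mem (centralizer_le_normalizer _ h3)
  have h5 := (D.adj hij).conj l
  rw [h4] at h5
  exact h5.le_NN

theorem exists_ne_Z (i : Fin 2) : ∃ x ∈ U i, x ∉ Z i := by
  obtain ⟨l, h1, h2, -⟩ : ∃ l : G, MulAut.conj l • U i = U i ∧ MulAut.conj l • Z i ⊓ Z i = ⊥ ∧ True := by
    have h0 : ∃ j : Fin 2, i ≠ j := by revert i; decide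
    obtain ⟨j, hij⟩ := h0
    obtain ⟨l, h1, h2, -⟩ := D.mvl i j hij
    exact ⟨l, h1, h2, trivial⟩
  by_contra hcon
  push Not at hcon
  have h3 : MulAut.conj l • Z i ≤ Z i := by
    have : MulAut.conj l • Z i ≤ U i := by rw [← h1]; exact conj_le_iff.2 (D.ZU' i)
    exact this.trans hcon
  rw [inf_eq_left.2 h3] at h2
  have h4 : Z i = ⊥ := by
    have h5 := congrArg (fun X => MulAut.conj l⁻¹ • X) h2
    simp only [inv_conj_conj] at h5
    rw [h5]
    simp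
  obtain ⟨k, hk⟩ := D.pt i
  apply D.ne
  have h5 := congrArg (fun X => MulAut.conj k⁻¹ • X) (hk.symm.trans h4)
  simp only [inv_conj_conj] at h5
  rw [h5]
  simp

/-- `C_{U i}(A) = Z i` if `A ≤ B` moves `U i`. -/
theorem cent_U {i : Fin 2} {A : Subgroup G} (hAB : A ≤ B) (hmv : ¬ A ≤ centralizer (U i : Set G)) :
    U i ⊓ centralizer (A : Set G) = Z i := by
  refine le_antisymm ?_ (le_inf (D.ZU' i) fun z hz => mem_centralizer_iff.2 fun a ha => D.cBZ i (hAB ha) hz)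
  rintro x ⟨hx, hxA⟩
  by_contra hxZ
  apply hmv
  intro a ha
  exact D.free i a (hAB ha) x hx hxZ (mem_centralizer_iff.1 hxA a ha)

theorem rel_U {i : Fin 2} {A : Subgroup G} (hAB : A ≤ B) (hmv : ¬ A ≤ centralizer (U i : Set G)) :
    (centralizer (A : Set G)).relIndex (U i) = q := by
  have h1 := D.cent_U hAB hmv
  have h2 : (centralizer (A : Set G)).relIndex (U i) = (Z i).relIndex (U i) := by
    rw [← inf_relIndex_left, h1]
  have h3 := card_mul_relIndex (D.ZU' i)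
  rw [D.cardZ, D.cardU, pow_two] at h3
  rw [h2]
  exact Nat.eq_of_mul_eq_mul_left D.q_pos h3

theorem rel_A {i : Fin 2} {A : Subgroup G} (hAB : A ≤ B) : (centralizer (U i : Set G)).relIndex A ≤ q := by
  obtain ⟨x, hx, hxZ⟩ := D.exists_ne_Z i
  rw [← D.cardZ i]
  refine relIndex_le_of (fun a => a * x * a⁻¹ * x⁻¹) (fun a ha => D.com i a (hAB ha) x hx) ?_
  intro a ha a' ha' e
  refine D.free i _ (hAB (mul_mem (inv_mem ha) ha')) x hx hxZ ?_
  have e' : a * x * a⁻¹ * x⁻¹ = a' * x * a'⁻¹ * x⁻¹ := e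
  have h1 : a * x * a⁻¹ = a' * x * a'⁻¹ := mul_right_cancel e'
  calc a⁻¹ * a' * x = a⁻¹ * (a' * x * a'⁻¹) * a' := by group
    _ = a⁻¹ * (a * x * a⁻¹) * a' := by rw [h1]
    _ = x * (a⁻¹ * a') := by group

/-- **The full root group.** -/
theorem rt {i : Fin 2} {A : Subgroup G} {l : G} (hA : IsElementaryAbelian 2 A) (hAB : A ≤ B)
    (hmv : ¬ A ≤ centralizer (U i : Set G)) (hf : q ≤ (centralizer (U i : Set G)).relIndex A)
    (h1 : MulAut.conj l • U i = U i) (h2 : MulAut.conj l • Z i ⊓ Z i = ⊥) :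
    Rt A (U i) (Z i) (MulAut.conj l • Z i) where
  Ae := hA
  Ee := D.eU i
  ZE := D.ZU' i
  xE := by rw [← h1]; exact conj_le_iff.2 (D.ZU' i)
  disj := fun e he heZ => by
    have h3 : e ∈ MulAut.conj l • Z i ⊓ Z i := ⟨he, heZ⟩
    rwa [h2, mem_bot] at h3
  com := fun a ha e he => D.com i a (hAB ha) e he
  free := fun a ha e he he1 hae => by
    have hxE : MulAut.conj l • Z i ≤ U i := by rw [← h1]; exact conj_le_iff.2 (D.ZU' i)
    refine D.free i a (hAB ha) e (hxE he) (fun heZ => he1 ?_) hae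
    have h3 : e ∈ MulAut.conj l • Z i ⊓ Z i := ⟨he, heZ⟩
    rwa [h2, mem_bot] at h3
  full := fun e he he1 z hz => by
    classical
    have hxE : MulAut.conj l • Z i ≤ U i := by rw [← h1]; exact conj_le_iff.2 (D.ZU' i)
    have heZ : e ∉ Z i := fun heZ => he1 (by
      have h3 : e ∈ MulAut.conj l • Z i ⊓ Z i := ⟨he, heZ⟩
      rwa [h2, mem_bot] at h3)
    set H : Subgroup G := centralizer (U i : Set G) with hH
    let f : A ⧸ H.subgroupOf A → Z i := fun c =>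
      ⟨((c.out : A) : G) * e * ((c.out : A) : G)⁻¹ * e⁻¹, D.com i _ (hAB (c.out).2) e (hxE he)⟩
    have hfi : Function.Injective f := by
      intro c c' hcc
      have e1 : ((c.out : A) : G) * e * ((c.out : A) : G)⁻¹ * e⁻¹ =
          ((c'.out : A) : G) * e * ((c'.out : A) : G)⁻¹ * e⁻¹ := congrArg Subtype.val hcc
      have e2 := mul_right_cancel e1
      have e3 : ((c.out : A) : G)⁻¹ * (c'.out : A) * e = e * (((c.out : A) : G)⁻¹ * (c'.out : A)) := by
        calc ((c.out : A) : G)⁻¹ * (c'.out : A) * e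
            = ((c.out : A) : G)⁻¹ * (((c'.out : A) : G) * e * ((c'.out : A) : G)⁻¹) * (c'.out : A) := by group
          _ = ((c.out : A) : G)⁻¹ * (((c.out : A) : G) * e * ((c.out : A) : G)⁻¹) * (c'.out : A) := by rw [e2]
          _ = _ := by group
      have h3 := D.free i _ (hAB (mul_mem (inv_mem (c.out).2) (c'.out).2)) e (hxE he) heZ e3
      have h4 : (QuotientGroup.mk c.out : A ⧸ H.subgroupOf A) = QuotientGroup.mk c'.out :=
        QuotientGroup.eq.2 (mem_subgroupOf.2 (by simpa using h3))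
      rwa [QuotientGroup.out_eq', QuotientGroup.out_eq'] at h4
    have hcard : Nat.card (Z i) ≤ Nat.card (A ⧸ H.subgroupOf A) := by
      rw [D.cardZ i]; exact hf
    obtain ⟨c, hc⟩ := (hfi.bijective_of_nat_card_le hcard).2 ⟨z, hz⟩
    exact ⟨_, (c.out).2, congrArg Subtype.val hc⟩
  nob := by
    rw [D.rel_U hAB hmv]
    exact D.rel_A hAB
  card := (Nat.card_congr (Subgroup.equivSMul (MulAut.conj l) (Z i)).toEquiv).symm
  mv := hmv

theorem nob_U {i : Fin 2} {A : Subgroup G} (hAB : A ≤ B) (hmv : ¬ A ≤ centralizer (U i : Set G)) :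
    (centralizer (U i : Set G)).relIndex A ≤ (centralizer (A : Set G)).relIndex (U i) := by
  rw [D.rel_U hAB hmv]
  exact D.rel_A hAB

/-- A member of `AA Y` moving `U i ≤ Y ≤ B` induces the full root group. -/
theorem rt_AA {i : Fin 2} {A Y : Subgroup G} {l : G} (hY : Y ≤ B) (hUY : U i ≤ Y) (hA : A ∈ AA Y)
    (hmv : ¬ A ≤ centralizer (U i : Set G)) (h1 : MulAut.conj l • U i = U i)
    (h2 : MulAut.conj l • Z i ⊓ Z i = ⊥) :
    Rt A (U i) (Z i) (MulAut.conj l • Z i) ∧ (A ⊓ centralizer (U i : Set G)) ⊔ U i ∈ AA Y ∧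
      (centralizer (U i : Set G)).relIndex A = q := by
  have hAB : A ≤ B := hA.2.1.trans hY
  obtain ⟨h3, -, h4⟩ := swp (D.eU i) hUY hA (D.nob_U hAB hmv)
  have h5 := h3.trans (D.rel_U hAB hmv)
  exact ⟨D.rt hA.1 hAB hmv h5.ge h1 h2, h4, h5⟩

end fin

end FQ

end Cfsg.Agent.Omega.NO3S.EThree
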