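import Cfsg.Agent.Omega.NO3S.EThree.FrQOf
import Cfsg.Agent.Omega.NO3S.EThree.FrQB
import Cfsg.Agent.Omega.ML.Final

/-!
# NO-3S, case (E), `k = 2`, all `q`, every level: `(NO)` from `ML.Final.MLK`

* `BgQ.torC` : `C_G(W j) ∩ N_G(Z i)` is transitive on `Z i - 1`;
* `BgQ.no` : (NO) for a 2-group `Q` on `W' / Y`, `W' = ⟨Z j ^ H⟩`, `N_S(Z i) ≤ H ≤ N_G(Z i)`;
* `NoDQ.of_bg`, `NoQQ.of_bg`, `NoP.of_bg`.
-/

set_option autoImplicit false
set_option linter.unusedSectionVars false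

namespace Cfsg.Agent.Omega.NO3S.EThree

open Subgroup Cfsg Cfsg.Agent.ZN.ChoiceBase
open Cfsg.Agent.ZN (zc zl o2)
open Cfsg.Agent.ZN.ChoiceSit (Syl syl_not_dvd)
open Cfsg.Agent.Omega.OM Cfsg.Agent.Omega.OM.Uni
open Cfsg.Agent.Omega.OM.PG
open Cfsg.Agent.Omega.MinPar (NonLoc)
open Cfsg.Agent.Omega.NO3S (HypJ HypN Hyp)
open Cfsg.Agent.Omega.NO3S.EThree.Frame
open Cfsg.Agent.Omega.NO3S.EThree.ExactA (NoP eab_iff)
open scoped Pointwise

universe u

variable {G : Type u} [Group G]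

theorem kgroup_le {C H : Subgroup G} (hC : IsKGroup C) (hH : H ≤ C) : IsKGroup H :=
  ML.Final.kgroup_of_surj hC (H.subgroupOf C) (subgroupOfEquivOfLe hH).toMonoidHom (subgroupOfEquivOfLe hH).surjective

theorem exists_ne_one' {X : Subgroup G} (h : X ≠ ⊥) : ∃ x ∈ X, x ≠ 1 := by
  by_contra hcon
  push Not at hcon
  exact h ((eq_bot_iff_forall _).2 hcon)

namespace BgQ

variable [Finite G] {S : Sylow 2 G} {P B ZJ : Subgroup G} {L W Z C : Fin 2 → Subgroup G} {q : ℕ}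
  (h : Bg S P B ZJ L W Z C q)
include h

theorem partner {i j : Fin 2} (hij : i ≠ j) : ∃ s, Pa (S : Subgroup G) W i j s := by
  obtain ⟨j', s, p⟩ := h.exists_partner i
  have h2 : ∀ a b c : Fin 2, a ≠ b → a ≠ c → b = c := by decide
  obtain rfl := h2 i j j' hij p.ne
  exact ⟨s, p⟩

theorem T_eq (i j : Fin 2) : (S : Subgroup G) ⊓ normalizer (Z i : Set G) = (S : Subgroup G) ⊓ normalizer (Z j : Set G) := by
  by_cases hij : i = j
  · rw [hij]
  · obtain ⟨s, p⟩ := partner h hij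
    exact (h.T_eq p).symm

/-- `C_G(W j) ∩ N_G(Z i)` is transitive on `Z i - 1` -/
theorem torC {i j : Fin 2} (hij : i ≠ j) {z z' : G} (hz : z ∈ Z i) (hz1 : z ≠ 1) (hz' : z' ∈ Z i) (hz1' : z' ≠ 1) :
    ∃ t : G, t ∈ centralizer (W j : Set G) ∧ cj t (Z i) = Z i ∧ t * z * t⁻¹ = z' := by
  rcases Nat.lt_or_ge 2 q with hq | hq
  · -- a vector `v` outside `Z i`
    obtain ⟨v, hv, hvZ⟩ : ∃ v ∈ W i, v ∉ Z i := by
      obtain ⟨b, hb, w, hw, hne⟩ := (h.fr.blk i).ne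
      exact ⟨w, hw, fun hc => hne ((h.fr.blk i).cZ b hb w hc)⟩
    obtain ⟨b, hb, e⟩ := (h.scal hq i).surj v hv hvZ z hz
    -- `[b, v'] = z'`
    have hsurj : ∃ v' ∈ W i, v' ∉ Z i ∧ b * v' * b⁻¹ * v'⁻¹ = z' := by
      have hbW : ∀ w ∈ W i, b * w * b⁻¹ * w⁻¹ ∈ Z i := fun w hw => (h.fr.blk i).com b hb w hw
      have hcomm : ∀ x ∈ W i, ∀ y ∈ W i, x * y = y * x := fun x hx y hy => h.fr.Vc (h.fr.WV i hx) (h.fr.WV i hy)
      let f : W i →* Z i :=
        { toFun := fun w => ⟨b * w * b⁻¹ * (w : G)⁻¹, hbW w w.2⟩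
          map_one' := Subtype.ext (by simp)
          map_mul' := fun x y => Subtype.ext (by
            change b * ((x : G) * y) * b⁻¹ * ((x : G) * y)⁻¹ = b * x * b⁻¹ * (x : G)⁻¹ * (b * y * b⁻¹ * (y : G)⁻¹)
            have h1 := hcomm (x : G)⁻¹ (inv_mem x.2) (b * y * b⁻¹ * (y : G)⁻¹) ((h.fr.blk i).ZV (hbW y y.2))
            calc b * ((x : G) * y) * b⁻¹ * ((x : G) * y)⁻¹
                = b * x * b⁻¹ * ((b * y * b⁻¹ * (y : G)⁻¹) * (x : G)⁻¹) := by group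
              _ = b * x * b⁻¹ * ((x : G)⁻¹ * (b * y * b⁻¹ * (y : G)⁻¹)) := by rw [h1]
              _ = _ := by group) }
      have hker : f.ker = (Z i).subgroupOf (W i) := by
        ext x
        rw [MonoidHom.mem_ker, mem_subgroupOf]
        constructor
        · intro hx
          by_contra hxZ
          have h1 : b * (x : G) * b⁻¹ * (x : G)⁻¹ = 1 := congrArg Subtype.val hx
          have h2 : b * (x : G) = x * b := by
            have := mul_inv_eq_one.1 h1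
            exact mul_inv_eq_iff_eq_mul.1 this
          have h3 := (h.fr.blk i).free b hb x x.2 hxZ h2 v hv
          apply hz1
          rw [← e, h3]; group
        · intro hx
          refine Subtype.ext ?_
          change b * (x : G) * b⁻¹ * (x : G)⁻¹ = 1
          rw [(h.fr.blk i).cZ b hb x hx]; group
      have hcard : Nat.card f.range = Nat.card (Z i) := by
        have h1 := Subgroup.card_mul_index f.ker
        rw [Subgroup.index_ker] at h1
        rw [hker, Nat.card_congr (Subgroup.subgroupOfEquivOfLe (h.fr.blk i).ZV).toEquiv, (h.fr.blk i).card,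
          h.fr.cardZ i] at h1
        rw [h.fr.cardZ i]
        exact Nat.eq_of_mul_eq_mul_left (by have := (h.fr.blk i).one; omega) h1
      have htop : f.range = ⊤ := Subgroup.eq_top_of_card_eq _ hcard
      have hz'' : (⟨z', hz'⟩ : Z i) ∈ f.range := by rw [htop]; exact mem_top _
      obtain ⟨x, hx⟩ := hz''
      have hx' : b * (x : G) * b⁻¹ * (x : G)⁻¹ = z' := congrArg Subtype.val hx
      refine ⟨x, x.2, fun hc => hz1' ?_, hx'⟩
      rw [← hx', (h.fr.blk i).cZ b hb x hc]; group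
    obtain ⟨v', hv', hvZ', e'⟩ := hsurj
    obtain ⟨t, htP, htC, htZ, ht, htv, -⟩ := (h.scal hq i).ex v hv hvZ v' hv' hvZ'
    -- `t⁻¹ z t = z'`
    have h1 := ht b hb v hv
    have h2 : t * v * t⁻¹ = v' * (v'⁻¹ * (t * v * t⁻¹)) := by group
    set u := v'⁻¹ * (t * v * t⁻¹) with hu
    have h3 : b * (t * v * t⁻¹) * b⁻¹ * (t * v * t⁻¹)⁻¹ = z' := by
      rw [h2]
      have h4 := (h.fr.blk i).cZ b hb u htv
      calc b * (v' * u) * b⁻¹ * (v' * u)⁻¹ = b * v' * (u * b⁻¹ * u⁻¹) * v'⁻¹ := by group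
        _ = b * v' * b⁻¹ * v'⁻¹ := by
          have h5 : u * b⁻¹ * u⁻¹ = b⁻¹ := by
            have h6 : b⁻¹ * u = u * b⁻¹ := by
              rw [inv_mul_eq_iff_eq_mul, ← mul_assoc, h4, mul_inv_cancel_right]
            rw [← h6]; group
          rw [h5]
        _ = z' := e'
    rw [h3, e] at h1
    refine ⟨t⁻¹, ?_, ?_, ?_⟩
    · rw [← C_eq_W h hij]
      exact inv_mem htC
    · exact mem_normalizer_iff_cj.1 (inv_mem htZ)
    · rw [inv_inv]
      exact h1.symm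
  · have hq2 : q = 2 := le_antisymm hq (h.fr.blk i).one
    have h2 : Nat.card (Z i) = 2 := by rw [h.fr.cardZ i, hq2]
    obtain ⟨c, hc, hcu⟩ := (Nat.card_eq_two_iff' (1 : Z i)).1 h2
    have hall : ∀ x ∈ Z i, x ≠ 1 → x = (c : G) := fun x hx e =>
      congrArg Subtype.val (hcu ⟨x, hx⟩ fun e' => e (congrArg Subtype.val e'))
    exact ⟨1, one_mem _, by rw [cj_one], by rw [hall z hz hz1, hall z' hz' hz1']; group⟩

theorem ne_top {i j : Fin 2} (hij : i ≠ j) (hnl : NonLoc (normalizer (Z 0 : Set G)) (normalizer (Z 1 : Set G))) :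
    normalizer (Z i : Set G) ≠ ⊤ := by
  intro e
  have h2 : ∀ a b : Fin 2, a ≠ b → (a = 0 ∧ b = 1) ∨ (a = 1 ∧ b = 0) := by decide
  rcases h2 i j hij with ⟨rfl, rfl⟩ | ⟨rfl, rfl⟩
  · exact h.Z_ne 0 (hnl (Z 0) (h.Z_two 0) le_rfl (by
      obtain ⟨s, p⟩ := partner h (i := 0) (j := 1) (by decide)
      rw [e]; exact le_top))
  · exact h.Z_ne 1 (hnl (Z 1) (h.Z_two 1) (by rw [e]; exact le_top) le_rfl)

/-- **(NO)** from `MLK`, for `H` on `W' / Y`, `W' = ⟨Z j ^ H⟩`. -/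
theorem no (hML : ML.Final.MLK.{u, u}) (hnl : NonLoc (normalizer (Z 0 : Set G)) (normalizer (Z 1 : Set G)))
    {i j : Fin 2} (hij : i ≠ j) {H W' Y Q A M : Subgroup G}
    (hT : (S : Subgroup G) ⊓ normalizer (Z i : Set G) ≤ H) (hH : H ≤ normalizer (Z i : Set G))
    (hW : H ≤ normalizer (W' : Set G)) (hZW : Z j ≤ W')
    (hgen : ∀ U : Subgroup G, Z j ≤ U → H ≤ normalizer (U : Set G) → W' ≤ U)
    (htor : ∀ z ∈ Z j, z ≠ 1 → ∀ z' ∈ Z j, z' ≠ 1 → ∃ t ∈ H, t * z * t⁻¹ = z')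
    (hWc : W' ≤ centralizer (W' : Set G)) (hsq : ∀ x ∈ W', x ^ 2 = 1)
    (hY : H ≤ normalizer (Y : Set G)) (hYW : Y ≤ W') (hYZ : Y ⊓ Z j = ⊥)
    (hst : ∀ z ∈ Z j, z ≠ 1 → ∀ g ∈ H, g * z * g⁻¹ * z⁻¹ ∈ Y → g ∈ normalizer (Z j : Set G))
    (hQH : Q ≤ H) (hQ2 : IsPGroup 2 Q) (hQZ : Q ≤ centralizer (Z j : Set G))
    (hQn : H ⊓ normalizer (Z j : Set G) ≤ normalizer (Q : Set G))
    (hAQ : A ≤ Q) (hA2 : ∀ a ∈ A, a ^ 2 = 1)
    (hM : M ≤ W') (hMY : ∀ m ∈ M, ∀ a ∈ A, a * m * a⁻¹ * m⁻¹ ∈ Y) :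
    (centralizer (W' : Set G)).relIndex A ≤ M.relIndex W' := by
  have hTj := T_eq h i j
  have hTn : (S : Subgroup G) ⊓ normalizer (Z i : Set G) ≤ normalizer (Z j : Set G) := by
    rw [hTj]; exact inf_le_right
  have hT2 : IsPGroup 2 ((S : Subgroup G) ⊓ normalizer (Z i : Set G) : Subgroup G) := S.isPGroup'.to_le inf_le_left
  have hbot : ∀ X : Subgroup G, X ≤ normalizer ((⊥ : Subgroup G) : Set G) := fun X => by
    rw [normalizer_eq_top]; exact le_top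
  -- a vector of `Z j` fixed by `T`
  obtain ⟨w, hw, hw1, hwT⟩ : ∃ w ∈ Z j, w ∉ (⊥ : Subgroup G) ∧
      ∀ t ∈ (S : Subgroup G) ⊓ normalizer (Z i : Set G), t * w * t⁻¹ * w⁻¹ ∈ (⊥ : Subgroup G) :=
    IId.SideOf.exists_fixed_mod (A := ⊥) (B := Z j) (T := (S : Subgroup G) ⊓ normalizer (Z i : Set G))
      (fun hc => h.Z_ne j (le_bot_iff.1 hc)) (hbot _) (h.Z_two j) hT2 (hbot _) hTn
  rw [mem_bot] at hw1
  -- the kernel of `A` on `W' / Y`
  have hker : ∀ a ∈ A, (∀ x ∈ W', a * x * a⁻¹ * x⁻¹ ∈ Y) → a ∈ centralizer (W' : Set G) := by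
    intro a ha hax
    have haH : a ∈ H := hQH (hAQ ha)
    -- the subgroup of elements all of whose `H`-conjugates commute with `a`
    let U : Subgroup G :=
      { carrier := {x | x ∈ W' ∧ ∀ g ∈ H, a * (g * x * g⁻¹) = (g * x * g⁻¹) * a}
        one_mem' := ⟨one_mem _, fun g _ => by simp⟩
        mul_mem' := by
          rintro x y ⟨hx, hx'⟩ ⟨hy, hy'⟩
          refine ⟨mul_mem hx hy, fun g hg => ?_⟩
          have h1 := hx' g hg
          have h2 := hy' g hg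
          have e : g * (x * y) * g⁻¹ = (g * x * g⁻¹) * (g * y * g⁻¹) := by group
          rw [e]
          have c1 : Commute a (g * x * g⁻¹) := h1
          have c2 : Commute a (g * y * g⁻¹) := h2
          exact (c1.mul_right c2).eq
        inv_mem' := by
          rintro x ⟨hx, hx'⟩
          refine ⟨inv_mem hx, fun g hg => ?_⟩
          have h1 := hx' g hg
          have e : g * x⁻¹ * g⁻¹ = (g * x * g⁻¹)⁻¹ := by group
          have c1 : Commute a (g * x * g⁻¹) := h1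
          rw [e]
          exact c1.inv_right.eq }
    have hZU : Z j ≤ U := by
      intro z hz
      refine ⟨hZW hz, fun g hg => ?_⟩
      by_cases hz1 : z = 1
      · rw [hz1]; simp
      have h1 : g * z * g⁻¹ ∈ W' := (mem_normalizer_iff.1 (hW hg) _).1 (hZW hz)
      have h2 := (mem_normalizer_iff.1 (hY (inv_mem hg)) _).1 (hax _ h1)
      have e : g⁻¹ * (a * (g * z * g⁻¹) * a⁻¹ * (g * z * g⁻¹)⁻¹) * g⁻¹⁻¹ =
          (g⁻¹ * a * g) * z * (g⁻¹ * a * g)⁻¹ * z⁻¹ := by group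
      rw [e] at h2
      have h3 := hst z hz hz1 _ (mul_mem (mul_mem (inv_mem hg) haH) hg) h2
      have h4 : (g⁻¹ * a * g) * z * (g⁻¹ * a * g)⁻¹ * z⁻¹ ∈ Y ⊓ Z j :=
        mem_inf.2 ⟨h2, mul_mem ((mem_normalizer_iff.1 h3 z).1 hz) (inv_mem hz)⟩
      rw [hYZ, mem_bot, mul_inv_eq_one, mul_inv_eq_iff_eq_mul] at h4
      calc a * (g * z * g⁻¹) = g * ((g⁻¹ * a * g) * z) * g⁻¹ := by group
        _ = g * (z * (g⁻¹ * a * g)) * g⁻¹ := by rw [h4]
        _ = g * z * g⁻¹ * a := by group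
    have hUn : H ≤ normalizer (U : Set G) := by
      have key : ∀ k ∈ H, ∀ x ∈ U, k * x * k⁻¹ ∈ U := by
        rintro k hk x ⟨hx, hx'⟩
        refine ⟨(mem_normalizer_iff.1 (hW hk) x).1 hx, fun g hg => ?_⟩
        have h1 := hx' (g * k) (mul_mem hg hk)
        have e : g * k * x * (g * k)⁻¹ = g * (k * x * k⁻¹) * g⁻¹ := by group
        rwa [e] at h1
      intro k hk
      rw [mem_normalizer_iff]
      refine fun x => ⟨key k hk x, fun hx => ?_⟩
      have h1 := key k⁻¹ (inv_mem hk) _ hx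
      have e : k⁻¹ * (k * x * k⁻¹) * k⁻¹⁻¹ = x := by group
      rwa [e] at h1
    have h1 := hgen U hZU hUn
    rw [mem_centralizer_iff]
    intro x hx
    have h2 := (h1 hx).2 1 (one_mem _)
    simpa using h2.symm
  -- `C_{W'/Y}(A)`
  let CW : Subgroup G :=
    { carrier := {x | x ∈ W' ∧ ∀ a ∈ A, a * x * a⁻¹ * x⁻¹ ∈ Y}
      one_mem' := ⟨one_mem _, fun a _ => by simp⟩
      mul_mem' := by
        rintro x y ⟨hx, hx'⟩ ⟨hy, hy'⟩
        refine ⟨mul_mem hx hy, fun a ha => ?_⟩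
        have h1 := hx' a ha
        have h2 := hy' a ha
        have h3 : x * (a * y * a⁻¹ * y⁻¹) * x⁻¹ = a * y * a⁻¹ * y⁻¹ := by
          have h4 := mem_centralizer_iff.1 (hWc hx) _ (hYW h2)
          rw [← h4]; group
        have e : a * (x * y) * a⁻¹ * (x * y)⁻¹ = (a * x * a⁻¹ * x⁻¹) * (x * (a * y * a⁻¹ * y⁻¹) * x⁻¹) := by group
        rw [e, h3]
        exact mul_mem h1 h2
      inv_mem' := by
        rintro x ⟨hx, hx'⟩
        refine ⟨inv_mem hx, fun a ha => ?_⟩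
        have h1 := inv_mem (hx' a ha)
        have h4 := mem_centralizer_iff.1 (hWc (inv_mem hx)) _ (hYW h1)
        have e : a * x⁻¹ * a⁻¹ * x⁻¹⁻¹ = x⁻¹ * (a * x * a⁻¹ * x⁻¹)⁻¹ * x⁻¹⁻¹ := by group
        rw [e, ← h4]
        have e2 : (a * x * a⁻¹ * x⁻¹)⁻¹ * x⁻¹ * x⁻¹⁻¹ = (a * x * a⁻¹ * x⁻¹)⁻¹ := by group
        rw [e2]
        exact h1 }
  have hMC : M ≤ CW := fun m hm => ⟨hM hm, fun a ha => hMY m hm a ha⟩
  have hmain : (A ⊓ centralizer (W' : Set G)).relIndex A ≤ CW.relIndex W' := by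
    refine hML.grp (C := H) (W := W') (Y := Y) (T := (S : Subgroup G) ⊓ normalizer (Z i : Set G)) (Q := Q) (A := A)
      (w := w) (kgroup_le (h.hyp.ctx.kproper _ (ne_top h hij hnl)) hH) ?_
      (KA := A ⊓ centralizer (W' : Set G)) (CW := CW) ?_ (fun x => Iff.rfl)
    · exact
        { nW := hW
          nY := hY
          YW := hYW
          WY := (hWc.trans (centralizer_le hYW)).trans (centralizer_le_normalizer _)
          sq := fun x hx => by rw [← pow_two, hsq x hx]; exact one_mem _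
          mem := hZW hw
          gen := fun U hU _ hHU => by
            refine hgen U (fun z hz => ?_) hHU
            by_cases hz1 : z = 1
            · rw [hz1]; exact one_mem _
            obtain ⟨t, ht, rfl⟩ := htor w hw hw1 z hz hz1
            exact (mem_normalizer_iff.1 (hHU ht) w).1 hU
          TC := hT
          two := hT2
          odd := syl_not_dvd (h.syl_of_le i hT hH)
          fixT := fun t ht => by
            have h1 := hwT t ht
            rw [mem_bot] at h1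
            rw [h1]; exact one_mem _
          QC := hQH
          Q2 := hQ2
          fixQ := fun x hx => by
            rw [← mem_centralizer_iff.1 (hQZ hx) w hw, mul_inv_cancel_right, mul_inv_cancel]
            exact one_mem _
          nrmQ := fun g hg hgY x hx =>
            (mem_normalizer_iff.1 (hQn (mem_inf.2 ⟨hg, hst w hw hw1 g hg hgY⟩)) x).1 hx
          AQ := hAQ
          Asq := fun a ha x _ => by
            have h1 : a * a = 1 := by rw [← pow_two]; exact hA2 a ha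
            have e : a * (a * x * a⁻¹) * a⁻¹ * x⁻¹ = (a * a) * x * (a * a)⁻¹ * x⁻¹ := by group
            rw [e, h1]
            simp }
    · intro a
      constructor
      · rintro ⟨h1, h2⟩
        refine ⟨h1, fun x hx => ?_⟩
        have h3 := mem_centralizer_iff.1 h2 x hx
        rw [← h3, mul_inv_cancel_right, mul_inv_cancel]
        exact one_mem _
      · rintro ⟨h1, h2⟩
        exact ⟨h1, hker a h1 h2⟩
  rw [inf_relIndex_left] at hmain
  refine hmain.trans ?_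
  have h1 := relIndex_mul_relIndex M CW W' hMC fun x hx => hx.1
  rw [← h1]
  exact Nat.le_mul_of_pos_left _ (Nat.pos_of_ne_zero (OM.PG.Int.rix_ne _ _))

end BgQ

namespace FQ

variable [Finite G] {Z U : Fin 2 → Subgroup G} {B : Subgroup G} {q : ℕ} (D : FQ Z U B q)
include D

/-- `N_i = ⟨Z j ^ N(Z i)⟩` -/
theorem N_gen {i j : Fin 2} (hij : i ≠ j) (U' : Subgroup G) (hZ : Z j ≤ U')
    (hU : HH (Z i) ≤ normalizer (U' : Set G)) : NN Z (Z i) ≤ U' := by
  refine sSup_le ?_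
  rintro u ⟨k, hk, rfl⟩
  obtain ⟨k₀, h0, h1⟩ := D.adj hij
  have e2 : cj (k * k₀⁻¹) (Z i) = Z i := by
    rw [← cj_cj]
    have h2 : cj k₀⁻¹ (Z i) = Z 0 := by
      conv_lhs => rw [h0]
      exact cj_inv_cj _ _
    rw [h2]
    exact hk.symm
  have e1 : MulAut.conj k • Z 1 = cj (k * k₀⁻¹) (Z j) := by
    rw [← cj_cj]
    have h2 : cj k₀⁻¹ (Z j) = Z 1 := by
      conv_lhs => rw [h1]
      exact cj_inv_cj _ _
    rw [h2]
    rfl
  rw [e1]
  have h4 := cj_mono (k * k₀⁻¹) hZ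
  rwa [cj_eq_of_mem_normalizer (hU (mem_normalizer_iff_cj.2 e2))] at h4

/-- stabilisers of cosets, from (0.2) -/
theorem stab {i j : Fin 2} (hij : i ≠ j) {Y : Subgroup G} (hY : Y ≤ Z 0 ⊔ Z 1) {z : G} (hz : z ∈ Z j) (hz1 : z ≠ 1)
    {g : G} (hg : g ∈ HH (Z i)) (hgY : g * z * g⁻¹ * z⁻¹ ∈ Y) : g ∈ HH (Z j) := by
  have h1 : g * z * g⁻¹ ∈ Z 0 ⊔ Z 1 := by
    have := mul_mem (hY hgY) (D.Z_le_sup j hz)
    rwa [inv_mul_cancel_right] at this
  have h2 : g * z * g⁻¹ ∈ cj g (Z j) := ⟨z, hz, rfl⟩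
  have h3 := D.fus (cj g (Z j)) ((D.pt j).conj g) _ h2 h1 fun e => hz1 (conj_eq_one_iff.1 e)
  have hne : cj g (Z j) ≠ Z i := by
    intro e
    have h4 : Z j = Z i := by
      have h5 := congrArg (cj g⁻¹) e
      rw [cj_inv_cj, cj_eq_of_mem_normalizer (inv_mem hg)] at h5
      exact h5
    have h6 : Z j ≤ Z i ⊓ Z j := le_inf h4.le le_rfl
    have h7 : Z i ⊓ Z j = ⊥ := by
      rcases fin_two_pair hij with ⟨rfl, rfl⟩ | ⟨rfl, rfl⟩
      · exact le_bot_iff.1 ((inf_le_inf (D.ZU' 0) (D.ZU' 1)).trans D.inf.le)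
      · rw [inf_comm]
        exact le_bot_iff.1 ((inf_le_inf (D.ZU' 0) (D.ZU' 1)).trans D.inf.le)
    rw [h7] at h6
    exact hz1 (mem_bot.1 (h6 hz))
  rw [mem_normalizer_iff_cj]
  rcases fin_two_pair hij with ⟨rfl, rfl⟩ | ⟨rfl, rfl⟩
  · exact h3.resolve_left hne
  · exact h3.resolve_right hne

/-- `N(Z i) ∩ N(Z j)` normalises `O` -/
theorem HH_norm_O {i j : Fin 2} (hij : i ≠ j) : HH (Z i) ⊓ HH (Z j) ≤ normalizer (OO Z : Set G) := by
  have key : ∀ g : G, cj g (Z i) = Z i → cj g (Z j) = Z j → cj g (Z 0 ⊔ Z 1) = Z 0 ⊔ Z 1 := by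
    intro g h1 h2
    have e : cj g (Z 0 ⊔ Z 1) = cj g (Z 0) ⊔ cj g (Z 1) := Subgroup.map_sup _ _ _
    rw [e]
    rcases fin_two_pair hij with ⟨rfl, rfl⟩ | ⟨rfl, rfl⟩
    · rw [h1, h2]
    · rw [h1, h2]
  rintro g ⟨h1, h2⟩
  have h3 := key g (mem_normalizer_iff_cj.1 h1) (mem_normalizer_iff_cj.1 h2)
  rw [mem_normalizer_iff_cj]
  have h4 : cj g (centralizer ((Z 0 ⊔ Z 1 : Subgroup G) : Set G)) = centralizer ((Z 0 ⊔ Z 1 : Subgroup G) : Set G) := by
    rw [cj_centralizer, h3]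
  have h5 : g ∈ normalizer (centralizer ((Z 0 ⊔ Z 1 : Subgroup G) : Set G) : Set G) := mem_normalizer_iff_cj.2 h4
  exact mem_normalizer_iff_cj.1 (Cfsg.Agent.Omega.normalizer_le_normalizer_o2' _ h5)

end FQ

section plug

variable [Finite G] {S : Sylow 2 G} {P B ZJ : Subgroup G} {L W Z C : Fin 2 → Subgroup G} {q : ℕ}

/-- **(NO)** for a 2-group on `N_i / Y`, `Y ≤ Z 0 Z 1`, `Y ∩ Z j = 1`, from `MLK`. -/
theorem BgQ.noN (h : Bg S P B ZJ L W Z C q) (hML : ML.Final.MLK.{u, u}) (hTI : TI (Z 0))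
    (hnl : NonLoc (normalizer (Z 0 : Set G)) (normalizer (Z 1 : Set G))) {i j : Fin 2} (hij : i ≠ j)
    {Y Q A M : Subgroup G} (hY : HH (Z i) ≤ normalizer (Y : Set G)) (hYW : Y ≤ NN Z (Z i)) (hYZ : Y ⊓ Z j = ⊥)
    (hYJ : Y ≤ Z 0 ⊔ Z 1) (hQH : Q ≤ HH (Z i)) (hQ2 : IsPGroup 2 Q) (hQZ : Q ≤ centralizer (Z j : Set G))
    (hQn : HH (Z i) ⊓ HH (Z j) ≤ normalizer (Q : Set G)) (hAQ : A ≤ Q) (hA2 : ∀ a ∈ A, a ^ 2 = 1)
    (hM : M ≤ NN Z (Z i)) (hMY : ∀ m ∈ M, ∀ a ∈ A, a * m * a⁻¹ * m⁻¹ ∈ Y) :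
    (centralizer (NN Z (Z i) : Set G)).relIndex A ≤ M.relIndex (NN Z (Z i)) := by
  have D := FQ.of_bg h hTI hnl
  refine BgQ.no h hML hnl hij (H := HH (Z i)) (Y := Y) (Q := Q) inf_le_right le_rfl (D.HH_norm_N i)
    ((D.adj hij).le_NN) (fun U' => D.N_gen hij U') ?_ (D.N_comm i) (eab_iff.1 (D.N_eab i)).2 hY hYW hYZ
    (fun z hz hz1 g hg hgY => D.stab hij hYJ hz hz1 hg hgY) hQH hQ2 hQZ hQn hAQ hA2 hM hMY
  intro z hz hz1 z' hz' hz1'
  obtain ⟨t, htC, -, e⟩ := BgQ.torC h hij.symm hz hz1 hz' hz1'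
  exact ⟨t, (centralizer_le (D.ZU' i) htC) |> fun h3 => centralizer_le_normalizer _ h3, e⟩

theorem NoDQ.of_bg (h : Bg S P B ZJ L W Z C q) (hML : ML.Final.MLK.{u, u}) (hTI : TI (Z 0))
    (hnl : NonLoc (normalizer (Z 0 : Set G)) (normalizer (Z 1 : Set G))) : NoDQ Z := by
  have D := FQ.of_bg h hTI hnl
  intro i A hA hAO
  obtain ⟨j, hij⟩ := fin_two_ex i
  have key := BgQ.noN h hML hTI hnl hij (Y := ⊥) (Q := OO Z) (A := A) (M := NN Z (Z i) ⊓ centralizer (A : Set G))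
    (by rw [normalizer_eq_top]; exact le_top) bot_le (bot_inf_eq _) bot_le
    ((MinSimple.VModule.o2_le _).trans (D.D_le_HH i)) (MinSimple.VModule.o2_isPGroup _)
    ((MinSimple.VModule.o2_le _).trans (D.D_le_cent j)) (D.HH_norm_O hij) hAO (eab_iff.1 hA).2 inf_le_left
    (fun m hm a ha => by
      rw [mem_bot, mem_centralizer_iff.1 hm.2 a ha, mul_inv_cancel_right, mul_inv_cancel])
  rwa [inf_relIndex_left] at key

theorem NoQQ.of_bg (h : Bg S P B ZJ L W Z C q) (hML : ML.Final.MLK.{u, u}) (hTI : TI (Z 0))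
    (hnl : NonLoc (normalizer (Z 0 : Set G)) (normalizer (Z 1 : Set G))) : NoQQ Z := by
  have D := FQ.of_bg h hTI hnl
  intro i A hA hAO M hM hMY
  obtain ⟨j, hij⟩ := fin_two_ex i
  have hij' : Z i ⊓ Z j = ⊥ := by
    rcases fin_two_pair hij with ⟨rfl, rfl⟩ | ⟨rfl, rfl⟩
    · exact le_bot_iff.1 ((inf_le_inf (D.ZU' 0) (D.ZU' 1)).trans D.inf.le)
    · rw [inf_comm]
      exact le_bot_iff.1 ((inf_le_inf (D.ZU' 0) (D.ZU' 1)).trans D.inf.le)
  refine BgQ.noN h hML hTI hnl hij (Y := Z i ⊓ NN Z (Z i)) (Q := OO Z) (A := A) (M := M)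
    ?_ inf_le_right ?_ (inf_le_left.trans (D.Z_le_sup i))
    ((MinSimple.VModule.o2_le _).trans (D.D_le_HH i)) (MinSimple.VModule.o2_isPGroup _)
    ((MinSimple.VModule.o2_le _).trans (D.D_le_cent j)) (D.HH_norm_O hij) hAO (eab_iff.1 hA).2 hM ?_
  · exact Cfsg.Agent.Omega.NO3L.LemP.le_normalizer_inf le_rfl (D.HH_norm_N i)
  · rw [eq_bot_iff, ← hij']
    exact inf_le_inf_right _ inf_le_left
  · intro m hm a ha
    have h1 := hMY m hm a ha
    have h2 : a * m * a⁻¹ ∈ NN Z (Z i) := D.B_norm_N i (D.O_le_B (hAO ha)) (hM hm)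
    have h3 : a * m * a⁻¹ * m⁻¹ = (m * a * m⁻¹ * a⁻¹)⁻¹ := by group
    refine mem_inf.2 ⟨?_, mul_mem h2 (inv_mem (hM hm))⟩
    rw [h3]
    exact inv_mem h1

/-- **(NO)** for `Q_a` on `N_u`, `a ~ u`. -/
theorem NoP.of_bg (h : Bg S P B ZJ L W Z C q) (hML : ML.Final.MLK.{u, u}) (hTI : TI (Z 0))
    (hnl : NonLoc (normalizer (Z 0 : Set G)) (normalizer (Z 1 : Set G))) : NoP Z := by
  have D := FQ.of_bg h hTI hnl
  have hij : (1 : Fin 2) ≠ 0 := by decide
  have key : ∀ A : Subgroup G, IsElementaryAbelian 2 A → A ≤ QQ (Z 0) →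
      (centralizer (NN Z (Z 1) : Set G)).relIndex A ≤ (centralizer (A : Set G)).relIndex (NN Z (Z 1)) := by
    intro A hA hAQ
    have key := BgQ.noN h hML hTI hnl hij (Y := ⊥) (Q := QQ (Z 0)) (A := A)
      (M := NN Z (Z 1) ⊓ centralizer (A : Set G))
      (by rw [normalizer_eq_top]; exact le_top) bot_le (bot_inf_eq _) bot_le
      ((D.Q_le_D 0).trans (D.D_le_HH 1)) (MinSimple.VModule.o2_isPGroup _)
      (D.cen 0) (inf_le_right.trans (MinSimple.VModule.le_normalizer_o2 _)) hAQ (eab_iff.1 hA).2 inf_le_left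
      (fun m hm a ha => by
        rw [mem_bot, mem_centralizer_iff.1 hm.2 a ha, mul_inv_cancel_right, mul_inv_cancel])
    rwa [inf_relIndex_left] at key
  rintro _ _ ⟨k, rfl, rfl⟩ B' hB hBQ
  obtain ⟨B₀, rfl⟩ : ∃ B₀ : Subgroup G, B' = MulAut.conj k • B₀ := ⟨MulAut.conj k⁻¹ • B', by
    rw [conj_inv_conj]⟩
  have hB0 : IsElementaryAbelian 2 B₀ := by
    have h1 := Peel.eab_conj hB k⁻¹
    rwa [inv_conj_conj] at h1
  have hBQ0 : B₀ ≤ QQ (Z 0) := by
    rw [QQ_conj] at hBQ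
    exact (Cfsg.Agent.Omega.NoFF.Basic.conj_le_iff).1 hBQ
  have key := key B₀ hB0 hBQ0
  rw [NN_conj]
  have e1 : centralizer ((MulAut.conj k • NN Z (Z 1) : Subgroup G) : Set G) =
      MulAut.conj k • centralizer (NN Z (Z 1) : Set G) := (cj_centralizer k _).symm
  have e2 : centralizer ((MulAut.conj k • B₀ : Subgroup G) : Set G) = MulAut.conj k • centralizer (B₀ : Set G) :=
    (cj_centralizer k _).symm
  rw [e1, e2, relIndex_pointwise_smul, relIndex_pointwise_smul]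
  exact key

end plug

end Cfsg.Agent.Omega.NO3S.EThree
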