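import Mathlib

/-!
# NO-3S, case (E): every nonzero vector is in a point (uniform form of helper118 #18644 (2)-(4), all `q`)

`M` an additive group (`N_1/Z_1`), `PP` a set of subgroups ("points"), `T p` a set of automorphisms for `p ∈ PP`
("transvections with centre `p`"), `pr T p = C_M(T p)`.  No form and no field.

* `Geo PP T` : the axioms; `Geo.one`, `Geo.ext`, `Geo.hyp` (hyperbolic lines are unions of points);
* `Cn` : common neighbour; `Geo.cn_step`, `Geo.cn_trans`;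
* `Col x y` : `x ⊥ y` and `x + y` is a union of points; `Geo.col_of` ;
* `Geo.gen` : `M_C ∩ x^⊥` is generated by the points of the component `C` in `x^⊥`;
* `Geo.inj` : `x^⊥ ≤ z^⊥`, `x ≠ z` yields a forbidden product of two transvections;
* `Geo.col` : all perpendicular `x ≠ z` in one component are collinear; `Geo.vec` : every nonzero vector of `M_C` lies in
  a point of `C`.
-/

set_option autoImplicit false
set_option linter.unusedSectionVars false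

namespace Cfsg.Agent.Omega.NO3S.EThree.PtGeo

variable {M : Type*} [AddCommGroup M]

/-- `C_M(T p)` -/
def pr (T : AddSubgroup M → Set (M ≃+ M)) (p : AddSubgroup M) : AddSubgroup M where
  carrier := {m | ∀ t ∈ T p, t m = m}
  zero_mem' := fun t _ => map_zero t
  add_mem' := fun {a b} ha hb t ht => by rw [map_add, ha t ht, hb t ht]
  neg_mem' := fun {a} ha t ht => by rw [map_neg, ha t ht]

/-- the image of a subgroup -/
def mp (t : M ≃+ M) (r : AddSubgroup M) : AddSubgroup M := r.map t.toAddMonoidHom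

theorem mem_mp {t : M ≃+ M} {r : AddSubgroup M} {x : M} : x ∈ mp t r ↔ ∃ y ∈ r, t y = x := Iff.rfl

/-- The axioms of the geometry. -/
structure Geo (PP : Set (AddSubgroup M)) (T : AddSubgroup M → Set (M ≃+ M)) : Prop where
  ne : ∀ p ∈ PP, ∃ x ∈ p, x ≠ 0
  ti : ∀ p ∈ PP, ∀ r ∈ PP, ∀ x ∈ p, x ∈ r → x ≠ 0 → p = r
  mem : ∀ p ∈ PP, ∀ t ∈ T p, ∀ m, t m - m ∈ p
  self : ∀ p ∈ PP, p ≤ pr T p
  act : ∀ p ∈ PP, ∀ t ∈ T p, ∀ r ∈ PP, mp t r ∈ PP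
  cj : ∀ p ∈ PP, ∀ t ∈ T p, ∀ r ∈ PP, ∀ m, t m ∈ pr T (mp t r) ↔ m ∈ pr T r
  sur : ∀ p ∈ PP, ∀ m, m ∉ pr T p → ∀ v ∈ p, ∃ t ∈ T p, t m = m + v
  sym : ∀ p ∈ PP, ∀ r ∈ PP, r ≤ pr T p → p ≤ pr T r
  ix : ∀ p ∈ PP, ∀ r ∈ PP, ¬ r ≤ pr T p → ∀ m, ∃ x ∈ r, m - x ∈ pr T p

/-- `p` and `r` have a common neighbour. -/
def Cn (PP : Set (AddSubgroup M)) (T : AddSubgroup M → Set (M ≃+ M)) (p r : AddSubgroup M) : Prop :=
  ∃ s ∈ PP, ¬ s ≤ pr T p ∧ ¬ s ≤ pr T r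

/-- `x ⊥ y` and `x + y` is a union of points. -/
def Col (PP : Set (AddSubgroup M)) (T : AddSubgroup M → Set (M ≃+ M)) (x y : AddSubgroup M) : Prop :=
  y ≤ pr T x ∧ ∀ v ∈ x ⊔ y, v ≠ 0 → ∃ s ∈ PP, v ∈ s ∧ s ≤ x ⊔ y

variable {PP : Set (AddSubgroup M)} {T : AddSubgroup M → Set (M ≃+ M)}

theorem Cn.symm {p r : AddSubgroup M} (h : Cn PP T p r) : Cn PP T r p := by
  obtain ⟨s, hs, h1, h2⟩ := h
  exact ⟨s, hs, h2, h1⟩

namespace Geo

variable (g : Geo PP T)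
include g

/-- **(1)** -/
theorem one {p r : AddSubgroup M} (hp : p ∈ PP) (hr : r ∈ PP) {x : M} (hx : x ∈ r) (hx0 : x ≠ 0) (hxp : x ∈ pr T p) :
    r ≤ pr T p := by
  intro y hy t ht
  have h1 : mp t r = r := g.ti _ (g.act p hp t ht r hr) _ hr x ⟨x, hx, hxp t ht⟩ hx hx0
  have h2 : t y ∈ r := h1 ▸ (⟨y, hy, rfl⟩ : t y ∈ mp t r)
  by_contra hne
  have h3 : t y - y ≠ 0 := fun e => hne (sub_eq_zero.1 e)
  have h4 : r = p := g.ti _ hr _ hp _ (sub_mem h2 hy) (g.mem p hp t ht y) h3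
  subst h4
  exact hne (g.self r hr hy t ht)

theorem iff_one {p r : AddSubgroup M} (hp : p ∈ PP) (hr : r ∈ PP) {x : M} (hx : x ∈ r) (hx0 : x ≠ 0) :
    r ≤ pr T p ↔ x ∈ pr T p := ⟨fun h => h hx, g.one hp hr hx hx0⟩

theorem nsym {p r : AddSubgroup M} (hp : p ∈ PP) (hr : r ∈ PP) (h : ¬ r ≤ pr T p) : ¬ p ≤ pr T r :=
  fun h1 => h (g.sym r hr p hp h1)

theorem not_mem {p r : AddSubgroup M} (hp : p ∈ PP) (hr : r ∈ PP) (h : ¬ r ≤ pr T p) {x : M} (hx : x ∈ r)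
    (hx0 : x ≠ 0) : x ∉ pr T p := fun h1 => h (g.one hp hr hx hx0 h1)

/-- **(E)** -/
theorem ext {s d : AddSubgroup M} (hs : s ∈ PP) (hd : d ∈ PP) {m v : M} (hm : m ∈ s) (hmd : m ∉ pr T d)
    (hv : v ∈ d) : ∃ s' ∈ PP, m + v ∈ s' ∧ s' ≤ s ⊔ d := by
  obtain ⟨t, ht, e⟩ := g.sur d hd m hmd v hv
  refine ⟨mp t s, g.act d hd t ht s hs, ⟨m, hm, e⟩, ?_⟩
  rintro _ ⟨y, hy, rfl⟩
  have h1 : t y = y + (t y - y) := by abel
  change t y ∈ s ⊔ d
  rw [h1]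
  exact add_mem (AddSubgroup.mem_sup_left hy) (AddSubgroup.mem_sup_right (g.mem d hd t ht y))

/-- **(H)** Hyperbolic lines are unions of points. -/
theorem hyp {p r : AddSubgroup M} (hp : p ∈ PP) (hr : r ∈ PP) (h : ¬ r ≤ pr T p) {v : M} (hv : v ∈ p ⊔ r)
    (hv0 : v ≠ 0) : ∃ s ∈ PP, v ∈ s ∧ s ≤ p ⊔ r := by
  obtain ⟨x, hx, y, hy, rfl⟩ := AddSubgroup.mem_sup.1 hv
  by_cases hy0 : y = 0
  · subst hy0
    exact ⟨p, hp, by simpa using hx, le_sup_left⟩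
  · obtain ⟨s, hs, h1, h2⟩ := g.ext hr hp hy (g.not_mem hp hr h hy hy0) hx
    exact ⟨s, hs, by rwa [add_comm] at h1, by rwa [sup_comm] at h2⟩

theorem hyp' {p r : AddSubgroup M} (hp : p ∈ PP) (hr : r ∈ PP) (h : ¬ r ≤ pr T p) {x y : M} (hx : x ∈ p)
    (hy : y ∈ r) (hv0 : x + y ≠ 0) : ∃ s ∈ PP, x + y ∈ s ∧ s ≤ p ⊔ r :=
  g.hyp hp hr h (add_mem (AddSubgroup.mem_sup_left hx) (AddSubgroup.mem_sup_right hy)) hv0

theorem disj {p r : AddSubgroup M} (hp : p ∈ PP) (hr : r ∈ PP) (h : ¬ r ≤ pr T p) {x : M} (hx : x ∈ p)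
    (hxr : x ∈ r) : x = 0 := by
  by_contra h0
  have := g.ti p hp r hr x hx hxr h0
  subst this
  exact h (g.self p hp)

/-- The third point of a hyperbolic line. -/
theorem third {p r : AddSubgroup M} (hp : p ∈ PP) (hr : r ∈ PP) (h : ¬ r ≤ pr T p) :
    ∃ x ∈ p, ∃ y ∈ r, x ≠ 0 ∧ y ≠ 0 ∧ x + y ≠ 0 ∧ ∃ s ∈ PP, x + y ∈ s ∧ s ≤ p ⊔ r := by
  obtain ⟨x, hx, hx0⟩ := g.ne p hp
  obtain ⟨y, hy, hy0⟩ := g.ne r hr
  have h1 : x + y ≠ 0 := by
    intro e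
    have h2 : x = -y := eq_neg_of_add_eq_zero_left e
    exact hx0 (g.disj hp hr h hx (h2 ▸ neg_mem hy))
  exact ⟨x, hx, y, hy, hx0, hy0, h1, g.hyp' hp hr h hx hy h1⟩

/-! ### (2) Common neighbours -/

theorem cn_self {p s : AddSubgroup M} (hs : s ∈ PP) (h : ¬ s ≤ pr T p) : Cn PP T p p := ⟨s, hs, h, h⟩

/-- Adjacent points have a common neighbour. -/
theorem cn_of_adj {p r : AddSubgroup M} (hp : p ∈ PP) (hr : r ∈ PP) (h : ¬ r ≤ pr T p) : Cn PP T p r := by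
  obtain ⟨x, hx, y, hy, hx0, hy0, h0, s, hs, h1, -⟩ := g.third hp hr h
  refine ⟨s, hs, ?_, ?_⟩
  · rw [g.iff_one hp hs h1 h0, AddSubgroup.add_mem_cancel_left _ (g.self p hp hx)]
    exact g.not_mem hp hr h hy hy0
  · rw [g.iff_one hr hs h1 h0, AddSubgroup.add_mem_cancel_right _ (g.self r hr hy)]
    exact g.not_mem hr hp (g.nsym hp hr h) hx hx0

theorem cn_step {p r u : AddSubgroup M} (hp : p ∈ PP) (hr : r ∈ PP) (hu : u ∈ PP) (h : Cn PP T p r)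
    (hru : ¬ u ≤ pr T r) : Cn PP T p u := by
  obtain ⟨s, hs, h1, h2⟩ := h
  by_cases hsu : s ≤ pr T u
  · by_cases hpr : r ≤ pr T p
    · -- third point on `s + r`
      obtain ⟨x, hx, y, hy, hx0, hy0, h0, w, hw, h3, -⟩ := g.third hs hr (g.nsym hr hs h2)
      refine ⟨w, hw, ?_, ?_⟩
      · rw [g.iff_one hp hw h3 h0, AddSubgroup.add_mem_cancel_right _ (hpr hy)]
        exact g.not_mem hp hs h1 hx hx0
      · rw [g.iff_one hu hw h3 h0, AddSubgroup.add_mem_cancel_left _ (hsu hx)]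
        exact g.not_mem hu hr (g.nsym hr hu hru) hy hy0
    · exact ⟨r, hr, hpr, g.nsym hr hu hru⟩
  · exact ⟨s, hs, h1, hsu⟩

theorem cn_trans {p r u : AddSubgroup M} (hp : p ∈ PP) (hr : r ∈ PP) (hu : u ∈ PP) (h : Cn PP T p r)
    (h' : Cn PP T r u) : Cn PP T p u := by
  obtain ⟨s, hs, h1, h2⟩ := h'
  exact g.cn_step hp hs hu (g.cn_step hp hr hs h h1) (g.nsym hu hs h2)

/-- a point nonperpendicular to a point of the component is in the component -/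
theorem cn_adj {x r u : AddSubgroup M} (hx : x ∈ PP) (hr : r ∈ PP) (hu : u ∈ PP) (h : Cn PP T x r)
    (hru : ¬ r ≤ pr T u) : Cn PP T x u := g.cn_step hx hr hu h (g.nsym hu hr hru)

/-! ### (3) Collinearity -/

/-- **(3)** -/
theorem col_of {x y y' : AddSubgroup M} (hx : x ∈ PP) (hy : y ∈ PP) (hy' : y' ∈ PP) (h : Col PP T x y)
    (h1 : y' ≤ pr T x) (h2 : ¬ y' ≤ pr T y) : Col PP T x y' := by
  refine ⟨h1, fun v hv hv0 => ?_⟩
  obtain ⟨ξ, hξ, η', hη', rfl⟩ := AddSubgroup.mem_sup.1 hv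
  by_cases hη0 : η' = 0
  · subst hη0
    exact ⟨x, hx, by simpa using hξ, le_sup_left⟩
  obtain ⟨η, hη, hη1⟩ := g.ne y hy
  have hxy : x ≤ pr T y := g.sym x hx y hy h.1
  have hxy' : x ≤ pr T y' := g.sym x hx y' hy' h1
  have hη'y : η' ∉ pr T y := g.not_mem hy hy' h2 hη' hη0
  have hηy' : η ∉ pr T y' := g.not_mem hy' hy (g.nsym hy hy' h2) hη hη1
  -- the point of `η + ξ`
  have h3 : ξ + η ≠ 0 := by
    intro e
    apply hηy'
    have : η = -ξ := eq_neg_of_add_eq_zero_right e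
    rw [this]
    exact neg_mem (hxy' hξ)
  obtain ⟨a, ha, h4, h5⟩ := h.2 (ξ + η) (add_mem (AddSubgroup.mem_sup_left hξ) (AddSubgroup.mem_sup_right hη)) h3
  have hay' : ¬ a ≤ pr T y' := by
    rw [g.iff_one hy' ha h4 h3, AddSubgroup.add_mem_cancel_left _ (hxy' hξ)]
    exact hηy'
  obtain ⟨s₁, hs₁, h6, h7⟩ := g.ext hy' ha hη' (g.not_mem ha hy' (g.nsym hy' ha hay') hη' hη0) h4
  have h8 : η' + (ξ + η) ∉ pr T y := by
    rw [AddSubgroup.add_mem_cancel_right _ (add_mem (hxy hξ) (g.self y hy hη))]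
    exact hη'y
  obtain ⟨s₂, hs₂, h9, h10⟩ := g.ext hs₁ hy h6 h8 (neg_mem hη)
  have e1 : η' + (ξ + η) + -η = ξ + η' := by abel
  rw [e1] at h9
  refine ⟨s₂, hs₂, h9, ?_⟩
  have h11 : s₂ ≤ pr T y' := by
    rw [g.iff_one hy' hs₂ h9 hv0]
    exact add_mem (hxy' hξ) (g.self y' hy' hη')
  intro w hw
  have h12 : w ∈ y' ⊔ (x ⊔ y) := by
    have h13 : s₁ ⊔ y ≤ y' ⊔ (x ⊔ y) :=
      sup_le (h7.trans (sup_le_sup_left h5 _)) (le_sup_right.trans le_sup_right)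
    exact h13 (h10 hw)
  obtain ⟨b, hb, c, hc, e2⟩ := AddSubgroup.mem_sup.1 h12
  obtain ⟨c₁, hc₁, c₂, hc₂, rfl⟩ := AddSubgroup.mem_sup.1 hc
  have h14 : c₂ = 0 := by
    by_contra hne
    refine g.not_mem hy' hy (g.nsym hy hy' h2) hc₂ hne ?_
    have h15 := h11 hw
    rw [← e2, AddSubgroup.add_mem_cancel_left _ (g.self y' hy' hb),
      AddSubgroup.add_mem_cancel_left _ (hxy' hc₁)] at h15
    exact h15
  subst h14
  rw [← e2, add_zero]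
  exact add_mem (AddSubgroup.mem_sup_right hb) (AddSubgroup.mem_sup_left hc₁)

/-! ### (4) Generation of `x^⊥` -/

/-- collinear points have a common neighbour (up to transitivity) -/
theorem cn_of_col {x y : AddSubgroup M} (hx : x ∈ PP) (hy : y ∈ PP) (hne : x ≠ y) (h : Col PP T x y)
    (h1 : ∃ s ∈ PP, ¬ s ≤ pr T x) (h2 : ∃ s ∈ PP, ¬ s ≤ pr T y) : Cn PP T x y := by
  obtain ⟨w, hw, hwx⟩ := h1
  obtain ⟨w', hw', hwy⟩ := h2
  by_cases h3 : w ≤ pr T y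
  · by_cases h4 : w' ≤ pr T x
    · obtain ⟨ξ, hξ, hξ0⟩ := g.ne x hx
      obtain ⟨η, hη, hη0⟩ := g.ne y hy
      have h0 : ξ + η ≠ 0 := by
        intro e
        have h5 : ξ = -η := eq_neg_of_add_eq_zero_left e
        exact hne (g.ti x hx y hy ξ hξ (h5 ▸ neg_mem hη) hξ0)
      obtain ⟨s, hs, h5, -⟩ := h.2 (ξ + η)
        (add_mem (AddSubgroup.mem_sup_left hξ) (AddSubgroup.mem_sup_right hη)) h0
      have h6 : Cn PP T x s := by
        refine ⟨w, hw, hwx, g.nsym hw hs ?_⟩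
        rw [g.iff_one hw hs h5 h0, AddSubgroup.add_mem_cancel_right _ (g.sym y hy w hw h3 hη)]
        exact g.not_mem hw hx (g.nsym hx hw hwx) hξ hξ0
      have h7 : Cn PP T s y := by
        refine ⟨w', hw', g.nsym hw' hs ?_, hwy⟩
        rw [g.iff_one hw' hs h5 h0, AddSubgroup.add_mem_cancel_left _ (g.sym x hx w' hw' h4 hξ)]
        exact g.not_mem hw' hy (g.nsym hy hw' hwy) hη hη0
      exact g.cn_trans hx hs hy h6 h7
    · exact ⟨w', hw', h4, hwy⟩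
  · exact ⟨w, hw, hwx, h3⟩

end Geo

/-- `M_C`, generated by the component of `x` -/
def MC (PP : Set (AddSubgroup M)) (T : AddSubgroup M → Set (M ≃+ M)) (x : AddSubgroup M) : AddSubgroup M :=
  sSup {r | r ∈ PP ∧ Cn PP T x r}

/-- generated by the points of the component in `x^⊥` -/
def XC (PP : Set (AddSubgroup M)) (T : AddSubgroup M → Set (M ≃+ M)) (x : AddSubgroup M) : AddSubgroup M :=
  sSup {r | r ∈ PP ∧ Cn PP T x r ∧ r ≤ pr T x}

theorem XC_le (x : AddSubgroup M) : XC PP T x ≤ pr T x := sSup_le fun _ h => h.2.2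

theorem le_MC {x r : AddSubgroup M} (hr : r ∈ PP) (h : Cn PP T x r) : r ≤ MC PP T x := le_sSup ⟨hr, h⟩

namespace Geo

variable (g : Geo PP T)
include g

theorem genA {x a b : AddSubgroup M} (hx : x ∈ PP) (ha : a ∈ PP) (hb : b ∈ PP) (hax : ¬ a ≤ pr T x)
    (hCa : Cn PP T x a) (hab : ¬ b ≤ pr T a) {m : M} (hm : m ∈ b) : ∃ v ∈ a, m - v ∈ XC PP T x := by
  by_cases hm0 : m = 0
  · exact ⟨0, zero_mem _, by rw [hm0, sub_zero]; exact zero_mem _⟩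
  obtain ⟨v, hv, h1⟩ := g.ix x hx a ha hax m
  refine ⟨v, hv, ?_⟩
  by_cases h0 : m - v = 0
  · rw [h0]; exact zero_mem _
  obtain ⟨s, hs, h2, -⟩ := g.hyp ha hb hab
    (sub_mem (AddSubgroup.mem_sup_right hm) (AddSubgroup.mem_sup_left hv)) h0
  have h3 : ¬ s ≤ pr T a := by
    rw [g.iff_one ha hs h2 h0]
    intro h4
    refine g.not_mem ha hb hab hm hm0 ?_
    have := add_mem h4 (g.self a ha hv)
    rwa [sub_add_cancel] at this
  exact AddSubgroup.mem_sSup_of_mem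
    (⟨hs, g.cn_step hx ha hs hCa h3, g.one hx hs h2 h0 h1⟩ : s ∈ {r | r ∈ PP ∧ Cn PP T x r ∧ r ≤ pr T x}) h2

theorem genB {x a b : AddSubgroup M} (hx : x ∈ PP) (ha : a ∈ PP) (hb : b ∈ PP) (hax : ¬ a ≤ pr T x)
    (hCb : Cn PP T x b) {m : M} (hm : m ∈ b) : ∃ v ∈ a, m - v ∈ XC PP T x := by
  have hxx : Cn PP T x x := ⟨a, ha, hax, hax⟩
  have hCa : Cn PP T x a := g.cn_step hx hx ha hxx hax
  by_cases hbx : b ≤ pr T x
  · refine ⟨0, zero_mem _, ?_⟩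
    rw [sub_zero]
    exact AddSubgroup.mem_sSup_of_mem
      (⟨hb, hCb, hbx⟩ : b ∈ {r | r ∈ PP ∧ Cn PP T x r ∧ r ≤ pr T x}) hm
  by_cases hab : b ≤ pr T a
  · obtain ⟨ξ, hξ, v₀, hv₀, hξ0, hv0, h0, a', ha', h1, h2⟩ := g.third hx ha hax
    have h3 : ¬ a' ≤ pr T x := by
      rw [g.iff_one hx ha' h1 h0, AddSubgroup.add_mem_cancel_left _ (g.self x hx hξ)]
      exact g.not_mem hx ha hax hv₀ hv0
    have h4 : ¬ b ≤ pr T a' := by
      apply g.nsym hb ha'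
      rw [g.iff_one hb ha' h1 h0, AddSubgroup.add_mem_cancel_right _ (g.sym a ha b hb hab hv₀)]
      exact g.not_mem hb hx (g.nsym hx hb hbx) hξ hξ0
    obtain ⟨v', hv', h5⟩ := g.genA hx ha' hb h3 (g.cn_step hx hx ha' hxx h3) h4 hm
    obtain ⟨ξ', hξ', v, hv, rfl⟩ := AddSubgroup.mem_sup.1 (h2 hv')
    refine ⟨v, hv, ?_⟩
    have h6 : ξ' ∈ XC PP T x := AddSubgroup.mem_sSup_of_mem
      (⟨hx, hxx, g.self x hx⟩ : x ∈ {r | r ∈ PP ∧ Cn PP T x r ∧ r ≤ pr T x}) hξ'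
    have h7 : m - v = m - (ξ' + v) + ξ' := by abel
    rw [h7]
    exact add_mem h5 h6
  · exact g.genA hx ha hb hax hCa hab hm

/-- `M_C ≤ a + ⟨points of C in x^⊥⟩`, `a ~ x` -/
theorem MC_le {x a : AddSubgroup M} (hx : x ∈ PP) (ha : a ∈ PP) (hax : ¬ a ≤ pr T x) :
    MC PP T x ≤ a ⊔ XC PP T x := by
  refine sSup_le fun b hb m hm => ?_
  obtain ⟨v, hv, h1⟩ := g.genB hx ha hb.1 hax hb.2 hm
  have h2 : m = v + (m - v) := by abel
  rw [h2]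
  exact add_mem (AddSubgroup.mem_sup_left hv) (AddSubgroup.mem_sup_right h1)

/-- **(4)** -/
theorem gen {x a : AddSubgroup M} (hx : x ∈ PP) (ha : a ∈ PP) (hax : ¬ a ≤ pr T x) {m : M}
    (hm : m ∈ MC PP T x) (hmx : m ∈ pr T x) : m ∈ XC PP T x := by
  obtain ⟨v, hv, c, hc, rfl⟩ := AddSubgroup.mem_sup.1 (g.MC_le hx ha hax hm)
  rw [AddSubgroup.add_mem_cancel_right _ (XC_le x hc)] at hmx
  have : v = 0 := by
    by_contra h0
    exact g.not_mem hx ha hax hv h0 hmx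
  rw [this, zero_add]
  exact hc

/-! ### The forbidden product -/

/-- (7b) of helper159 #17814: the kernels agree on adjacent neighbours. -/
theorem injA {x z w r : AddSubgroup M} (hx : x ∈ PP) (hz : z ∈ PP) (hw : w ∈ PP) (hr : r ∈ PP)
    (hxz : ∀ m, m ∈ pr T x → m ∈ pr T z) (hwx : ¬ w ≤ pr T x) (hrx : ¬ r ≤ pr T x) (hrw : ¬ r ≤ pr T w) {k : M}
    (hk : k ∈ x ⊔ z) (hkw : k ∈ pr T w) : k ∈ pr T r := by
  obtain ⟨ρ, hρ, hρ0⟩ := g.ne r hr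
  obtain ⟨ω, hω, h1⟩ := g.ix x hx w hw hwx ρ
  by_cases h0 : ρ - ω = 0
  · exfalso
    have : ρ ∈ w := by rw [sub_eq_zero.1 h0]; exact hω
    exact g.not_mem hw hr hrw hρ hρ0 (g.self w hw this)
  obtain ⟨d, hd, h2, h3⟩ := g.hyp hw hr hrw (sub_mem (AddSubgroup.mem_sup_right hρ)
    (AddSubgroup.mem_sup_left hω)) h0
  have hdx : d ≤ pr T x := g.one hx hd h2 h0 h1
  have hdz : d ≤ pr T z := fun y hy => hxz y (hdx hy)
  have hkd : k ∈ pr T d := by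
    have : x ⊔ z ≤ pr T d := sup_le (g.sym x hx d hd hdx) (g.sym z hz d hd hdz)
    exact this hk
  have h4 : ρ - ω ∉ pr T w := by
    intro h5
    refine g.not_mem hw hr hrw hρ hρ0 ?_
    have := add_mem h5 (g.self w hw hω)
    rwa [sub_add_cancel] at this
  have h5 : ¬ w ≤ pr T d := g.nsym hw hd fun h => h4 (h h2)
  have hω0 : ω ≠ 0 := by
    rintro rfl
    rw [sub_zero] at h1
    exact g.not_mem hx hr hrx hρ hρ0 h1
  obtain ⟨t, ht, e⟩ := g.sur d hd ω (g.not_mem hd hw h5 hω hω0) (ρ - ω) h2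
  have h6 : t ω = ρ := by rw [e]; abel
  have h7 : mp t w = r := g.ti _ (g.act d hd t ht w hw) _ hr ρ ⟨ω, hω, h6⟩ hρ hρ0
  have h8 := (g.cj d hd t ht w hw k).2 hkw
  rwa [hkd t ht, h7] at h8

/-- The kernels do not depend on the neighbour. -/
theorem injB {x z w : AddSubgroup M} (hx : x ∈ PP) (hz : z ∈ PP) (hw : w ∈ PP) (hzx : z ≤ pr T x)
    (hxz : ∀ m, m ∈ pr T x → m ∈ pr T z) (hwx : ¬ w ≤ pr T x) {k : M}
    (hk : k ∈ x ⊔ z) (hkw : k ∈ pr T w) : ∀ r ∈ PP, k ∈ pr T r := by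
  intro r hr
  by_cases hrx : r ≤ pr T x
  · have hrz : r ≤ pr T z := fun y hy => hxz y (hrx hy)
    have : x ⊔ z ≤ pr T r := sup_le (g.sym x hx r hr hrx) (g.sym z hz r hr hrz)
    exact this hk
  by_cases hrw : r ≤ pr T w
  · obtain ⟨ω, hω, hω0⟩ := g.ne w hw
    obtain ⟨ξ, hξ, hξ0⟩ := g.ne x hx
    have hωx : ω ∉ pr T x := g.not_mem hx hw hwx hω hω0
    obtain ⟨t, ht, e⟩ := g.sur x hx ω hωx ξ hξ
    have h1 : ω + ξ ∉ pr T x := by
      rwa [AddSubgroup.add_mem_cancel_right _ (g.self x hx hξ)]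
    have h0 : ω + ξ ≠ 0 := fun h => h1 (h ▸ zero_mem _)
    have hw' : mp t w ∈ PP := g.act x hx t ht w hw
    have h2 : ω + ξ ∈ mp t w := ⟨ω, hω, e⟩
    have h3 : ¬ mp t w ≤ pr T x := by rwa [g.iff_one hx hw' h2 h0]
    have h4 : ¬ r ≤ pr T (mp t w) := by
      apply g.nsym hr hw'
      rw [g.iff_one hr hw' h2 h0, AddSubgroup.add_mem_cancel_left _ (g.sym w hw r hr hrw hω)]
      exact g.not_mem hr hx (g.nsym hx hr hrx) hξ hξ0
    have hkx : k ∈ pr T x := (sup_le (g.self x hx) hzx : x ⊔ z ≤ pr T x) hk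
    have h5 : k ∈ pr T (mp t w) := by
      have := (g.cj x hx t ht w hw k).2 hkw
      rwa [hkx t ht] at this
    exact g.injA hx hz hw' hr hxz h3 hrx h4 hk h5
  · exact g.injA hx hz hw hr hxz hwx hrx hrw hk hkw

/-- **The forbidden product.** -/
theorem inj {x z : AddSubgroup M} (hx : x ∈ PP) (hz : z ∈ PP) (hne : x ≠ z) (hzx : z ≤ pr T x)
    (hxz : ∀ m, m ∈ pr T x → m ∈ pr T z) (hC : Cn PP T x z) :
    ∃ t ∈ T x, ∃ t' ∈ T z, (∀ m, ∀ r ∈ PP, t' (t m) - m ∈ pr T r) ∧ ∃ m, t' (t m) ≠ m := by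
  obtain ⟨w, hw, hwx, hwz⟩ := hC
  obtain ⟨ω, hω, hω0⟩ := g.ne w hw
  obtain ⟨ξ, hξ, hξ0⟩ := g.ne x hx
  obtain ⟨ζ, hζ, h1⟩ := g.ix w hw z hz (g.nsym hz hw hwz) ξ
  obtain ⟨t, ht, e⟩ := g.sur x hx ω (g.not_mem hx hw hwx hω hω0) ξ hξ
  obtain ⟨t', ht', e'⟩ := g.sur z hz ω (g.not_mem hz hw hwz hω hω0) (-ζ) (neg_mem hζ)
  have hxz' : x ≤ pr T z := g.sym x hx z hz hzx
  have e2 : t' (t ω) = ω + (ξ - ζ) := by
    rw [e, map_add, e', hxz' hξ t' ht']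
    abel
  have hy : mp t' (mp t w) ∈ PP := g.act z hz t' ht' _ (g.act x hx t ht w hw)
  have h2 : t' (t ω) ∈ mp t' (mp t w) := ⟨t ω, ⟨ω, hω, rfl⟩, rfl⟩
  have h20 : t' (t ω) ≠ 0 := by
    intro h
    exact hω0 (t.injective (t'.injective (by rw [h, map_zero, map_zero])))
  have h3 : mp t' (mp t w) ≤ pr T w := by
    refine g.one hw hy h2 h20 ?_
    rw [e2]
    exact add_mem (g.self w hw hω) h1
  refine ⟨t, ht, t', ht', fun m r hr => ?_, ω, ?_⟩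
  · obtain ⟨ω', hω', h4⟩ := g.ix x hx w hw hwx m
    have h5 : t' (t (m - ω')) = m - ω' := by rw [h4 t ht, hxz _ h4 t' ht']
    rw [map_sub, map_sub, sub_eq_iff_eq_add] at h5
    have h6 : t' (t m) - m = t' (t ω') - ω' := by
      rw [h5]; abel
    rw [h6]
    refine g.injB hx hz hw hzx hxz hwx ?_ ?_ r hr
    · have h7 : t' (t ω') - ω' = (t ω' - ω') + (t' ω' - ω') := by
        have h8 : t' (t ω' - ω') = t ω' - ω' := hxz' (g.mem x hx t ht ω') t' ht'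
        rw [map_sub] at h8
        have h9 : t' (t ω') = t ω' - ω' + t' ω' := by rw [← h8]; abel
        rw [h9]; abel
      rw [h7]
      exact add_mem (AddSubgroup.mem_sup_left (g.mem x hx t ht ω'))
        (AddSubgroup.mem_sup_right (g.mem z hz t' ht' ω'))
    · exact sub_mem (h3 ⟨t ω', ⟨ω', hω', rfl⟩, rfl⟩) (g.self w hw hω')
  · rw [e2]
    intro h
    have h4 : ξ - ζ = 0 := by simpa using h
    have h5 : ξ = ζ := sub_eq_zero.1 h4
    exact hne (g.ti x hx z hz ξ hξ (h5 ▸ hζ) hξ0)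

end Geo

/-- The geometry with lines. -/
structure GeoL (PP : Set (AddSubgroup M)) (T : AddSubgroup M → Set (M ≃+ M)) : Prop extends Geo PP T where
  o2 : ∀ x ∈ PP, ∀ z ∈ PP, ∀ t ∈ T x, ∀ t' ∈ T z, (∀ m, ∀ r ∈ PP, t' (t m) - m ∈ pr T r) → ∀ m, t' (t m) = m
  line : ∀ x ∈ PP, ∃ y ∈ PP, x ≠ y ∧ Col PP T x y
  nbr : ∀ x ∈ PP, ∃ s ∈ PP, ¬ s ≤ pr T x
  top : ∀ m, m ∈ sSup PP

namespace GeoL

variable (g : GeoL PP T)
include g

/-- points outside the component of `x` are perpendicular to the points of the component -/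
theorem out {x z r : AddSubgroup M} (hx : x ∈ PP) (hz : z ∈ PP) (hr : r ∈ PP) (hC : Cn PP T x z)
    (hout : ¬ Cn PP T x r) : r ≤ pr T z := by
  by_contra h
  exact hout (g.cn_step hx hz hr hC h)

theorem cn_refl {x : AddSubgroup M} (hx : x ∈ PP) : Cn PP T x x := by
  obtain ⟨s, hs, h1⟩ := g.nbr x hx
  exact ⟨s, hs, h1, h1⟩

/-- `M = M_C + (x^⊥ ∩ z^⊥)`, `x, z ∈ C` -/
theorem split {x z : AddSubgroup M} (hx : x ∈ PP) (hz : z ∈ PP) (hC : Cn PP T x z) (m : M) :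
    ∃ c ∈ MC PP T x, m - c ∈ pr T x ∧ m - c ∈ pr T z := by
  have h1 : sSup PP ≤ MC PP T x ⊔ (pr T x ⊓ pr T z) := by
    refine sSup_le fun r hr => ?_
    by_cases h : Cn PP T x r
    · exact (le_MC hr h).trans le_sup_left
    · exact (le_inf (g.out hx hx hr (g.cn_refl hx) h) (g.out hx hz hr hC h)).trans le_sup_right
  obtain ⟨c, hc, d, hd, rfl⟩ := AddSubgroup.mem_sup.1 (h1 (g.top m))
  exact ⟨c, hc, by simpa using hd.1, by simpa using hd.2⟩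

/-- It is enough to test points. -/
theorem perp_of_pts {x z : AddSubgroup M} (hx : x ∈ PP) (hz : z ∈ PP) (hC : Cn PP T x z)
    (h : ∀ r ∈ PP, r ≤ pr T x → r ≤ pr T z) : ∀ m, m ∈ pr T x → m ∈ pr T z := by
  intro m hm
  obtain ⟨c, hc, h1, h2⟩ := g.split hx hz hC m
  obtain ⟨a, ha, hax, -⟩ := hC
  have h3 : c ∈ pr T x := by
    have := sub_mem hm h1
    rwa [sub_sub_cancel] at this
  have h4 : XC PP T x ≤ pr T z := sSup_le fun r hr => h r hr.1 hr.2.2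
  have h5 := h4 (g.gen hx ha hax hc h3)
  have := add_mem h2 h5
  rwa [sub_add_cancel] at this

/-- different points have different perps -/
theorem sep {x z : AddSubgroup M} (hx : x ∈ PP) (hz : z ∈ PP) (hne : x ≠ z) (hC : Cn PP T x z) :
    ∃ r ∈ PP, r ≤ pr T x ∧ ¬ r ≤ pr T z := by
  by_contra hcon
  push Not at hcon
  have hzx : z ≤ pr T x := g.sym z hz x hx (hcon x hx (g.self x hx))
  obtain ⟨t, ht, t', ht', h5, m, h6⟩ := g.inj hx hz hne hzx (g.perp_of_pts hx hz hC hcon) hC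
  exact h6 (g.o2 x hx z hz t ht t' ht' h5 m)

/-- **(5)** Perpendicular points of one component are collinear. -/
theorem col {x z : AddSubgroup M} (hx : x ∈ PP) (hz : z ∈ PP) (hne : x ≠ z) (hC : Cn PP T x z)
    (hzx : z ≤ pr T x) : Col PP T x z := by
  by_contra hbad
  -- `z` is perpendicular to all points collinear to `x`
  have bad : ∀ y ∈ PP, Col PP T x y → y ≤ pr T z := by
    intro y hy hxy
    by_contra h
    exact hbad (g.col_of hx hy hz hxy hzx (g.nsym hz hy h))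
  obtain ⟨y₀, hy₀, hne₀, hc₀⟩ := g.line x hx
  have hn₀ : Cn PP T x y₀ := g.cn_of_col hx hy₀ hne₀ hc₀ (g.nbr x hx) (g.nbr y₀ hy₀)
  obtain ⟨x₁, hx₁, h1, h2⟩ := g.sep hx hy₀ hne₀ hn₀
  have hc₁ : Col PP T x x₁ := g.col_of hx hy₀ hx₁ hc₀ h1 h2
  have hzy₀ : y₀ ≤ pr T z := bad y₀ hy₀ hc₀
  have hzx₁ : x₁ ≤ pr T z := bad x₁ hx₁ hc₁
  have hn₁ : Cn PP T x x₁ := g.cn_step hx hy₀ hx₁ hn₀ h2
  -- (5a)
  have claim : ∀ w ∈ PP, ¬ w ≤ pr T x → ¬ w ≤ pr T x₁ → w ≤ pr T z := by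
    intro w hw hwx hwx₁
    by_contra hwz
    obtain ⟨a₁, ha₁, ha₁0⟩ := g.ne x₁ hx₁
    obtain ⟨a₃, ha₃, ha₃0⟩ := g.ne x hx
    obtain ⟨ω, hω, hω0⟩ := g.ne w hw
    obtain ⟨a₂, ha₂, h3⟩ := g.ix w hw z hz (g.nsym hz hw hwz) a₁
    have hz₁ : z ≤ pr T x₁ := g.sym z hz x₁ hx₁ hzx₁
    have hx₁x : x₁ ≤ pr T x := h1
    -- `ω + a₁`
    obtain ⟨s₁, hs₁, k1, -⟩ := g.ext hw hx₁ hω (g.not_mem hx₁ hw hwx₁ hω hω0) ha₁
    obtain ⟨s₂, hs₂, k2, -⟩ := g.ext hs₁ hz k1 (by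
      rw [AddSubgroup.add_mem_cancel_right _ (hzx₁ ha₁)]
      exact g.not_mem hz hw hwz hω hω0) (neg_mem ha₂)
    obtain ⟨s₃, hs₃, k3, -⟩ := g.ext hs₂ hx k2 (by
      rw [AddSubgroup.add_mem_cancel_right _ (neg_mem (hzx ha₂)),
        AddSubgroup.add_mem_cancel_right _ (hx₁x ha₁)]
      exact g.not_mem hx hw hwx hω hω0) ha₃
    have e3 : ω + a₁ + -a₂ + a₃ = ω + (a₁ - a₂) + a₃ := by abel
    have k4 : ω + a₁ + -a₂ + a₃ ∉ pr T w := by
      rw [e3, AddSubgroup.add_mem_cancel_left _ (add_mem (g.self w hw hω) h3)]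
      exact g.not_mem hw hx (g.nsym hx hw hwx) ha₃ ha₃0
    obtain ⟨c, hc, k5, -⟩ := g.ext hs₃ hw k3 k4 (neg_mem hω)
    have e4 : ω + a₁ + -a₂ + a₃ + -ω = a₁ - a₂ + a₃ := by abel
    rw [e4] at k5
    have k6 : a₁ - a₂ + a₃ ∉ pr T w := by
      rw [AddSubgroup.add_mem_cancel_left _ h3]
      exact g.not_mem hw hx (g.nsym hx hw hwx) ha₃ ha₃0
    have k60 : a₁ - a₂ + a₃ ≠ 0 := fun h => k6 (h ▸ zero_mem _)
    have k7 : c ≤ pr T x := g.one hx hc k5 k60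
      (add_mem (sub_mem (hx₁x ha₁) (hzx ha₂)) (g.self x hx ha₃))
    have k8 : ¬ c ≤ pr T y₀ := by
      rw [g.iff_one hy₀ hc k5 k60, AddSubgroup.add_mem_cancel_right _ (g.sym x hx y₀ hy₀ hc₀.1 ha₃),
        sub_eq_add_neg, AddSubgroup.add_mem_cancel_right _ (neg_mem (g.sym z hz y₀ hy₀ hzy₀ ha₂))]
      exact g.not_mem hy₀ hx₁ h2 ha₁ ha₁0
    have hcc : Col PP T x c := g.col_of hx hy₀ hc hc₀ k7 k8
    have hzc : c ≤ pr T z := bad c hc hcc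
    -- `z ⊥ r` for all points `r ⊥ x`
    have k9 : ∀ r ∈ PP, r ≤ pr T x → r ≤ pr T z := by
      intro r hr hrx
      by_cases hrx' : r = x
      · rw [hrx']; exact g.sym x hx z hz hzx
      by_cases hcr : Col PP T x r
      · exact bad r hr hcr
      · -- `r` bad
        have b1 : x₁ ≤ pr T r := by
          by_contra h
          exact hcr (g.col_of hx hx₁ hr hc₁ hrx (g.nsym hr hx₁ h))
        have b2 : c ≤ pr T r := by
          by_contra h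
          exact hcr (g.col_of hx hc hr hcc hrx (g.nsym hr hc h))
        have b3 : x ≤ pr T r := g.sym x hx r hr hrx
        have b4 : a₂ ∈ pr T r := by
          have e5 : a₂ = a₁ + a₃ - (a₁ - a₂ + a₃) := by abel
          rw [e5]
          exact sub_mem (add_mem (b1 ha₁) (b3 ha₃)) (b2 k5)
        have ha₂0 : a₂ ≠ 0 := by
          rintro rfl
          rw [sub_zero] at h3
          exact g.not_mem hw hx₁ (g.nsym hx₁ hw hwx₁) ha₁ ha₁0 h3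
        exact g.sym r hr z hz (g.one hr hz ha₂ ha₂0 b4)
    have k10 : ∀ m, m ∈ pr T x → m ∈ pr T z := g.perp_of_pts hx hz hC k9
    obtain ⟨t, ht, t', ht', h5, m, h6⟩ := g.inj hx hz hne hzx k10 hC
    exact h6 (g.o2 x hx z hz t ht t' ht' h5 m)
  -- (5b)
  have fin : ∀ w₁ ∈ PP, ∀ w₂ ∈ PP, ¬ w₁ ≤ pr T x → ¬ w₁ ≤ pr T x₁ → ¬ w₂ ≤ pr T x → ¬ w₂ ≤ pr T z →
      ¬ w₂ ≤ pr T w₁ → False := by
    intro w₁ hw₁ w₂ hw₂ k1 k2 k3 k4 k5
    have k6 := claim w₁ hw₁ k1 k2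
    have k7 : w₂ ≤ pr T x₁ := by
      by_contra h
      exact k4 (claim w₂ hw₂ k3 h)
    obtain ⟨ω₁, hω₁, hω₁0⟩ := g.ne w₁ hw₁
    obtain ⟨ω₂, hω₂, k8⟩ := g.ix x hx w₂ hw₂ k3 ω₁
    have hω₂0 : ω₂ ≠ 0 := by
      rintro rfl
      rw [sub_zero] at k8
      exact g.not_mem hx hw₁ k1 hω₁ hω₁0 k8
    have k9 : ω₁ - ω₂ ∉ pr T z := by
      rw [sub_eq_add_neg, AddSubgroup.add_mem_cancel_left _ (k6 hω₁), neg_mem_iff]
      exact g.not_mem hz hw₂ k4 hω₂ hω₂0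
    have k90 : ω₁ - ω₂ ≠ 0 := fun h => k9 (h ▸ zero_mem _)
    obtain ⟨p, hp, k10, -⟩ := g.hyp hw₁ hw₂ k5 (sub_mem (AddSubgroup.mem_sup_left hω₁)
      (AddSubgroup.mem_sup_right hω₂)) k90
    have k11 : p ≤ pr T x := g.one hx hp k10 k90 k8
    have k12 : ¬ p ≤ pr T x₁ := by
      rw [g.iff_one hx₁ hp k10 k90, sub_eq_add_neg, AddSubgroup.add_mem_cancel_right _ (neg_mem (k7 hω₂))]
      exact g.not_mem hx₁ hw₁ k2 hω₁ hω₁0
    exact k9 (bad p hp (g.col_of hx hx₁ hp hc₁ k11 k12) k10)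
  obtain ⟨w₁, hw₁, k1, k2⟩ := hn₁
  obtain ⟨w₂, hw₂, k3, k4⟩ := hC
  by_cases k5 : w₂ ≤ pr T w₁
  · obtain ⟨ω₁, hω₁, hω₁0⟩ := g.ne w₁ hw₁
    obtain ⟨ξ, hξ, hξ0⟩ := g.ne x hx
    have k6 : ω₁ + ξ ∉ pr T x := by
      rw [AddSubgroup.add_mem_cancel_right _ (g.self x hx hξ)]
      exact g.not_mem hx hw₁ k1 hω₁ hω₁0
    have k60 : ω₁ + ξ ≠ 0 := fun h => k6 (h ▸ zero_mem _)
    obtain ⟨w, hw, k7, -⟩ := g.ext hw₁ hx hω₁ (g.not_mem hx hw₁ k1 hω₁ hω₁0) hξ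
    have k8 : ¬ w ≤ pr T x₁ := by
      rw [g.iff_one hx₁ hw k7 k60, AddSubgroup.add_mem_cancel_right _ (g.sym x hx x₁ hx₁ hc₁.1 hξ)]
      exact g.not_mem hx₁ hw₁ k2 hω₁ hω₁0
    refine fin w hw w₂ hw₂ (by rwa [g.iff_one hx hw k7 k60]) k8 k3 k4 ?_
    apply g.nsym hw₂ hw
    rw [g.iff_one hw₂ hw k7 k60, AddSubgroup.add_mem_cancel_left _ (g.sym w₁ hw₁ w₂ hw₂ k5 hω₁)]
    exact g.not_mem hw₂ hx (g.nsym hx hw₂ k3) hξ hξ0
  · exact fin w₁ hw₁ w₂ hw₂ k1 k2 k3 k4 k5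

/-- `x + z` is a union of points for all `x ≠ z` in one component. -/
theorem sup_pts {x z : AddSubgroup M} (hx : x ∈ PP) (hz : z ∈ PP) (hC : Cn PP T x z) {v : M} (hv : v ∈ x ⊔ z)
    (hv0 : v ≠ 0) : ∃ s ∈ PP, v ∈ s ∧ s ≤ x ⊔ z := by
  by_cases hne : x = z
  · subst hne
    rw [sup_idem] at hv ⊢
    exact ⟨x, hx, hv, le_rfl⟩
  by_cases h : z ≤ pr T x
  · exact (g.col hx hz hne hC h).2 v hv hv0
  · exact g.hyp hx hz h hv hv0

/-- **(6)** Every nonzero vector of `M_C` lies in a point of `C`. -/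
theorem vec {x : AddSubgroup M} (hx : x ∈ PP) : ∀ m ∈ MC PP T x, m ≠ 0 → ∃ s ∈ PP, Cn PP T x s ∧ m ∈ s := by
  -- points in `M_C` are in `C`
  have hin : ∀ s ∈ PP, s ≤ MC PP T x → Cn PP T x s := by
    intro s hs hle
    by_contra hout
    obtain ⟨a, ha, has, -⟩ := g.cn_refl hs
    have h1 : ¬ Cn PP T x a := fun h => hout (g.cn_step hx ha hs h (g.nsym hs ha has))
    have h2 : MC PP T x ≤ pr T a := by
      refine sSup_le fun r hr => ?_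
      exact g.sym r hr.1 a ha (g.out hx hr.1 ha hr.2 h1)
    exact g.nsym hs ha has (hle.trans h2)
  have key : ∀ m ∈ MC PP T x, m = 0 ∨ ∃ s ∈ PP, Cn PP T x s ∧ m ∈ s := by
    intro m hm
    rw [MC, sSup_eq_iSup'] at hm
    refine AddSubgroup.iSup_induction (fun r : {r | r ∈ PP ∧ Cn PP T x r} => (r : AddSubgroup M))
      (C := fun m => m = 0 ∨ ∃ s ∈ PP, Cn PP T x s ∧ m ∈ s) hm ?_ (Or.inl rfl) ?_
    · intro r m hm
      exact Or.inr ⟨r, r.2.1, r.2.2, hm⟩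
    · rintro a b (rfl | ⟨s, hs, h1, h2⟩) (rfl | ⟨u, hu, h3, h4⟩)
      · left; simp
      · right; rw [zero_add]; exact ⟨u, hu, h3, h4⟩
      · right; rw [add_zero]; exact ⟨s, hs, h1, h2⟩
      · by_cases h0 : a + b = 0
        · exact Or.inl h0
        · obtain ⟨p, hp, h5, h6⟩ := g.sup_pts hs hu (g.cn_trans hs hx hu h1.symm h3)
            (add_mem (AddSubgroup.mem_sup_left h2) (AddSubgroup.mem_sup_right h4)) h0
          refine Or.inr ⟨p, hp, hin p hp (h6.trans (sup_le (le_MC hs h1) (le_MC hu h3))), h5⟩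
  intro m hm hm0
  rcases key m hm with h | h
  · exact absurd h hm0
  · exact h

end GeoL

/-- a subgroup inside a union of two subgroups -/
theorem le_or_le {X A B : AddSubgroup M} (h : ∀ x ∈ X, x ∈ A ∨ x ∈ B) : X ≤ A ∨ X ≤ B := by
  by_contra hcon
  push Not at hcon
  obtain ⟨h1, h2⟩ := hcon
  obtain ⟨u, hu, hu1⟩ := SetLike.not_le_iff_exists.1 h1
  obtain ⟨v, hv, hv1⟩ := SetLike.not_le_iff_exists.1 h2
  have hu2 : u ∈ B := (h u hu).resolve_left hu1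
  have hv2 : v ∈ A := (h v hv).resolve_right hv1
  rcases h (u + v) (add_mem hu hv) with h3 | h3
  · exact hu1 ((AddSubgroup.add_mem_cancel_right _ hv2).1 h3)
  · exact hv1 ((AddSubgroup.add_mem_cancel_left _ hu2).1 h3)

/-- One component. -/
structure GeoO (PP : Set (AddSubgroup M)) (T : AddSubgroup M → Set (M ≃+ M)) : Prop extends GeoL PP T where
  cn : ∀ x ∈ PP, ∀ z ∈ PP, Cn PP T x z
  nonempty : PP.Nonempty

namespace GeoO

variable (g : GeoO PP T)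
include g

/-- Every nonzero vector is in a point. -/
theorem vect (m : M) (hm : m ≠ 0) : ∃ s ∈ PP, m ∈ s := by
  obtain ⟨x, hx⟩ := g.nonempty
  have h1 : sSup PP ≤ MC PP T x := sSup_le fun r hr => le_MC hr (g.cn x hx r hr)
  obtain ⟨s, hs, -, h⟩ := g.vec hx m (h1 (g.top m)) hm
  exact ⟨s, hs, h⟩

/-- **(4)(a)** -/
theorem inv {x : AddSubgroup M} (hx : x ∈ PP) {A : AddSubgroup M}
    (hT : ∀ p ∈ PP, p ≤ pr T x → ∀ t ∈ T p, ∀ a ∈ A, t a ∈ A) : A ≤ x ∨ pr T x ≤ A := by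
  let A' : AddSubgroup M := ⨅ s : {s : AddSubgroup M // s ∈ PP ∧ ∃ a ∈ A, a ≠ 0 ∧ a ∈ s}, pr T s
  have h1 : ∀ m ∈ pr T x, m ∈ A ∨ m ∈ A' := by
    intro m hm
    by_cases hm0 : m = 0
    · exact Or.inl (hm0 ▸ zero_mem _)
    obtain ⟨p, hp, hmp⟩ := g.vect m hm0
    have hpx : p ≤ pr T x := g.one hx hp hmp hm0 hm
    by_cases hAp : A ≤ pr T p
    · right
      refine AddSubgroup.mem_iInf.2 ?_
      rintro ⟨s, hs, a, ha, ha0, has⟩
      exact g.sym p hp s hs (g.one hp hs has ha0 (hAp ha)) hmp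
    · left
      obtain ⟨a, ha, hap⟩ := SetLike.not_le_iff_exists.1 hAp
      obtain ⟨t, ht, e⟩ := g.sur p hp a hap m hmp
      have h2 := hT p hp hpx t ht a ha
      rw [e, AddSubgroup.add_mem_cancel_left _ ha] at h2
      exact h2
  rcases le_or_le h1 with h2 | h2
  · exact Or.inr h2
  · left
    intro a ha
    by_cases ha0 : a = 0
    · rw [ha0]; exact zero_mem _
    obtain ⟨s, hs, has⟩ := g.vect a ha0
    by_contra hax
    have hne : x ≠ s := fun e => hax (e ▸ has)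
    obtain ⟨r, hr, h3, h4⟩ := g.sep hx hs hne (g.cn x hx s hs)
    exact h4 ((h3.trans h2).trans (iInf_le _ (⟨s, hs, a, ha, ha0, has⟩ :
      {s : AddSubgroup M // s ∈ PP ∧ ∃ a ∈ A, a ≠ 0 ∧ a ∈ s})))

/-- for `y, y' ≠ x` there is a point in `x^⊥` which is not perpendicular to `y`, `y'` -/
theorem two {x y y' : AddSubgroup M} (hx : x ∈ PP) (hy : y ∈ PP) (hy' : y' ∈ PP) (h : x ≠ y) (h' : x ≠ y') :
    ∃ p ∈ PP, p ≤ pr T x ∧ ¬ p ≤ pr T y ∧ ¬ p ≤ pr T y' := by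
  have key : ∃ m ∈ pr T x, m ∉ pr T y ∧ m ∉ pr T y' := by
    by_contra hcon
    push Not at hcon
    have h1 : ∀ m ∈ pr T x, m ∈ pr T y ∨ m ∈ pr T y' := fun m hm => or_iff_not_imp_left.2 (hcon m hm)
    rcases le_or_le h1 with h2 | h2
    · obtain ⟨r, hr, h3, h4⟩ := g.sep hx hy h (g.cn x hx y hy)
      exact h4 (h3.trans h2)
    · obtain ⟨r, hr, h3, h4⟩ := g.sep hx hy' h' (g.cn x hx y' hy')
      exact h4 (h3.trans h2)
  obtain ⟨m, hm, h1, h2⟩ := key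
  have hm0 : m ≠ 0 := fun e => h1 (e ▸ zero_mem _)
  obtain ⟨p, hp, hmp⟩ := g.vect m hm0
  exact ⟨p, hp, g.one hx hp hmp hm0 hm, fun h3 => h1 (h3 hmp), fun h3 => h2 (h3 hmp)⟩

/-- An automorphism of the geometry fixing `x^⊥` pointwise moves every vector inside `x`. -/
theorem tv {x : AddSubgroup M} (hx : x ∈ PP) {φ : M ≃+ M}
    (hT : ∀ r ∈ PP, mp φ r = r → ∀ t ∈ T r, ∃ t' ∈ T r, ∀ m, t' (φ m) = φ (t m))
    (hreg : ∀ r ∈ PP, ∀ t ∈ T r, ∀ t' ∈ T r, ∀ m, m ∉ pr T r → t m = t' m → ∀ m', t m' = t' m')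
    (hφ : ∀ m ∈ pr T x, φ m = m) (m : M) : φ m - m ∈ x := by
  have key : ∀ r ∈ PP, r ≤ pr T x → r ≠ x → φ m - m ∈ pr T r := by
    intro r hr hrx hne t ht
    have h1 : mp φ r = r := by
      ext y
      rw [mem_mp]
      constructor
      · rintro ⟨z, hz, rfl⟩
        rw [hφ z (hrx hz)]; exact hz
      · intro hy
        exact ⟨y, hy, hφ y (hrx hy)⟩
    obtain ⟨t', ht', h2⟩ := hT r hr h1 t ht
    obtain ⟨r', hr', h3, h4⟩ := g.sep hx hr hne.symm (g.cn x hx r hr)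
    obtain ⟨m₀, hm₀, hm₀'⟩ := SetLike.not_le_iff_exists.1 h4
    have h5 : t' m₀ = t m₀ := by
      have h6 := h2 m₀
      rw [hφ m₀ (h3 hm₀)] at h6
      rw [h6]
      refine hφ _ ?_
      have h7 : t m₀ = m₀ + (t m₀ - m₀) := by abel
      rw [h7]
      exact add_mem (h3 hm₀) (hrx (g.mem r hr t ht m₀))
    have h6 : ∀ m, t' m = t m := hreg r hr t' ht' t ht m₀ hm₀' h5
    have h7 : t (φ m) = φ (t m) := by rw [← h6, h2]
    have h8 : φ (t m - m) = t m - m := hφ _ (hrx (g.mem r hr t ht m))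
    rw [map_sub] at h8
    rw [map_sub, h7]
    have : φ (t m) = t m - m + φ m := by rw [← h8]; abel
    rw [this]; abel
  by_cases h0 : φ m - m = 0
  · rw [h0]; exact zero_mem _
  obtain ⟨s, hs, hms⟩ := g.vect _ h0
  by_contra hcon
  have hne : x ≠ s := fun e => hcon (e ▸ hms)
  obtain ⟨r, hr, h1, h2⟩ := g.sep hx hs hne (g.cn x hx s hs)
  apply h2
  by_cases hrx : r = x
  · subst hrx
    -- `x` is generated by other points
    obtain ⟨y, hy, hxy, hcol⟩ := g.line r hr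
    obtain ⟨η, hη, hη0⟩ := g.ne y hy
    intro ξ hξ
    by_cases hξ0 : ξ = 0
    · rw [hξ0]; exact zero_mem _
    have h0' : ξ + η ≠ 0 := by
      intro e
      have h5 : ξ = -η := eq_neg_of_add_eq_zero_left e
      exact hxy (g.ti r hr y hy ξ hξ (h5 ▸ neg_mem hη) hξ0)
    obtain ⟨z, hz, hz1, hz2⟩ := hcol.2 (ξ + η)
      (add_mem (AddSubgroup.mem_sup_left hξ) (AddSubgroup.mem_sup_right hη)) h0'
    have hzr : z ≠ r := by
      intro e
      rw [e] at hz1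
      have h6 : η ∈ r := (AddSubgroup.add_mem_cancel_left _ hξ).1 hz1
      exact hxy (g.ti r hr y hy η h6 hη hη0)
    have hzx : z ≤ pr T r := hz2.trans (sup_le h1 hcol.1)
    have k1 : y ≤ pr T s := g.sym y hy s hs (g.one hy hs hms h0 (key y hy hcol.1 hxy.symm))
    have k2 : z ≤ pr T s := g.sym z hz s hs (g.one hz hs hms h0 (key z hz hzx hzr))
    have : ξ = (ξ + η) - η := by abel
    rw [this]
    exact sub_mem (k2 hz1) (k1 hη)
  · exact g.sym r hr s hs (g.one hr hs hms h0 (key r hr h1 hrx))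

end GeoO

end Cfsg.Agent.Omega.NO3S.EThree.PtGeo
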