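import Cfsg.Agent.Omega.NO3S.EThree.TPlug
import Cfsg.Agent.Omega.NO3S.EThree.NoQOf
import Cfsg.Agent.Omega.OM.PG.PcK

/-!
# `CoreP` (`O_2(H_1 / C(N_1)) = 1` for squares) from `Bg`, `k = 2`
-/

set_option autoImplicit false
set_option linter.unusedSectionVars false

namespace Cfsg.Agent.Omega.NO3S.EThree

open Subgroup Cfsg Cfsg.Agent.ZN.ChoiceBase
open Cfsg.Agent.Omega.NO3S.EThree.Frame
open Cfsg.Agent.Omega.OM
open scoped Pointwise

universe u

variable {G : Type u} [Group G]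

/-- `CoreP` from `Bg`. -/
theorem CoreP.of_bg [Finite G] {S : Sylow 2 G} {P B ZJ : Subgroup G} {L W Z C : Fin 2 → Subgroup G} {q : ℕ}
    (h : Bg S P B ZJ L W Z C q) : PG.PcK.CoreP Z := by
  obtain ⟨s, p⟩ := BgQ.partner h (i := 0) (j := 1) (by decide)
  have e1 : ![Z 0, Z 1] = Z := by
    funext i
    have h2 : ∀ a : Fin 2, a = 0 ∨ a = 1 := by decide
    rcases h2 i with rfl | rfl <;> rfl
  intro J hJ hn hsq
  have h1 := h.core_sq p (J := J) hJ hn (by rw [e1]; exact hsq)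
  rwa [e1] at h1

end Cfsg.Agent.Omega.NO3S.EThree
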