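import Cfsg.Agent.Omega.NO3S.EThree.NrTwoQ
import Cfsg.Agent.Omega.OM.PG.PcQ
import Cfsg.Agent.Omega.OM.WeakCl
import Cfsg.Agent.ZN.CaseTwo
import Cfsg.Agent.PLocal.OffenderStep

/-!
# LEMMA 0 and STEP F over the frame `FQ` (`k = 2`, all `q`), from the weak form of UNI

* `Uni0 Z U B` : a minimal parabolic over a Sylow 2-subgroup `T ≥ B` of `C_G(Z 0)` which moves `Z 1` normalises `U 1`;
* `NbQ Z B` : `N(Z 0) ∩ N(T) ≤ N(Z 1)` for 2-groups `T ≥ B`;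
* `gen` : `N(Z 0) = ⟨N(Z 0) ∩ N(Z 1), N(Z 0) ∩ N(U 1)⟩`;
* **`l0`** : LEMMA 0; **`done`** : a normal subgroup `K ≤ C(Z 0)` of `N(Z 0)` with a 2-element moving `N_1` does not
  normalise `U 0` (STEP F).
-/

set_option autoImplicit false
set_option linter.unusedSectionVars false

namespace Cfsg.Agent.Omega.NO3S.EThree.DoneU

open Subgroup Cfsg Cfsg.Agent.ZN Cfsg.Agent.Omega.MinPar
open Cfsg.Agent.Omega.NoFF.Basic (conj_conj mem_conj conj_le_iff conj_le_centralizer comm_symm comm_mono)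
open Cfsg.Agent.Omega.NOThreeL.Pair (conj_eq_of_mem)
open Cfsg.Agent.Omega.OM.PG Cfsg.Agent.Omega.OM.PG.PeelQ
open Cfsg.Agent.Omega.NO3S.EThree.ExactA (eab_iff eab_mono)
open Cfsg.Agent.ZN.ChoiceBase (cj mem_normalizer_iff_cj cj_cj card_cj)
open Cfsg.Agent.ZN.ChoiceSit (Syl exists_syl syl_conj)
open Cfsg.Agent.MinSimple.MinParabolic (IsMinPar)
open scoped Pointwise

universe u

variable {G : Type u} [Group G]

/-- **UNI, weak form.** -/
def Uni0 (Z U : Fin 2 → Subgroup G) (B : Subgroup G) : Prop :=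
  ∀ T : Subgroup G, B ≤ T → Syl T (centralizer (Z 0 : Set G)) → ∀ R : Subgroup G, IsMinPar T R →
    R ≤ centralizer (Z 0 : Set G) → ¬ R ≤ normalizer (Z 1 : Set G) → R ≤ normalizer (U 1 : Set G)

/-- the normalizer of a 2-group over `B` -/
def NbQ (Z : Fin 2 → Subgroup G) (B : Subgroup G) : Prop :=
  ∀ T : Subgroup G, IsPGroup 2 T → B ≤ T → HH (Z 0) ⊓ normalizer (T : Set G) ≤ HH (Z 1)

/-- the normalizer of a weakly closed group -/
theorem nbQ_of {Z : Fin 2 → Subgroup G} {B : Subgroup G} (hw : OM.WeakCl.WC B)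
    (hn : HH (Z 0) ⊓ normalizer (B : Set G) ≤ HH (Z 1)) : NbQ Z B := by
  rintro T hT hBT g ⟨hg0, hgT⟩
  refine hn ⟨hg0, mem_normalizer_iff_cj.2 (hw T hT hBT g ?_)⟩
  have h1 := ChoiceBase.cj_mono g hBT
  rwa [mem_normalizer_iff_cj.1 hgT] at h1

variable {Z U : Fin 2 → Subgroup G}

/-- a point of `U 1` is adjacent to `Z 0` -/
theorem adj_of_le (P : PP Z U) {p : Subgroup G} (hp : IsPt Z p) (h : p ≤ U 1) : Adj Z (Z 0) p := by
  obtain ⟨s, hs0, hs1, hs2, hs3⟩ := P.swap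
  obtain ⟨k, rfl⟩ := hp
  have h1 : MulAut.conj (s⁻¹ * k) • Z 0 ≤ U 0 := by
    have := conj_le_iff (g := s⁻¹) |>.2 h
    rwa [conj_conj, ← hs2, inv_conj_conj] at this
  obtain ⟨l, hl0, hl1, hl2, hl3⟩ := P.tr _ h1
  have e : MulAut.conj k • Z 0 = MulAut.conj (s * l) • Z 0 := by
    rw [← conj_conj, hl0, conj_conj, mul_inv_cancel_left]
  refine P.adj_symm ⟨s * l, e, ?_⟩
  rw [← conj_conj, hl1, hs1]

variable {B : Subgroup G} {q : ℕ} (D : FQ Z U B q) [Finite G]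
include D

theorem pts1 {v : G} (hv : v ∈ U 1) (hv1 : v ≠ 1) : ∃ p, IsPt Z p ∧ p ≤ U 1 ∧ v ∈ p := by
  obtain ⟨s, hs0, hs1, hs2, hs3⟩ := D.swap
  rw [← hs2] at hv
  obtain ⟨x, hx, rfl⟩ := hv
  have hx1 : x ≠ 1 := by
    rintro rfl
    exact hv1 (map_one _)
  obtain ⟨k, hk, hxk⟩ := D.pts x hx hx1
  refine ⟨MulAut.conj s • (MulAut.conj k • Z 0), IsPt.conj ⟨k, rfl⟩ s, ?_, ⟨x, hxk, rfl⟩⟩
  rw [← hs2]
  exact conj_le_iff.2 hk

/-- a 2-element fixing all points of `U 1` centralises `U 1` -/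
theorem cent_of_pts {y : G} (hy2 : IsPGroup 2 (zpowers y))
    (hy : ∀ p, IsPt Z p → p ≤ U 1 → MulAut.conj y • p = p) : y ∈ centralizer (U 1 : Set G) := by
  have : Fact (Nat.Prime 2) := ⟨Nat.prime_two⟩
  have hab : ∀ a ∈ U 1, ∀ b ∈ U 1, a * b = b * a := fun a ha b hb =>
    mem_centralizer_iff.1 ((eab_iff.1 (D.eU 1)).1 hb) a ha
  have hle : MulAut.conj y • U 1 ≤ U 1 := by
    rintro _ ⟨v, hv, rfl⟩
    change y * v * y⁻¹ ∈ U 1
    by_cases hv1 : v = 1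
    · rw [hv1, mul_one, mul_inv_cancel]
      exact one_mem _
    obtain ⟨p, hp, hpU, hvp⟩ := pts1 D hv hv1
    exact hpU (hy p hp hpU ▸ (⟨v, hvp, rfl⟩ : y * v * y⁻¹ ∈ MulAut.conj y • p))
  have hyn : y ∈ normalizer (U 1 : Set G) :=
    mem_normalizer_iff_cj.2 (Subgroup.eq_of_le_of_card_ge hle (card_cj y (U 1)).ge)
  have hne : U 1 ≠ ⊥ := by
    intro e
    obtain ⟨x, hx, hxZ⟩ := D.exists_ne_Z 1
    rw [e, mem_bot] at hx
    exact hxZ (hx ▸ one_mem _)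
  have h1 := PLocal.OffenderStep.inf_centralizer_ne_bot (U 1) (zpowers y) (D.B2.to_le (D.U_le_B 1)) hy2
    (zpowers_le.2 hyn) hne
  obtain ⟨v, ⟨hvU, hvy⟩, hv1⟩ := (Subgroup.bot_or_exists_ne_one _).resolve_left h1
  have hyv : y * v = v * y := mem_centralizer_iff.1 hvy y (mem_zpowers y)
  obtain ⟨p, hp, hpU, hvp⟩ := pts1 D hvU hv1
  have key : ∀ w ∈ U 1, w ∉ p → y * w = w * y := by
    intro w hw hwp
    have hw1 : w ≠ 1 := by
      rintro rfl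
      exact hwp (one_mem _)
    have hvw1 : v * w ≠ 1 := by
      intro e
      exact hwp (by rw [← inv_eq_of_mul_eq_one_right e]; exact inv_mem hvp)
    obtain ⟨s, hs, hsU, hws⟩ := pts1 D hw hw1
    obtain ⟨r, hr, hrU, hvwr⟩ := pts1 D (mul_mem hvU hw) hvw1
    have h2 : y * w * y⁻¹ * w⁻¹ ∈ s :=
      mul_mem (hy s hs hsU ▸ (⟨w, hws, rfl⟩ : y * w * y⁻¹ ∈ MulAut.conj y • s)) (inv_mem hws)
    have h3 : y * (v * w) * y⁻¹ * (v * w)⁻¹ ∈ r :=
      mul_mem (hy r hr hrU ▸ (⟨v * w, hvwr, rfl⟩ : y * (v * w) * y⁻¹ ∈ MulAut.conj y • r)) (inv_mem hvwr)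
    have e : y * (v * w) * y⁻¹ * (v * w)⁻¹ = y * w * y⁻¹ * w⁻¹ := by
      have h4 := hab v hvU _ (hsU h2)
      calc y * (v * w) * y⁻¹ * (v * w)⁻¹ = (y * v) * y⁻¹ * (y * w * y⁻¹ * w⁻¹) * v⁻¹ := by group
        _ = v * (y * w * y⁻¹ * w⁻¹) * v⁻¹ := by rw [hyv]; group
        _ = _ := by rw [h4]; group
    by_contra hne
    have h5 : y * w * y⁻¹ * w⁻¹ ≠ 1 := fun h6 => hne (by
      rwa [mul_inv_eq_one, mul_inv_eq_iff_eq_mul] at h6)
    have h6 : s = r := D.ti s r hs hr _ h2 (e ▸ h3) h5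
    subst h6
    have h7 : v ∈ s := by
      have := mul_mem hvwr (inv_mem hws)
      rwa [mul_inv_cancel_right] at this
    have h8 : s = p := D.ti s p hs hp v h7 hvp hv1
    exact hwp (h8 ▸ hws)
  -- an element outside `p`
  obtain ⟨w₀, hw₀, hw₀p⟩ : ∃ w ∈ U 1, w ∉ p := by
    by_contra hcon
    push Not at hcon
    obtain ⟨x, hx, hxZ⟩ := D.exists_ne_Z 1
    obtain ⟨z, hz, hz1⟩ := (Subgroup.bot_or_exists_ne_one (Z 1)).resolve_left (by
      intro e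
      have h2 := D.cardZ 0
      rw [← D.cardZ 1, e, Subgroup.card_bot] at h2
      exact D.ne (Subgroup.card_eq_one.1 h2))
    have h2 : p = Z 1 := D.ti p (Z 1) hp (D.pt 1) z (hcon z (D.ZU' 1 hz)) hz hz1
    exact hxZ (h2 ▸ hcon x hx)
  refine mem_centralizer_iff.2 fun w hw => ?_
  by_cases hwp : w ∈ p
  · have h2 : w * w₀ ∉ p := fun h => hw₀p (by
      have := mul_mem (inv_mem hwp) h
      rwa [inv_mul_cancel_left] at this)
    have h3 := key _ (mul_mem hw hw₀) h2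
    have h4 := key _ hw₀ hw₀p
    have h5 : w * y * w₀ = y * w * w₀ := by
      rw [mul_assoc, h4, ← mul_assoc, ← h3, mul_assoc]
    exact mul_right_cancel h5
  · exact (key w hw hwp).symm

/-- a 2-element fixing all neighbours of `Z 0` centralises `N_1` -/
theorem cent_of_fix {x : G} (hx2 : IsPGroup 2 (zpowers x)) (hx : ∀ u, Adj Z (Z 0) u → MulAut.conj x • u = u) :
    x ∈ centralizer (NN Z (Z 0) : Set G) := by
  have key : NN Z (Z 0) ≤ centralizer ({x} : Set G) := by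
    refine sSup_le ?_
    rintro _ ⟨h, hh, rfl⟩
    have h1 : h⁻¹ * x * h ∈ centralizer (U 1 : Set G) := by
      refine cent_of_pts D ?_ fun p hp hpU => ?_
      · have h2 : zpowers (h⁻¹ * x * h) = (zpowers x).map (MulAut.conj h⁻¹).toMonoidHom := by
          rw [MonoidHom.map_zpowers]
          congr 1
          change _ = h⁻¹ * x * h⁻¹⁻¹
          rw [inv_inv]
        rw [h2]
        exact hx2.map _
      · have h2 : Adj Z (Z 0) (MulAut.conj h • p) := by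
          have := (adj_of_le D.toPP hp hpU).conj h
          rwa [← hh] at this
        have h3 := hx _ h2
        rw [conj_conj] at h3
        have h4 := congrArg (fun A => MulAut.conj h⁻¹ • A) h3
        simp only [conj_conj] at h4
        rw [← mul_assoc, inv_mul_cancel, map_one, one_smul] at h4
        exact h4
    rintro _ ⟨z, hz, rfl⟩
    change h * z * h⁻¹ ∈ _
    refine mem_centralizer_singleton_iff.2 ?_
    have h2 := mem_centralizer_iff.1 h1 z (D.ZU' 1 hz)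
    calc h * z * h⁻¹ * x = h * (z * (h⁻¹ * x * h)) * h⁻¹ := by group
      _ = h * ((h⁻¹ * x * h) * z) * h⁻¹ := by rw [h2]
      _ = x * (h * z * h⁻¹) := by group
  exact mem_centralizer_iff.2 fun y hy => mem_centralizer_singleton_iff.1 (key hy)

/-- **`N(Z 0) = ⟨N(Z 0) ∩ N(Z 1), N(Z 0) ∩ N(U 1)⟩`.** -/
theorem gen (hU : Uni0 Z U B) (hN : NbQ Z B) :
    HH (Z 0) ≤ (HH (Z 0) ⊓ HH (Z 1)) ⊔ (HH (Z 0) ⊓ normalizer (U 1 : Set G)) := by
  set Y := (HH (Z 0) ⊓ HH (Z 1)) ⊔ (HH (Z 0) ⊓ normalizer (U 1 : Set G)) with hY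
  have hBC : B ≤ centralizer (Z 0 : Set G) := D.B_le.trans (D.D_le_cent 0)
  obtain ⟨T, hT, hBT⟩ := exists_syl D.B2 hBC
  have hCH : centralizer (Z 0 : Set G) ≤ HH (Z 0) := centralizer_le_normalizer _
  have h1 : centralizer (Z 0 : Set G) ≤ Y := by
    refine MinSimple.MinParabolic.le_of_forall hT.1 ?_ ?_
    · exact fun g hg => mem_sup_left ⟨hCH hg.1, hN T hT.2.1 hBT ⟨hCH hg.1, hg.2⟩⟩
    · intro R hR hRC
      by_cases h2 : R ≤ normalizer (Z 1 : Set G)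
      · exact (le_inf (hRC.trans hCH) h2).trans le_sup_left
      · exact (le_inf (hRC.trans hCH) (hU T hBT hT R hR hRC h2)).trans le_sup_right
  intro h hh
  have hkC : cj h (centralizer (Z 0 : Set G)) = centralizer (Z 0 : Set G) := by
    rw [ChoiceBase.cj_centralizer, mem_normalizer_iff_cj.1 hh]
  have h2 : Syl (cj h T) (centralizer (Z 0 : Set G)) := by
    have := CaseTwo.syl_cj h hT
    rwa [hkC] at this
  obtain ⟨c, hc, e⟩ := syl_conj hT h2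
  have h3 : c⁻¹ * h ∈ normalizer (T : Set G) := by
    refine mem_normalizer_iff_cj.2 ?_
    rw [← cj_cj, ← e, cj_cj, inv_mul_cancel, ChoiceBase.cj_one]
  have h4 : c⁻¹ * h ∈ HH (Z 0) := mul_mem (inv_mem (hCH hc)) hh
  have h5 : h = c * (c⁻¹ * h) := by group
  rw [h5]
  exact mul_mem (h1 hc) (mem_sup_left ⟨h4, hN T hT.2.1 hBT ⟨h4, h3⟩⟩)

/-- `B` is transitive on the points `≠ Z 1` of `U 1` -/
theorem trans_B {p p' : Subgroup G} (hp : IsPt Z p) (hpU : p ≤ U 1) (hp1 : p ≠ Z 1) (hp' : IsPt Z p') (hpU' : p' ≤ U 1)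
    (hp1' : p' ≠ Z 1) : ∃ b ∈ B, MulAut.conj b • p = p' := by
  have hcard : ∀ {p : Subgroup G}, IsPt Z p → Nat.card p = q := by
    rintro _ ⟨k, rfl⟩
    rw [← D.cardZ 0]
    exact card_cj k _
  have hne : p' ≠ ⊥ := by
    obtain ⟨k, rfl⟩ := hp'
    intro e
    have h2 := card_cj k (Z 0)
    change Nat.card (MulAut.conj k • Z 0 : Subgroup G) = _ at h2
    rw [e, Subgroup.card_bot] at h2
    exact D.ne (Subgroup.card_eq_one.1 h2.symm)
  obtain ⟨v', hv', hv1'⟩ := (Subgroup.bot_or_exists_ne_one p').resolve_left hne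
  have hv'Z : v' ∉ Z 1 := fun h => hp1' (D.ti p' (Z 1) hp' (D.pt 1) v' hv' h hv1')
  have hinf : p ⊓ Z 1 = ⊥ := by
    refine (eq_bot_iff_forall _).2 fun x hx => ?_
    by_contra hx1
    exact hp1 (D.ti p (Z 1) hp (D.pt 1) x hx.1 hx.2 hx1)
  -- `v' = v z`
  have hsup : p ⊔ Z 1 = U 1 := by
    refine Subgroup.eq_of_le_of_card_ge (sup_le hpU (D.ZU' 1)) ?_
    have h3 := NO3S.ML.card_sup_mul_of_comm (K := p) (L := Z 1)
      fun a ha b hb => mem_centralizer_iff.1 ((eab_iff.1 (D.eU 1)).1 (D.ZU' 1 hb)) a (hpU ha)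
    rw [hinf, Subgroup.card_bot, mul_one, hcard hp, D.cardZ] at h3
    rw [h3, D.cardU, pow_two]
  have h4 : v' ∈ p ⊔ Z 1 := hsup ▸ hpU' hv'
  obtain ⟨v, hv, z, hz, e⟩ := OM.KTwo.exists_mul_of_mem_sup (F := p) (N := Z 1) (by
    refine le_trans ?_ (centralizer_le_normalizer _)
    exact fun z hz => mem_centralizer_iff.2 fun a ha => mem_centralizer_iff.1 ((eab_iff.1 (D.eU 1)).1 (D.ZU' 1 hz)) a
      (hpU ha)) h4
  have hvZ : v ∉ Z 1 := fun h => hv'Z (e ▸ mul_mem h hz)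
  obtain ⟨b, hb, -, hbv⟩ := D.root 1 0 (by decide) v (hpU hv) hvZ z hz
  refine ⟨b, hb, D.ti _ _ (hp.conj b) hp' v' ⟨v, hv, ?_⟩ hv' hv1'⟩
  change b * v * b⁻¹ = v'
  rw [e, mem_centralizer_iff.1 ((eab_iff.1 (D.eU 1)).1 (D.ZU' 1 hz)) v (hpU hv), ← hbv]
  group

/-- the hypotheses on `K` -/
def Mvs (Z : Fin 2 → Subgroup G) (K : Subgroup G) : Prop :=
  K ≤ centralizer (Z 0 : Set G) ∧ HH (Z 0) ≤ normalizer (K : Set G) ∧
    ∃ x ∈ K, IsPGroup 2 (zpowers x) ∧ x ∉ centralizer (NN Z (Z 0) : Set G)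

/-- **LEMMA 0** : `N(Z 0) = K (N(Z 0) ∩ N(Z 1))` -/
theorem sup_eq (hU : Uni0 Z U B) (hN : NbQ Z B) {K : Subgroup G} (hK : Mvs Z K) :
    HH (Z 0) ≤ K ⊔ (HH (Z 0) ⊓ HH (Z 1)) := by
  obtain ⟨hKC, hKn, x, hxK, hx2, hxN⟩ := hK
  have hBC : B ≤ centralizer (Z 0 : Set G) := D.B_le.trans (D.D_le_cent 0)
  obtain ⟨T, hT, hBT⟩ := exists_syl D.B2 hBC
  have hCH : centralizer (Z 0 : Set G) ≤ HH (Z 0) := centralizer_le_normalizer _
  have hT1 : T ≤ HH (Z 1) := fun t ht => hN T hT.2.1 hBT ⟨hCH (hT.1 ht), Subgroup.le_normalizer ht⟩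
  -- `K` moves `Z 1`
  have hK1 : ¬ K ≤ HH (Z 1) := by
    intro h
    apply hxN
    refine cent_of_fix D hx2 ?_
    rintro _ ⟨k, hk, rfl⟩
    have hk' : k ∈ HH (Z 0) := mem_normalizer_iff_cj.2 hk.symm
    have h1 : k⁻¹ * x * k⁻¹⁻¹ ∈ K := (mem_normalizer_iff.1 (hKn (inv_mem hk')) x).1 hxK
    have h2 : MulAut.conj (k⁻¹ * x * k⁻¹⁻¹) • Z 1 = Z 1 := conj_eq_of_mem (h h1)
    have h3 := congrArg (fun A => MulAut.conj k • A) h2
    simp only [conj_conj] at h3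
    rw [conj_conj]
    have e : k * (k⁻¹ * x * k⁻¹⁻¹) = x * k := by group
    rwa [e] at h3
  -- inside `U 1`
  obtain ⟨R, hR, hRle, hRn⟩ : ∃ R, IsMinPar T R ∧ R ≤ K ⊔ T ∧ ¬ R ≤ HH (Z 1) := by
    by_contra hcon
    push Not at hcon
    refine hK1 (le_sup_left.trans (MinSimple.MinParabolic.le_of_forall (S := T) (X := K ⊔ T) (Y := HH (Z 1))
      le_sup_right ?_ hcon))
    rintro g ⟨hg, hgT⟩
    exact hN T hT.2.1 hBT ⟨hCH ((sup_le hKC hT.1 : K ⊔ T ≤ _) hg), hgT⟩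
  have hRC : R ≤ centralizer (Z 0 : Set G) := hRle.trans (sup_le hKC hT.1)
  have hRU := hU T hBT hT R hR hRC hRn
  obtain ⟨r, hr, hr1⟩ := SetLike.not_le_iff_exists.1 hRn
  obtain ⟨k, hk, t, ht, e⟩ := OM.KTwo.exists_mul_of_mem_sup (F := K) (N := T) ((hT.1.trans hCH).trans hKn) (hRle hr)
  have hkU : k ∈ normalizer (U 1 : Set G) := by
    have h1 : k = r * t⁻¹ := by rw [e]; group
    rw [h1]
    exact mul_mem (hRU hr) (inv_mem (hRU (hR.le ht)))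
  have hk1 : MulAut.conj k • Z 1 ≠ Z 1 := by
    intro h
    exact hr1 (by rw [e]; exact mul_mem (mem_normalizer_iff_cj.2 h) (hT1 ht))
  have hkle : MulAut.conj k • Z 1 ≤ U 1 := by
    have h1 : MulAut.conj k • U 1 = U 1 := conj_eq_of_mem hkU
    rw [← h1]
    exact conj_le_iff.2 (D.ZU' 1)
  -- the points of `U 1`
  have hpt : ∀ p, IsPt Z p → p ≤ U 1 → ∃ k ∈ K, MulAut.conj k • Z 1 = p := by
    intro p hp hpU
    by_cases hp1 : p = Z 1
    · exact ⟨1, one_mem _, by rw [map_one, one_smul, hp1]⟩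
    obtain ⟨b, hb, e2⟩ := trans_B D ((D.pt 1).conj k) hkle hk1 hp hpU hp1
    have hbH : b ∈ HH (Z 0) := D.B_le_HH 0 hb
    refine ⟨b * k * b⁻¹, (mem_normalizer_iff.1 (hKn hbH) k).1 hk, ?_⟩
    have h1 : MulAut.conj b⁻¹ • Z 1 = Z 1 := conj_eq_of_mem (inv_mem (D.B_le_HH 1 hb))
    rw [← conj_conj, h1, ← conj_conj, e2]
  refine (gen D hU hN).trans (sup_le le_sup_right ?_)
  rintro h ⟨hh, hhU⟩
  have h1 : MulAut.conj h • Z 1 ≤ U 1 := by
    have h2 : MulAut.conj h • U 1 = U 1 := conj_eq_of_mem hhU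
    rw [← h2]
    exact conj_le_iff.2 (D.ZU' 1)
  obtain ⟨k', hk', e2⟩ := hpt _ ((D.pt 1).conj h) h1
  have h3 : k'⁻¹ * h ∈ HH (Z 1) := by
    refine mem_normalizer_iff_cj.2 ?_
    change MulAut.conj (k'⁻¹ * h) • Z 1 = Z 1
    rw [← conj_conj, ← e2, inv_conj_conj]
  have h4 : k'⁻¹ * h ∈ HH (Z 0) := mul_mem (inv_mem (hCH (hKC hk'))) hh
  have h5 : h = k' * (k'⁻¹ * h) := by group
  rw [h5]
  exact mul_mem (mem_sup_left hk') (mem_sup_right ⟨h4, h3⟩)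

/-- every neighbour of `Z 0` is `k Z 1`, `k ∈ K` -/
theorem exists_k (hU : Uni0 Z U B) (hN : NbQ Z B) {K : Subgroup G} (hK : Mvs Z K) {u : Subgroup G}
    (hu : Adj Z (Z 0) u) : ∃ k ∈ K, MulAut.conj k • Z 1 = u := by
  obtain ⟨h, hh, rfl⟩ := hu
  have hh' : h ∈ HH (Z 0) := mem_normalizer_iff_cj.2 hh.symm
  obtain ⟨k, hk, d, hd, rfl⟩ : ∃ k ∈ K, ∃ d ∈ HH (Z 0) ⊓ HH (Z 1), h = k * d :=
    OM.KTwo.exists_mul_of_mem_sup (inf_le_left.trans hK.2.1) (sup_eq D hU hN hK hh')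
  exact ⟨k, hk, by rw [← conj_conj, conj_eq_of_mem hd.2]⟩

/-- **`L0`.** -/
theorem l0 (hU : Uni0 Z U B) (hN : NbQ Z B) : PcQ.L0 Z := by
  intro K hKC hKn hx u u' hu hu'
  obtain ⟨k, hk, rfl⟩ := exists_k D hU hN ⟨hKC, hKn, hx⟩ hu
  obtain ⟨k', hk', rfl⟩ := exists_k D hU hN ⟨hKC, hKn, hx⟩ hu'
  exact ⟨k' * k⁻¹, mul_mem hk' (inv_mem hk), by rw [← conj_conj, inv_conj_conj]⟩

/-- **STEP F.** -/
theorem done (hU : Uni0 Z U B) (hN : NbQ Z B) {K : Subgroup G} (hK : Mvs Z K) : ¬ K ≤ normalizer (U 0 : Set G) := by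
  intro hKU
  -- the points of `U 0` have the same `N`
  have hcard : ∀ k : G, Nat.card (NN Z (MulAut.conj k • Z 0)) = Nat.card (NN Z (Z 0)) := by
    intro k
    rw [NN_conj]
    exact card_cj k _
  have hpt : ∀ k : G, MulAut.conj k • Z 0 ≤ U 0 → NN Z (MulAut.conj k • Z 0) = NN Z (Z 0) := by
    intro k hk
    symm
    refine Subgroup.eq_of_le_of_card_ge ?_ (hcard k).le
    refine sSup_le fun u hu => ?_
    obtain ⟨x, hx, rfl⟩ := exists_k D hU hN hK hu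
    have h1 : MulAut.conj (x⁻¹ * k) • Z 0 ≤ U 0 := by
      have h2 : MulAut.conj x⁻¹ • U 0 = U 0 := conj_eq_of_mem (inv_mem (hKU hx))
      rw [← conj_conj, ← h2]
      exact conj_le_iff.2 hk
    obtain ⟨l, hl0, hl1, -, -⟩ := D.tr _ h1
    refine Adj.le_NN ⟨x * l, ?_, ?_⟩
    · rw [← conj_conj, hl0, conj_conj, mul_inv_cancel_left]
    · rw [← conj_conj, hl1]
  have h0 : HH (Z 0) ≤ normalizer (NN Z (Z 0) : Set G) := PP.HH_le_NN _
  have h1 : HH (Z 1) ≤ normalizer (NN Z (Z 0) : Set G) := by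
    obtain ⟨s, hs0, hs1, hs2, hs3⟩ := D.swap
    have hg : HH (Z 1) ≤ (HH (Z 1) ⊓ HH (Z 0)) ⊔ (HH (Z 1) ⊓ normalizer (U 0 : Set G)) := by
      have h2 := conj_le_iff (g := s) |>.2 (gen D hU hN)
      rw [Subgroup.smul_sup, Subgroup.smul_inf, Subgroup.smul_inf, ← HH_conj, ← HH_conj, hs0, hs1] at h2
      have h3 : MulAut.conj s • normalizer (U 1 : Set G) = normalizer (U 0 : Set G) := by
        rw [← hs3]
        exact (HH_conj s (U 1)).symm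
      rwa [h3] at h2
    refine hg.trans (sup_le (inf_le_right.trans h0) ?_)
    rintro g ⟨-, hgU⟩
    refine mem_normalizer_iff_cj.2 ?_
    change MulAut.conj g • NN Z (Z 0) = NN Z (Z 0)
    rw [← NN_conj]
    refine hpt g ?_
    have h2 : MulAut.conj g • U 0 = U 0 := conj_eq_of_mem hgU
    conv_rhs => rw [← h2]
    exact conj_le_iff.2 (D.ZU' 0)
  have h2 := D.nonLoc (NN Z (Z 0)) (D.B2.to_le ((D.N_le_O 0).trans D.O_le_B)) h0 h1
  have h3 : Z 1 ≤ ⊥ := h2 ▸ (D.adj (i := 0) (j := 1) (by decide)).le_NN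
  have h4 := D.cardZ 1
  rw [← D.cardZ 0, le_bot_iff.1 h3, Subgroup.card_bot] at h4
  exact D.ne (Subgroup.card_eq_one.1 h4.symm)

end Cfsg.Agent.Omega.NO3S.EThree.DoneU
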