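import Cfsg.Agent.Omega.NO3S.EThree.ExactA
import Cfsg.Agent.Omega.NO3S.EThree.MinOff
import Cfsg.Agent.Omega.OM.PG.NoRad

/-!
# EThree: distance at least `3`, the group `M_a = ⟨N_u : u ~ a⟩` (helper495 #18378 (6))

* `no_sup`: `(NO)` passes from subgroups of an abelian group to their join;
* `MinA Q M A`: `A ∈ AA Q` moves `M`, with `|A : C_A(M)|` minimal; `MinA.cap`: for `V ≤ M` moved by `A` with
  `|A : C_A(V)| ≤ |V : C_V(A)|`: `C_A(V) = C_A(M)`, `M = V C_M(A)`, `[M, A] = [V, A]`;
* `MM Z a = ⟨N_u : u ~ a⟩`; if all pairs at distance `≤ 2` commute: `MM_eab`, `MM_le_QQ`, `MM_no` (`(NO)` for `Q_a` on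
  `M_a`), `MM_exact` (every `A ∈ AA Q_a` is exact on `M_a`), `exists_minA_MM`;
* `MinA.nbr`: `A` minimal as above, `u ~ a` moved: `C_A(N_u)` centralises `M_a`, `M_a = N_u C(A)`,
  `[M_a, A] = [N_u, A] ≤ N_u`;
* `MinA.tc`: points of order `2`, lines of order `4`: `A` centralises all lines on `a`, or `[M_a, A] ≤ a`,
  `|A : C_A(M_a)| = 2`.
-/

set_option autoImplicit false
set_option linter.unusedSectionVars false

namespace Cfsg.Agent.Omega.NO3S.EThree.ExactA

open Subgroup Cfsg Cfsg.Agent.ZN Cfsg.Agent.Omega.MinPar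
open Cfsg.Agent.Omega.OM.PG
open Cfsg.Agent.ZN.ChoiceBase (AA mm mm_eq mem_AA_iff AA_nonempty card_le_mm cj_mem_AA mm_cj mm_mono)
open Cfsg.Agent.Omega.NoFF.Basic (conj_conj mem_conj conj_le_iff conj_le_centralizer comm_symm comm_mono)
open Cfsg.Agent.Omega.NO3S.ML (card_mul_relIndex card_sup_mul_of_comm)
open scoped Pointwise

universe u

variable {G : Type u} [Group G] [Finite G]

/-- `(NO)` passes to joins inside an abelian group. -/
theorem no_sup {ι : Sort*} {N : ι → Subgroup G} {M Q : Subgroup G} (hN : ∀ i, N i ≤ M) (hgen : M ≤ ⨆ i, N i)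
    (h : ∀ i, ∀ B : Subgroup G, IsElementaryAbelian 2 B → B ≤ Q →
      (centralizer (N i : Set G)).relIndex B ≤ (centralizer (B : Set G)).relIndex (N i)) :
    ∀ B : Subgroup G, IsElementaryAbelian 2 B → B ≤ Q →
      (centralizer (M : Set G)).relIndex B ≤ (centralizer (B : Set G)).relIndex M := by
  have key : ∀ n : ℕ, ∀ B : Subgroup G, Nat.card B ≤ n → IsElementaryAbelian 2 B → B ≤ Q →
      (centralizer (M : Set G)).relIndex B ≤ (centralizer (B : Set G)).relIndex M := by
    intro n
    induction n with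
    | zero => intro B hB; exact absurd (Nat.card_pos (α := B)) (by omega)
    | succ n ih =>
      intro B hB hBe hBQ
      by_cases hall : ∀ i, B ≤ centralizer (N i : Set G)
      · have h1 : B ≤ centralizer (M : Set G) := by
          refine comm_symm (hgen.trans (iSup_le fun i => comm_symm (hall i)))
        rw [relIndex_eq_one.2 h1]
        exact Nat.one_le_iff_ne_zero.2 index_ne_zero_of_finite
      · push Not at hall
        obtain ⟨i, hi⟩ := hall
        have hlt : B ⊓ centralizer (N i : Set G) < B :=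
          lt_of_le_of_ne inf_le_left fun e => hi (by rw [← e]; exact inf_le_right)
        have hcard : Nat.card (B ⊓ centralizer (N i : Set G) : Subgroup G) ≤ n := by
          have h2 : Nat.card (B ⊓ centralizer (N i : Set G) : Subgroup G) < Nat.card B := by
            refine lt_of_le_of_ne (Subgroup.card_le_of_le inf_le_left) fun e => hlt.ne ?_
            exact Subgroup.eq_of_le_of_card_ge inf_le_left e.ge
          omega
        have h3 := ih _ hcard (eab_mono hBe inf_le_left) (inf_le_left.trans hBQ)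
        have h4 := mul_relIndex_le (N := M) (V := N i) (A := B) (B := B ⊓ centralizer (N i : Set G)) (hN i)
          inf_le_left inf_le_right
        have h5 := relIndex_eq_mul (N := M) (V := N i) (A := B) (hN i)
        rw [h5, mul_comm]
        exact (Nat.mul_le_mul (h i B hBe hBQ) h3).trans h4
  exact fun B => key _ B le_rfl

/-- `A ∈ AA Q` moves `M`, with `|A : C_A(M)|` minimal. -/
structure MinA (Q M A : Subgroup G) : Prop where
  mem : A ∈ AA Q
  mov : ¬ A ≤ centralizer (M : Set G)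
  min : ∀ B ∈ AA Q, ¬ B ≤ centralizer (M : Set G) →
    (centralizer (M : Set G)).relIndex A ≤ (centralizer (M : Set G)).relIndex B

theorem exists_minA {Q M A : Subgroup G} (hA : A ∈ AA Q) (hmov : ¬ A ≤ centralizer (M : Set G)) :
    ∃ A, MinA Q M A := by
  let s : Set ℕ := {n | ∃ B ∈ AA Q, ¬ B ≤ centralizer (M : Set G) ∧ (centralizer (M : Set G)).relIndex B = n}
  have hs : s.Nonempty := ⟨_, A, hA, hmov, rfl⟩
  obtain ⟨B, hB, hBm, hn⟩ := Nat.sInf_mem hs
  refine ⟨B, hB, hBm, fun D hD hDm => ?_⟩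
  rw [hn]
  exact Nat.sInf_le ⟨D, hD, hDm, rfl⟩

/-- `MinA.cap`: the peeling. -/
theorem MinA.cap {Q M A V : Subgroup G} (h : MinA Q M A) (hM : IsElementaryAbelian 2 M) (hMQ : M ≤ Q) (hV : V ≤ M)
    (hmov : ¬ A ≤ centralizer (V : Set G))
    (hoff : (centralizer (V : Set G)).relIndex A ≤ (centralizer (A : Set G)).relIndex V) :
    A ⊓ centralizer (V : Set G) ≤ centralizer (M : Set G) ∧
      M ≤ V ⊔ (M ⊓ centralizer (A : Set G)) ∧
      (centralizer (M : Set G)).relIndex A = (centralizer (V : Set G)).relIndex A ∧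
      (∀ m ∈ M, ∀ x ∈ A, ∃ v ∈ V, m * x * m⁻¹ * x⁻¹ = v * x * v⁻¹ * x⁻¹) := by
  have hM' := (eab_iff.1 hM).1
  obtain ⟨-, -, h1⟩ := swp (eab_mono hM hV) (hV.trans hMQ) h.mem hoff
  have hVc : V ≤ centralizer (M : Set G) := hV.trans hM'
  -- `C_A(V)` centralises `M`
  have h2 : A ⊓ centralizer (V : Set G) ≤ centralizer (M : Set G) := by
    by_contra hcon
    have h3 := h.min _ h1 fun h4 => hcon (le_sup_left.trans h4)
    have h4 : (centralizer (M : Set G)).relIndex (A ⊓ centralizer (V : Set G) ⊔ V) ≤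
        (centralizer (M : Set G)).relIndex (A ⊓ centralizer (V : Set G)) := by
      set K := A ⊓ centralizer (V : Set G) with hK
      set C := centralizer (M : Set G) ⊓ (K ⊔ V) with hC
      have e1 : (centralizer (M : Set G)).relIndex (K ⊔ V) = C.relIndex (K ⊔ V) := (inf_relIndex_right _ _).symm
      have e2 : (centralizer (M : Set G)).relIndex K = C.relIndex K := by
        have e9 : C ⊓ K = centralizer (M : Set G) ⊓ K := by
          rw [hC, inf_assoc, inf_eq_right.2 (le_sup_left : K ≤ K ⊔ V)]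
        rw [← inf_relIndex_right (centralizer (M : Set G)) K, ← e9, inf_relIndex_right]
      have hVC : V ≤ C := le_inf hVc le_sup_right
      have e3 : K ⊔ V = K ⊔ C := le_antisymm (sup_le le_sup_left (hVC.trans le_sup_right))
        (sup_le le_sup_left inf_le_right)
      have hCab : K ⊔ V ≤ centralizer ((K ⊔ V : Subgroup G) : Set G) := (eab_iff.1 h1.1).1
      rw [e1, e2]
      have e4 := card_sup_mul_of_comm (K := K) (L := C) fun a ha b hb =>
        (mem_centralizer_iff.1 (hCab ((inf_le_right : C ≤ K ⊔ V) hb)) a (mem_sup_left ha))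
      rw [← e3] at e4
      have e5 : Nat.card C * C.relIndex (K ⊔ V) = Nat.card (K ⊔ V : Subgroup G) := card_mul_relIndex inf_le_right
      have e6 : Nat.card (K ⊓ C : Subgroup G) * C.relIndex K = Nat.card K := by
        rw [← inf_relIndex_left]
        exact card_mul_relIndex inf_le_left
      have p1 : 0 < Nat.card (K ⊓ C : Subgroup G) := Nat.card_pos
      have p2 : 0 < Nat.card C := Nat.card_pos
      have e7 : (Nat.card C * Nat.card (K ⊓ C : Subgroup G)) * C.relIndex (K ⊔ V) =
          (Nat.card C * Nat.card (K ⊓ C : Subgroup G)) * C.relIndex K := by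
        calc _ = (Nat.card C * C.relIndex (K ⊔ V)) * Nat.card (K ⊓ C : Subgroup G) := by ring
          _ = Nat.card K * Nat.card C := by rw [e5, e4]
          _ = Nat.card C * (Nat.card (K ⊓ C : Subgroup G) * C.relIndex K) := by rw [e6]; ring
          _ = _ := by ring
      exact (Nat.eq_of_mul_eq_mul_left (Nat.mul_pos p2 p1) e7).le
    have h5 := relIndex_eq_mul (N := M) (V := V) (A := A) hV
    have h6 : (centralizer (M : Set G)).relIndex (A ⊓ centralizer (V : Set G)) ≠ 0 := index_ne_zero_of_finite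
    have h7 : (centralizer (V : Set G)).relIndex A ≠ 0 := index_ne_zero_of_finite
    have h8 : (centralizer (V : Set G)).relIndex A ≠ 1 := fun e => hmov (relIndex_eq_one.1 e)
    have h9 : 2 ≤ (centralizer (V : Set G)).relIndex A := by omega
    have h10 := Nat.mul_le_mul_left ((centralizer (M : Set G)).relIndex (A ⊓ centralizer (V : Set G))) h9
    omega
  have h5 := relIndex_eq_mul (N := M) (V := V) (A := A) hV
  rw [relIndex_eq_one.2 h2, one_mul] at h5
  -- `M = V C_M(A)`
  have hA' := (eab_iff.1 h.mem.1).1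
  have h6 : M ≤ V ⊔ (M ⊓ centralizer (A : Set G)) := by
    -- `|M : C_M(A)| ≤ |A : C_A(M)|` by maximality of `A`
    have h7 : (centralizer (A : Set G)).relIndex M ≤ (centralizer (M : Set G)).relIndex A := by
      by_contra hcon
      push Not at hcon
      exact hcon.ne (swp hM hMQ h.mem hcon.le).1
    set D := M ⊓ centralizer (A : Set G) with hD
    have hDM : D ≤ M := inf_le_left
    have h3 : D.relIndex M = (centralizer (A : Set G)).relIndex M := inf_relIndex_left _ _
    have e : (centralizer (A : Set G)).relIndex V = D.relIndex V := by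
      rw [← inf_relIndex_right D, ← inf_relIndex_right (centralizer (A : Set G)), hD, inf_comm M, inf_assoc,
        inf_eq_right.2 hV]
    have h4 : D.relIndex V ≤ D.relIndex (V ⊔ D) := relIndex_le_of_le_right le_sup_left index_ne_zero_of_finite
    have h8 := relIndex_mul_relIndex D (V ⊔ D) M le_sup_right (sup_le hV hDM)
    have h9 : D.relIndex (V ⊔ D) ≠ 0 := index_ne_zero_of_finite
    have h10 : D.relIndex M ≤ D.relIndex (V ⊔ D) * 1 := by
      rw [mul_one, h3]
      refine h7.trans ?_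
      rw [h5]
      exact hoff.trans (e.le.trans h4)
    rw [← h8] at h10
    have h11 := Nat.le_of_mul_le_mul_left h10 (Nat.pos_of_ne_zero h9)
    have h12 : (V ⊔ D).relIndex M ≠ 0 := index_ne_zero_of_finite
    exact relIndex_eq_one.1 (by omega)
  refine ⟨h2, h6, h5, fun m hm x hx => ?_⟩
  have hVn : V ≤ normalizer ((M ⊓ centralizer (A : Set G) : Subgroup G) : Set G) :=
    (hVc.trans (centralizer_le inf_le_left)).trans (centralizer_le_normalizer _)
  have h7 : m ∈ ((V ⊔ (M ⊓ centralizer (A : Set G)) : Subgroup G) : Set G) := h6 hm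
  rw [coe_mul_of_left_le_normalizer_right V _ hVn] at h7
  obtain ⟨v, hv, c, hc, rfl⟩ := Set.mem_mul.mp h7
  refine ⟨v, hv, ?_⟩
  have h8 : x * c = c * x := mem_centralizer_iff.1 hc.2 x hx
  calc v * c * x * (v * c)⁻¹ * x⁻¹ = v * (c * x) * c⁻¹ * v⁻¹ * x⁻¹ := by group
    _ = v * (x * c) * c⁻¹ * v⁻¹ * x⁻¹ := by rw [h8]
    _ = v * x * v⁻¹ * x⁻¹ := by group

/-- `M_a = ⟨N_u : u ~ a⟩` -/
def MM (Z : Fin 2 → Subgroup G) (a : Subgroup G) : Subgroup G := ⨆ u : {u : Subgroup G // Adj Z a u}, NN Z u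

section PPs

variable {Z U : Fin 2 → Subgroup G} (P : PP Z U)
  (hC : ∀ m ≤ 2, ∀ a b : Subgroup G, Pth Z m a b → Com Z a b)

include P hC

omit [Finite G] in
theorem NN_le_MM {a u : Subgroup G} (h : Adj Z a u) : NN Z u ≤ MM Z a :=
  le_iSup (fun u : {u : Subgroup G // Adj Z a u} => NN Z u) ⟨u, h⟩

omit [Finite G] in
theorem MM_comm {a : Subgroup G} : MM Z a ≤ centralizer (MM Z a : Set G) := by
  refine iSup_le fun u => comm_symm (iSup_le fun v => ?_)
  exact hC 2 le_rfl _ _ (Pth.succ (PP.pth_one (P.adj_symm v.2)) u.2)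

omit [Finite G] in
theorem MM_eab {a : Subgroup G} : IsElementaryAbelian 2 (MM Z a) := by
  rw [eab_iff]
  refine ⟨MM_comm P hC, NoFF.Lines.Geo.sq_of_comm (MM_comm P hC) (ι := {u : Subgroup G // Adj Z a u})
    (B := fun u => NN Z u) (fun u => NN_le_MM P hC u.2) le_rfl fun u => (eab_iff.1 (NN_eab P (P.adj_pt u.2))).2⟩

theorem MM_le_QQ {a : Subgroup G} : MM Z a ≤ QQ a :=
  iSup_le fun u => P.lemP hC 1 (by omega) _ _ (PP.pth_one (P.adj_symm u.2))

omit [Finite G] in
theorem hC1 : ∀ a u : Subgroup G, Adj Z a u → Com Z a u := fun _ _ h => hC 1 (by omega) _ _ (PP.pth_one h)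

/-- `(NO)` for `Q_a` on `M_a` -/
theorem MM_no (hNO : NoP Z) {a : Subgroup G} {B : Subgroup G} (hB : IsElementaryAbelian 2 B) (hBQ : B ≤ QQ a) :
    (centralizer (MM Z a : Set G)).relIndex B ≤ (centralizer (B : Set G)).relIndex (MM Z a) :=
  no_sup (ι := {u : Subgroup G // Adj Z a u}) (N := fun u => NN Z u) (fun u => NN_le_MM P hC u.2) le_rfl
    (fun u B hB hBQ => hNO a u u.2 B hB hBQ) B hB hBQ

/-- every `A ∈ AA Q_a` is exact on `M_a` -/
theorem MM_exact (hNO : NoP Z) {a A : Subgroup G} (hA : A ∈ AA (QQ a)) :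
    (centralizer (MM Z a : Set G)).relIndex A = (centralizer (A : Set G)).relIndex (MM Z a) ∧
      MM Z a ⊓ centralizer (A : Set G) ≤ A ∧
      (A ⊓ centralizer (MM Z a : Set G)) ⊔ MM Z a ∈ AA (QQ a) :=
  swp (MM_eab P hC) (MM_le_QQ P hC) hA (MM_no P hC hNO hA.1 hA.2.1)

theorem exists_minA_MM (hne : jj (QQ (Z 0)) ≠ ⊥) {a u : Subgroup G} (h : Adj Z a u) : ∃ A, MinA (QQ a) (MM Z a) A := by
  obtain ⟨A, hA, hm⟩ := moves P hne h
  exact exists_minA hA fun h1 => hm (h1.trans (centralizer_le (NN_le_MM P hC h)))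

/-- `A` minimal, `u ~ a` moved by `A`. -/
theorem MinA.nbr (hNO : NoP Z) {a u A : Subgroup G} (h : MinA (QQ a) (MM Z a) A) (hau : Adj Z a u)
    (hmov : ¬ A ≤ centralizer (NN Z u : Set G)) :
    A ⊓ centralizer (NN Z u : Set G) ≤ centralizer (MM Z a : Set G) ∧
      MM Z a ≤ NN Z u ⊔ (MM Z a ⊓ centralizer (A : Set G)) ∧
      (centralizer (MM Z a : Set G)).relIndex A = (centralizer (NN Z u : Set G)).relIndex A ∧
      (∀ m ∈ MM Z a, ∀ x ∈ A, ∃ v ∈ NN Z u, m * x * m⁻¹ * x⁻¹ = v * x * v⁻¹ * x⁻¹) ∧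
      ∀ m ∈ MM Z a, ∀ x ∈ A, m * x * m⁻¹ * x⁻¹ ∈ NN Z u := by
  obtain ⟨h1, h2, h3, h4⟩ := h.cap (MM_eab P hC) (MM_le_QQ P hC) (NN_le_MM P hC hau) hmov
    (exact P (hC1 P hC) hNO hau h.mem).1.le
  refine ⟨h1, h2, h3, h4, fun m hm x hx => ?_⟩
  obtain ⟨v, hv, e⟩ := h4 m hm x hx
  rw [e]
  have h5 : x ∈ normalizer (NN Z u : Set G) := PP.HH_le_NN u (P.QQ_le_HH (P.adj_symm hau) (h.mem.2.1 hx))
  have h6 : x * v⁻¹ * x⁻¹ ∈ NN Z u := (mem_normalizer_iff.1 h5 v⁻¹).1 (inv_mem hv)
  have e2 : v * x * v⁻¹ * x⁻¹ = v * (x * v⁻¹ * x⁻¹) := by group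
  rw [e2]
  exact mul_mem hv h6

/-- points of order `2`, lines of order `4` -/
theorem MinA.tc (h2 : Nat.card (Z 0) = 2) (h4 : Nat.card (U 0) = 4) (hgen : U 1 ≤ NN Z (Z 0)) {a A : Subgroup G}
    (ha : IsPt Z a) (h : MinA (QQ a) (MM Z a) A) :
    (∀ l : Subgroup G, LnOn Z U a l → A ≤ centralizer (l : Set G)) ∨
      ((centralizer (MM Z a : Set G)).relIndex A = 2 ∧ (∀ m ∈ MM Z a, ∀ x ∈ A, m * x * m⁻¹ * x⁻¹ ∈ a) ∧
        ∃ l : Subgroup G, LnOn Z U a l ∧ l ≤ MM Z a ∧ ¬ A ≤ centralizer (l : Set G) ∧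
          MM Z a ≤ l ⊔ (MM Z a ⊓ centralizer (A : Set G))) := by
  by_cases hall : ∀ l : Subgroup G, LnOn Z U a l → A ≤ centralizer (l : Set G)
  · exact Or.inl hall
  refine Or.inr ?_
  push Not at hall
  obtain ⟨l, hl, hlm⟩ := hall
  -- `l ≤ N_u`, `u ~ a`
  obtain ⟨k, hk0, hk1⟩ := hl
  have hl : LnOn Z U a l := ⟨k, hk0, hk1⟩
  have h01 : Adj Z (Z 0) (Z 1) := ⟨1, by rw [map_one, one_smul], by rw [map_one, one_smul]⟩
  have hau : Adj Z a (MulAut.conj k • Z 1) := by rw [hk0]; exact h01.conj k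
  have hlu : l ≤ NN Z (MulAut.conj k • Z 1) := by
    obtain ⟨s, hs0, hs1, hs2, hs3⟩ := P.swap
    rw [hk1, NN_conj]
    refine conj_le_iff.2 ?_
    have h5 : MulAut.conj s • U 1 ≤ MulAut.conj s • NN Z (Z 0) := conj_le_iff.2 hgen
    rwa [hs3, ← NN_conj, hs0] at h5
  have hlM : l ≤ MM Z a := hlu.trans (NN_le_MM P hC hau)
  have hlc : Nat.card l = 4 := by rw [hk1]; exact (ZN.ChoiceBase.card_cj k _).trans h4
  have hac : Nat.card a = 2 := by rw [hk0]; exact (ZN.ChoiceBase.card_cj k _).trans h2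
  have hal : a ≤ l := by rw [hk0, hk1]; exact conj_le_iff.2 P.ZU
  have hAQ := h.mem.2.1
  have haA : a ≤ centralizer (A : Set G) := by
    -- `Q_a` centralises `a`, as `a ≤ N_u ≤ ..`
    have h5 : QQ a ≤ centralizer (a : Set G) := by
      obtain ⟨s, hs⟩ := IsPGroup.iff_card.1 ((MinSimple.VModule.o2_isPGroup (HH a)))
      intro y hy
      refine mem_centralizer_iff.2 fun x hx => ?_
      by_cases hx1 : x = 1
      · rw [hx1]; group
      have h7 : y * x * y⁻¹ ∈ a := by
        have h6 : y ∈ HH a := MinSimple.VModule.o2_le _ hy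
        exact (mem_normalizer_iff.1 h6 x).1 hx
      have h8 : y * x * y⁻¹ ≠ 1 := fun e => hx1 (by
        have : x = y⁻¹ * (y * x * y⁻¹) * y := by group
        rw [this, e]; group)
      have h9 : y * x * y⁻¹ = x := by
        have h10 : ∀ p ∈ a, ∀ q ∈ a, p ≠ 1 → q ≠ 1 → p = q := by
          intro p hp q hq hp1 hq1
          have : Nat.card a = 2 := hac
          obtain ⟨c, hc, hcu⟩ := (Nat.card_eq_two_iff' (1 : a)).1 this
          have e1 := hcu ⟨p, hp⟩ (fun e => hp1 (congrArg Subtype.val e))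
          have e2 := hcu ⟨q, hq⟩ (fun e => hq1 (congrArg Subtype.val e))
          exact congrArg Subtype.val (e1.trans e2.symm)
        exact h10 _ h7 _ hx h8 hx1
      calc x * y = y * x * y⁻¹ * y := by rw [h9]
        _ = y * x := by group
    exact comm_symm (hAQ.trans h5)
  -- `C_l(A) = a`
  have hcl : l ⊓ centralizer (A : Set G) = a := by
    have h5 : a ≤ l ⊓ centralizer (A : Set G) := le_inf hal haA
    have h6 : Nat.card (l ⊓ centralizer (A : Set G) : Subgroup G) ∣ Nat.card l := Subgroup.card_dvd_of_le inf_le_left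
    have h7 : Nat.card (l ⊓ centralizer (A : Set G) : Subgroup G) ≠ 4 := by
      intro e
      have h8 : l ⊓ centralizer (A : Set G) = l := Subgroup.eq_of_le_of_card_ge inf_le_left (by rw [hlc, e])
      apply hlm
      exact comm_symm (by rw [← h8]; exact inf_le_right)
    have h8 := Subgroup.card_le_of_le h5
    rw [hlc] at h6
    rw [hac] at h8
    have h9 : Nat.card (l ⊓ centralizer (A : Set G) : Subgroup G) = 2 := by
      have h10 := Nat.le_of_dvd (by norm_num) h6
      interval_cases hh : Nat.card (l ⊓ centralizer (A : Set G) : Subgroup G)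
      · rfl
      · omega
      · omega
    exact (Subgroup.eq_of_le_of_card_ge h5 (by rw [h9, hac])).symm
  have hrl : (centralizer (A : Set G)).relIndex l = 2 := by
    have h5 : Nat.card (l ⊓ centralizer (A : Set G) : Subgroup G) * (centralizer (A : Set G)).relIndex l =
        Nat.card l := by
      rw [← inf_relIndex_left]
      exact card_mul_relIndex inf_le_left
    rw [hcl, hac, hlc] at h5
    omega
  have hcomm : ∀ v ∈ l, ∀ x ∈ A, v * x * v⁻¹ * x⁻¹ ∈ a := fun v hv x hx => P.comm_mem hl hv (hAQ hx)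
  -- `|A : C_A(l)| ≤ 2`
  have hrA : (centralizer (l : Set G)).relIndex A ≤ 2 := by
    obtain ⟨v, hv, hva⟩ : ∃ v ∈ l, v ∉ a := by
      by_contra hcon
      push Not at hcon
      have := Subgroup.card_le_of_le (show l ≤ a from hcon)
      omega
    -- `C_A(v) = C_A(l)`
    have hlgen : l ≤ a ⊔ zpowers v := by
      have h5 : a ⊔ zpowers v ≤ l := sup_le hal (by rw [zpowers_le]; exact hv)
      have h6 : Nat.card (a ⊔ zpowers v : Subgroup G) ∣ 4 := hlc ▸ Subgroup.card_dvd_of_le h5
      have h7 : Nat.card (a ⊔ zpowers v : Subgroup G) ≠ 2 := by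
        intro e
        have h8 : a = a ⊔ zpowers v := Subgroup.eq_of_le_of_card_ge le_sup_left (by rw [e, hac])
        apply hva
        rw [h8]
        exact mem_sup_right (mem_zpowers v)
      have h8 := Subgroup.card_le_of_le (le_sup_left : a ≤ a ⊔ zpowers v)
      rw [hac] at h8
      have h9 : Nat.card (a ⊔ zpowers v : Subgroup G) = 4 := by
        have h10 := Nat.le_of_dvd (by norm_num) h6
        interval_cases hh : Nat.card (a ⊔ zpowers v : Subgroup G)
        · omega
        · omega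
        · rfl
      exact (Subgroup.eq_of_le_of_card_ge h5 (by rw [h9, hlc])).ge
    have hAa : A ≤ centralizer (a : Set G) := comm_symm haA
    -- the map `x ↦ [v, x]` from `A` to `a`
    have h11 : ∀ x ∈ A, v * x = x * v → x ∈ centralizer (l : Set G) := by
      intro x hx hvx
      have h12 : l ≤ centralizer ({x} : Set G) := by
        refine hlgen.trans (sup_le ?_ ?_)
        · intro y hy
          rw [mem_centralizer_singleton_iff]
          exact mem_centralizer_iff.1 (hAa hx) y hy
        · rw [zpowers_le, mem_centralizer_singleton_iff]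
          exact hvx
      refine mem_centralizer_iff.2 fun y hy => ?_
      exact mem_centralizer_singleton_iff.1 (h12 hy)
    obtain ⟨c, hc, hcu⟩ := (Nat.card_eq_two_iff' (1 : a)).1 hac
    have hval : ∀ x ∈ A, v * x * v⁻¹ * x⁻¹ = 1 ∨ v * x * v⁻¹ * x⁻¹ = (c : G) := by
      intro x hx
      by_cases e : v * x * v⁻¹ * x⁻¹ = 1
      · exact Or.inl e
      · refine Or.inr ?_
        exact congrArg Subtype.val (hcu ⟨_, hcomm v hv x hx⟩ fun e' => e (congrArg Subtype.val e'))
    have h13 : (centralizer (l : Set G)).relIndex A = 1 ∨ (centralizer (l : Set G)).relIndex A = 2 := by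
      by_cases hA1 : A ≤ centralizer (l : Set G)
      · exact Or.inl (relIndex_eq_one.2 hA1)
      · refine Or.inr ?_
        obtain ⟨x₀, hx₀, hx₀l⟩ := SetLike.not_le_iff_exists.1 hA1
        rw [relIndex_eq_two_iff]
        refine ⟨x₀, hx₀, fun x hx => ?_⟩
        have hne0 : v * x₀ * v⁻¹ * x₀⁻¹ = (c : G) := by
          refine (hval x₀ hx₀).resolve_left fun e => hx₀l (h11 x₀ hx₀ ?_)
          calc v * x₀ = (v * x₀ * v⁻¹ * x₀⁻¹) * x₀ * v := by group
            _ = x₀ * v := by rw [e, one_mul]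
        have hxc : x₀ * (c : G) = (c : G) * x₀ := (mem_centralizer_iff.1 (hAa hx₀) c c.2).symm
        have hxc' : x * (c : G) = (c : G) * x := (mem_centralizer_iff.1 (hAa hx) c c.2).symm
        have hcc : (c : G) * c = 1 := by
          have := P.ZsqConj ha c c.2
          rwa [pow_two] at this
        have e0 : v * x₀ * v⁻¹ = c * x₀ := by
          rw [← hne0]; group
        rcases hval x hx with e | e
        · refine Or.inr ⟨h11 x hx ?_, fun hmem => ?_⟩
          · calc v * x = (v * x * v⁻¹ * x⁻¹) * x * v := by group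
              _ = x * v := by rw [e, one_mul]
          · have h14 := mem_centralizer_iff.1 hmem v hv
            have e1 : v * x * v⁻¹ = x := by
              calc v * x * v⁻¹ = (v * x * v⁻¹ * x⁻¹) * x := by group
                _ = x := by rw [e, one_mul]
            have e2 : v * (x * x₀) * v⁻¹ = x * x₀ := by rw [h14]; group
            have e3 : v * (x * x₀) * v⁻¹ = (v * x * v⁻¹) * (v * x₀ * v⁻¹) := by group
            rw [e3, e1, e0] at e2
            have e4 : (c : G) * x₀ = x₀ := mul_left_cancel e2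
            have e5 : (c : G) = 1 := mul_eq_right.1 e4
            exact hc (Subtype.ext e5)
        · refine Or.inl ⟨h11 _ (mul_mem hx hx₀) ?_, fun hmem => ?_⟩
          · have e1 : v * x * v⁻¹ = c * x := by rw [← e]; group
            have e2 : v * (x * x₀) * v⁻¹ = x * x₀ := by
              calc v * (x * x₀) * v⁻¹ = (v * x * v⁻¹) * (v * x₀ * v⁻¹) := by group
                _ = c * x * (c * x₀) := by rw [e1, e0]
                _ = c * (x * c) * x₀ := by group
                _ = (c * c) * x * x₀ := by rw [hxc']; group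
                _ = x * x₀ := by rw [hcc, one_mul]
            calc v * (x * x₀) = (v * (x * x₀) * v⁻¹) * v := by group
              _ = x * x₀ * v := by rw [e2]
          · have h14 := mem_centralizer_iff.1 hmem v hv
            have e2 : v * x * v⁻¹ * x⁻¹ = 1 := by rw [h14]; group
            rw [e2] at e
            exact hc (Subtype.ext e.symm)
    rcases h13 with e | e <;> omega
  obtain ⟨h5, h6, h7, h8⟩ := h.cap (MM_eab P hC) (MM_le_QQ P hC) hlM hlm (by rw [hrl]; exact hrA)
  refine ⟨?_, fun m hm x hx => ?_, l, hl, hlM, hlm, h6⟩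
  · rw [h7]
    have h9 : (centralizer (l : Set G)).relIndex A ≠ 0 := index_ne_zero_of_finite
    have h10 : (centralizer (l : Set G)).relIndex A ≠ 1 := fun e => hlm (relIndex_eq_one.1 e)
    omega
  · obtain ⟨v, hv, e⟩ := h8 m hm x hx
    rw [e]
    exact hcomm v hv x hx

end PPs

end Cfsg.Agent.Omega.NO3S.EThree.ExactA
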