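import Cfsg.Agent.Omega.NO3S.EThree.SpR

/-!
# NO-3S, case (E), TEXT R3 #16982 (4) (helper609), `d = 1`

`H₀ = N(Z₀)`, `H₁ = N(Z₁)` act on `N₀`, `N₁` as symplectic groups with radical `Z₀`, `Z₁` (`SpR`); `Z₁ ≤ V₁ ≤ N₀`,
`Z₀ ≤ V₀ ≤ N₁` are points and totally isotropic lines; `Bᵢ ≥ Nᵢ Vᵢ` is abelian and normal in `Hᵢ`; `[N₀, N₁] ≠ 1`.

* `Four.comm` : `[R₀, B₀] ≤ N₀`, `R₀ = ⟨N₁^{H₀}⟩`;
* `Four.norm_V` : `D ∩ R₀` normalises `V₀`;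
* `Four.le_sup` : `D ≤ F₀ (D ∩ N(V₀))`, `F₀ = C_{H₀}(N₀)`: against STEP F.
-/

set_option autoImplicit false
set_option linter.unusedSectionVars false

namespace Cfsg.Agent.Omega.NO3S.EThree

open Subgroup

variable {G : Type*} [Group G]

variable {F E F' E' : Type*} [Field F] [AddCommGroup E] [Module F E] [Field F'] [AddCommGroup E'] [Module F' E']
  {r r' : ℕ} {B : E →ₗ[F] E →ₗ[F] F} {B' : E' →ₗ[F'] E' →ₗ[F'] F'} {N₀ N₁ Z₀ Z₁ : Subgroup G}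

/-- the hypotheses of (4) -/
structure Four (M₀ : SpR F E r B (normalizer (Z₀ : Set G)) N₀ Z₀) (M₁ : SpR F' E' r' B' (normalizer (Z₁ : Set G)) N₁ Z₁)
    (V₀ V₁ B₀ B₁ L : Subgroup G) (j₀ : Fin r) (u₀ w₀ : E) (j₁ : Fin r') (u₁ w₁ : E') : Prop where
  s₀ : Side M₀ Z₁ V₁ B₁ j₀ u₀ w₀
  s₁ : Side M₁ Z₀ V₀ B₀ j₁ u₁ w₁
  NB₀ : N₀ ≤ B₀
  NB₁ : N₁ ≤ B₁
  HB₀ : normalizer (Z₀ : Set G) ≤ normalizer (B₀ : Set G)
  NV : ∀ x ∈ V₀, x ∈ N₀ → x ∈ Z₀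
  VZ : ∀ x ∈ V₀, x ∈ Z₁ → x = 1
  LV : L ≤ normalizer (V₀ : Set G)
  LC : L ≤ centralizer (Z₁ : Set G)
  Ltr : ∀ x ∈ V₀, ∃ l ∈ L, l * x * l⁻¹ ∈ Z₀
  blk : ∀ j, ∃ u : E, u ≠ 0 ∧ ∀ a : F, ∃ y ∈ N₀, y ∈ centralizer (L : Set G) ∧ At M₀ j (a • u) y
  sq : ∀ x ∈ N₀, x * x = 1
  ne : ∃ g ∈ N₁, ∃ v ∈ N₀, g * v ≠ v * g

/-- the normal closure of `K` under `H` -/
def ncl (H K : Subgroup G) : Subgroup G := closure {x | ∃ h ∈ H, ∃ g ∈ K, x = h * g * h⁻¹}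

theorem mem_ncl {H K : Subgroup G} {h g : G} (hh : h ∈ H) (hg : g ∈ K) : h * g * h⁻¹ ∈ ncl H K :=
  subset_closure ⟨h, hh, g, hg, rfl⟩

theorem le_ncl {H K : Subgroup G} : K ≤ ncl H K := fun g hg => by
  have := mem_ncl (one_mem H) hg
  rwa [one_mul, inv_one, mul_one] at this

theorem ncl_le {H K L : Subgroup G} (h : ∀ x ∈ H, ∀ g ∈ K, x * g * x⁻¹ ∈ L) : ncl H K ≤ L := by
  unfold ncl
  rw [closure_le]
  rintro _ ⟨x, hx, g, hg, rfl⟩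
  exact h x hx g hg

theorem ncl_conj {H K : Subgroup G} {h : G} (hh : h ∈ H) {x : G} (hx : x ∈ ncl H K) : h * x * h⁻¹ ∈ ncl H K := by
  unfold ncl at hx
  induction hx using closure_induction with
  | mem x hx =>
    obtain ⟨y, hy, g, hg, rfl⟩ := hx
    have e : h * (y * g * y⁻¹) * h⁻¹ = (h * y) * g * (h * y)⁻¹ := by group
    rw [e]
    exact mem_ncl (mul_mem hh hy) hg
  | one => rw [mul_one, mul_inv_cancel]; exact one_mem _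
  | mul x y _ _ h1 h2 =>
    have e : h * (x * y) * h⁻¹ = (h * x * h⁻¹) * (h * y * h⁻¹) := by group
    rw [e]
    exact mul_mem h1 h2
  | inv x _ h1 =>
    have e : h * x⁻¹ * h⁻¹ = (h * x * h⁻¹)⁻¹ := by group
    rw [e]
    exact inv_mem h1

/-- elements of `A C`, `C ≤ N(A)` -/
theorem exists_mul_of_sup {A C : Subgroup G} (h : ∀ c ∈ C, ∀ a ∈ A, c * a * c⁻¹ ∈ A) {x : G} (hx : x ∈ A ⊔ C) :
    ∃ a ∈ A, ∃ c ∈ C, x = a * c := by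
  let K : Subgroup G :=
    { carrier := {x | ∃ f ∈ A, ∃ n ∈ C, x = f * n}
      one_mem' := ⟨1, one_mem A, 1, one_mem C, by simp⟩
      mul_mem' := by
        rintro _ _ ⟨f, hf, n, hn, rfl⟩ ⟨f', hf', n', hn', rfl⟩
        exact ⟨f * (n * f' * n⁻¹), mul_mem hf (h n hn f' hf'), n * n', mul_mem hn hn', by group⟩
      inv_mem' := by
        rintro _ ⟨f, hf, n, hn, rfl⟩
        refine ⟨n⁻¹ * f⁻¹ * n⁻¹⁻¹, h _ (inv_mem hn) _ (inv_mem hf), n⁻¹, inv_mem hn, by group⟩ }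
  have hle : A ⊔ C ≤ K := sup_le (fun f hf => ⟨f, hf, 1, one_mem C, by simp⟩)
    fun n hn => ⟨1, one_mem A, n, hn, by simp⟩
  exact hle hx

namespace Four

variable [Finite G] {M₀ : SpR F E r B (normalizer (Z₀ : Set G)) N₀ Z₀}
  {M₁ : SpR F' E' r' B' (normalizer (Z₁ : Set G)) N₁ Z₁} {V₀ V₁ B₀ B₁ L : Subgroup G}
  {j₀ : Fin r} {u₀ w₀ : E} {j₁ : Fin r'} {u₁ w₁ : E'} (D : Four M₀ M₁ V₀ V₁ B₀ B₁ L j₀ u₀ w₀ j₁ u₁ w₁)

include D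

theorem Z₁_le : Z₁ ≤ N₀ := D.s₀.ZV.trans D.s₀.VN

theorem Z₀_le : Z₀ ≤ N₁ := D.s₁.ZV.trans D.s₁.VN

/-- `[R₀, B₀] ≤ N₀` -/
theorem comm {g : G} (hg : g ∈ ncl (normalizer (Z₀ : Set G)) N₁) {x : G} (hx : x ∈ B₀) :
    g ∈ normalizer (Z₀ : Set G) ∧ g * x * g⁻¹ * x⁻¹ ∈ N₀ := by
  -- elements of `N₁`
  have h1 : ∀ y ∈ N₁, ∀ x ∈ B₀, y * x * y⁻¹ * x⁻¹ ∈ N₀ := by
    intro y hy x hx
    obtain ⟨z, hz, z', hz', e⟩ := D.s₁.comm_mem hx hy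
    have h2 : (x * y * x⁻¹ * y⁻¹)⁻¹ ∈ N₀ := by
      rw [e]
      exact inv_mem (mul_mem (D.Z₁_le hz') (D.s₀.ZN hz))
    have e2 : (x * y * x⁻¹ * y⁻¹)⁻¹ = y * x * y⁻¹ * x⁻¹ := by group
    rwa [e2] at h2
  have hN₁H : N₁ ≤ normalizer (Z₀ : Set G) := D.NB₁.trans D.s₀.BH
  let K : Subgroup G :=
    { carrier := {g | g ∈ normalizer (Z₀ : Set G) ∧ ∀ x ∈ B₀, g * x * g⁻¹ * x⁻¹ ∈ N₀}
      one_mem' := ⟨one_mem _, fun x _ => by simp⟩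
      mul_mem' := by
        rintro a b ⟨ha, h1⟩ ⟨hb, h2⟩
        refine ⟨mul_mem ha hb, fun x hx => ?_⟩
        have h3 := M₀.nor a ha _ (h2 x hx)
        have e : a * b * x * (a * b)⁻¹ * x⁻¹ = (a * (b * x * b⁻¹ * x⁻¹) * a⁻¹) * (a * x * a⁻¹ * x⁻¹) := by group
        rw [e]
        exact mul_mem h3 (h1 x hx)
      inv_mem' := by
        rintro a ⟨ha, h1⟩
        refine ⟨inv_mem ha, fun x hx => ?_⟩
        have h3 := M₀.nor a⁻¹ (inv_mem ha) _ (inv_mem (h1 x hx))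
        have e : a⁻¹ * x * a⁻¹⁻¹ * x⁻¹ = a⁻¹ * (a * x * a⁻¹ * x⁻¹)⁻¹ * a⁻¹⁻¹ := by group
        rw [e]
        exact h3 }
  have hle : ncl (normalizer (Z₀ : Set G)) N₁ ≤ K := by
    refine ncl_le fun h hh y hy => ⟨mul_mem (mul_mem hh (hN₁H hy)) (inv_mem hh), fun x hx => ?_⟩
    have hx' : h⁻¹ * x * h ∈ B₀ := by
      have := (mem_normalizer_iff.1 (D.HB₀ (inv_mem hh)) x).1 hx
      rwa [inv_inv] at this
    have h2 := M₀.nor h hh _ (h1 y hy _ hx')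
    have e : h * y * h⁻¹ * x * (h * y * h⁻¹)⁻¹ * x⁻¹ = h * (y * (h⁻¹ * x * h) * y⁻¹ * (h⁻¹ * x * h)⁻¹) * h⁻¹ := by
      group
    rw [e]
    exact h2
  have h2 := hle hg
  exact ⟨h2.1, h2.2 x hx⟩

/-- points of `V₀ Z₁` -/
theorem eq_one {x x' z g : G} (hx : x ∈ V₀) (hx' : x' ∈ V₀) (hz : z ∈ Z₁) (hg : g ∈ normalizer (Z₁ : Set G))
    (e : g * x * g⁻¹ = z * x') : z = 1 := by
  by_contra hz1
  by_cases hx1 : x' = 1
  · rw [hx1, mul_one] at e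
    have h1 : x ∈ Z₁ := (mem_normalizer_iff.1 hg x).2 (e ▸ hz)
    have h2 := D.VZ x hx h1
    rw [h2] at e
    apply hz1
    rw [← e]; group
  · obtain ⟨l, hl, hlx⟩ := D.Ltr x' hx'
    obtain ⟨l', hl', hlx'⟩ := D.Ltr x hx
    have hlz : l * z = z * l := (mem_centralizer_iff.1 (D.LC hl) z hz).symm
    apply D.s₁.f4 z hz _ hlx hz1 (fun h1 => hx1 (conj_eq_one_iff.1 h1)) (l' * (l * g)⁻¹)
    have e1 : z * (l * x' * l⁻¹) = l * g * x * (l * g)⁻¹ := by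
      calc z * (l * x' * l⁻¹) = (z * l) * x' * l⁻¹ := by group
        _ = l * (z * x') * l⁻¹ := by rw [← hlz]; group
        _ = l * g * x * (l * g)⁻¹ := by rw [← e]; group
    have e2 : l' * (l * g)⁻¹ * (l * g * x * (l * g)⁻¹) * (l' * (l * g)⁻¹)⁻¹ = l' * x * l'⁻¹ := by group
    rw [e1, e2]
    exact hlx'

theorem V₀B : V₀ ≤ B₀ := D.s₁.VB

/-- **`D ∩ R₀` normalises `V₀`** -/
theorem norm_V {g : G} (hg : g ∈ ncl (normalizer (Z₀ : Set G)) N₁) (hg1 : g ∈ normalizer (Z₁ : Set G)) :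
    g ∈ normalizer (V₀ : Set G) := by
  have key : ∀ x ∈ V₀, g * x * g⁻¹ ∈ V₀ := by
    intro x hx
    have hgD : g ∈ normalizer (Z₁ : Set G) ⊓ normalizer (Z₀ : Set G) := ⟨hg1, (D.comm hg (D.V₀B hx)).1⟩
    have h1 := (D.comm hg (D.V₀B hx)).2
    have hxN := D.s₁.VN hx
    have hgx := M₁.nor g hg1 x hxN
    have hk : g * x * g⁻¹ * x⁻¹ ∈ N₁ := mul_mem hgx (inv_mem hxN)
    obtain ⟨φ, c, A, hA, -, -, -, hat⟩ := D.s₁.exists_act hgD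
    obtain ⟨a, b, hab⟩ := D.s₁.ln x hx
    have h2 := hat x hxN _ hab
    -- the coordinate of `[g, x]` is in `F u₁`
    obtain ⟨a', ha'⟩ : ∃ a' : F', M₁.e (g * x * g⁻¹ * x⁻¹) j₁ = a' • u₁ := by
      by_contra hcon
      push Not at hcon
      have hK : normalizer (Z₁ : Set G) ⊓ normalizer (Z₀ : Set G) ≤ normalizer ((N₀ ⊓ N₁ : Subgroup G) : Set G) := by
        have kk : ∀ d ∈ normalizer (Z₁ : Set G) ⊓ normalizer (Z₀ : Set G), ∀ x ∈ N₀ ⊓ N₁, d * x * d⁻¹ ∈ N₀ ⊓ N₁ :=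
          fun d hd x hx => mem_inf.2 ⟨M₀.nor d hd.2 x (mem_inf.1 hx).1, M₁.nor d hd.1 x (mem_inf.1 hx).2⟩
        intro d hd
        rw [mem_normalizer_iff]
        intro x
        refine ⟨kk d hd x, fun hx => ?_⟩
        have h2 := kk d⁻¹ (inv_mem hd) _ hx
        have e : d⁻¹ * (d * x * d⁻¹) * d⁻¹⁻¹ = x := by group
        rwa [e] at h2
      obtain ⟨k, hkK, hkw⟩ := D.s₁.key (K := N₀ ⊓ N₁) inf_le_right hK (mem_inf.2 ⟨h1, hk⟩) hcon D.s₁.hwu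
      obtain ⟨w, hw, hww⟩ := D.s₁.ln' 0 1
      rw [zero_smul, zero_add, one_smul] at hww
      have h3 : w * k⁻¹ ∈ Z₁ := M₁.div_mem (D.s₁.VN hw) (mem_inf.1 hkK).2 (SpR.At.eq hww hkw)
      have h4 : w ∈ N₀ := by
        have := mul_mem (D.Z₁_le h3) (mem_inf.1 hkK).1
        rwa [inv_mul_cancel_right] at this
      obtain ⟨b', hb'⟩ := D.s₁.pt w (D.NV w hw h4)
      exact D.s₁.hw b' (hww.1.symm.trans hb'.1)
    have hat' : At M₁ j₁ (a' • u₁) (g * x * g⁻¹ * x⁻¹) := by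
      refine ⟨ha', fun k hk => ?_⟩
      rw [M₁.e_div hgx hxN, Pi.sub_apply, h2.2 k hk, hab.2 k hk, sub_self]
    obtain ⟨z, hz, hza⟩ := D.s₁.pt' a'
    have h3 : g * x * g⁻¹ * x⁻¹ * z⁻¹ ∈ Z₁ := M₁.div_mem hk (D.Z₀_le hz) (SpR.At.eq hat' hza)
    have hzx : z * x ∈ V₀ := mul_mem (D.s₁.ZV hz) hx
    have e1 : g * x * g⁻¹ = (g * x * g⁻¹ * x⁻¹ * z⁻¹) * (z * x) := by group
    have h4 := D.eq_one hx hzx h3 hg1 e1
    rw [h4, one_mul] at e1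
    rw [e1]
    exact hzx
  exact mem_normalizer_fintype key

/-- **(4)**: `D ≤ F₀ (D ∩ N(V₀))` -/
theorem le_sup [Finite F] [Finite F'] [FiniteDimensional F E] :
    normalizer (Z₀ : Set G) ⊓ normalizer (Z₁ : Set G) ≤
      (normalizer (Z₀ : Set G) ⊓ centralizer (N₀ : Set G)) ⊔
        ((normalizer (Z₀ : Set G) ⊓ normalizer (Z₁ : Set G)) ⊓ normalizer (V₀ : Set G)) := by
  have hB' := D.s₁.hB
  have hN₁H : N₁ ≤ normalizer (Z₀ : Set G) := D.NB₁.trans D.s₀.BH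
  -- `F₀ ≤ D`, normal in `H₀`
  have hF0D : normalizer (Z₀ : Set G) ⊓ centralizer (N₀ : Set G) ≤ normalizer (Z₀ : Set G) ⊓ normalizer (Z₁ : Set G) :=
    le_inf inf_le_left (inf_le_right.trans ((centralizer_le D.Z₁_le).trans (centralizer_le_normalizer _)))
  have hF0n : ∀ h ∈ normalizer (Z₀ : Set G), ∀ f ∈ normalizer (Z₀ : Set G) ⊓ centralizer (N₀ : Set G),
      h * f * h⁻¹ ∈ normalizer (Z₀ : Set G) ⊓ centralizer (N₀ : Set G) := by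
    intro h hh f hf
    refine mem_inf.2 ⟨mul_mem (mul_mem hh hf.1) (inv_mem hh), mem_centralizer_iff.2 fun y hy => ?_⟩
    have h1 := M₀.nor h⁻¹ (inv_mem hh) y hy
    rw [inv_inv] at h1
    have h2 := mem_centralizer_iff.1 (mem_inf.1 hf).2 _ h1
    calc y * (h * f * h⁻¹) = h * ((h⁻¹ * y * h) * f) * h⁻¹ := by group
      _ = h * f * h⁻¹ * y := by rw [h2]; group
  have hRH : ncl (normalizer (Z₀ : Set G)) N₁ ≤ normalizer (Z₀ : Set G) :=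
    ncl_le fun h hh y hy => mul_mem (mul_mem hh (hN₁H hy)) (inv_mem hh)
  -- `Θ = (F₀ R₀) ∩ D`
  have hTheta : ∀ y, y ∈ (normalizer (Z₀ : Set G) ⊓ centralizer (N₀ : Set G)) ⊔ ncl (normalizer (Z₀ : Set G)) N₁ →
      y ∈ normalizer (Z₀ : Set G) ⊓ normalizer (Z₁ : Set G) →
      y ∈ (normalizer (Z₀ : Set G) ⊓ centralizer (N₀ : Set G)) ⊔
        ((normalizer (Z₀ : Set G) ⊓ normalizer (Z₁ : Set G)) ⊓ normalizer (V₀ : Set G)) := by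
    intro y hy hyD
    obtain ⟨f, hf, g, hg, rfl⟩ := exists_mul_of_sup (fun c hc a ha => hF0n c (hRH hc) a ha) hy
    have hgD : g ∈ normalizer (Z₀ : Set G) ⊓ normalizer (Z₁ : Set G) := by
      have := mul_mem (inv_mem (hF0D hf)) hyD
      rwa [inv_mul_cancel_left] at this
    exact mul_mem (mem_sup_left hf) (mem_sup_right (mem_inf.2 ⟨hgD, D.norm_V hg hgD.2⟩))
  have hThc : ∀ h ∈ normalizer (Z₀ : Set G), ∀ y ∈ (normalizer (Z₀ : Set G) ⊓ centralizer (N₀ : Set G)) ⊔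
      ncl (normalizer (Z₀ : Set G)) N₁, h * y * h⁻¹ ∈ (normalizer (Z₀ : Set G) ⊓ centralizer (N₀ : Set G)) ⊔
      ncl (normalizer (Z₀ : Set G)) N₁ := by
    intro h hh y hy
    obtain ⟨f, hf, g, hg, rfl⟩ := exists_mul_of_sup (fun c hc a ha => hF0n c (hRH hc) a ha) hy
    have e : h * (f * g) * h⁻¹ = (h * f * h⁻¹) * (h * g * h⁻¹) := by group
    rw [e]
    exact mul_mem (mem_sup_left (hF0n h hh f hf)) (mem_sup_right (ncl_conj hh hg))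
  -- the conjugates of `N₀` under `L`
  have hNl : ∀ l ∈ L, ∀ n ∈ N₀, l * n * l⁻¹ ∈ (normalizer (Z₀ : Set G) ⊓ centralizer (N₀ : Set G)) ⊔
      ncl (normalizer (Z₀ : Set G)) N₁ ∧ l * n * l⁻¹ ∈ normalizer (Z₀ : Set G) ⊓ normalizer (Z₁ : Set G) := by
    intro l hl n hn
    -- `l n l⁻¹` centralises `V₀ ≥ Z₀`
    have hcV : ∀ x ∈ V₀, l * n * l⁻¹ * x = x * (l * n * l⁻¹) := by
      intro x hx
      have h1 : l⁻¹ * x * l ∈ V₀ := by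
        have := (mem_normalizer_iff.1 (inv_mem (D.LV hl)) x).1 hx
        rwa [inv_inv] at this
      have h2 := D.s₁.BB n (D.NB₀ hn) _ (D.V₀B h1)
      calc l * n * l⁻¹ * x = l * (n * (l⁻¹ * x * l)) * l⁻¹ := by group
        _ = x * (l * n * l⁻¹) := by rw [h2]; group
    have hcL : ∀ y ∈ N₀, y ∈ centralizer (L : Set G) → l * n * l⁻¹ * y = y * (l * n * l⁻¹) := by
      intro y hy hyL
      have h1 : l * y = y * l := mem_centralizer_iff.1 hyL l hl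
      have h2 := D.s₀.NN n hn y hy
      calc l * n * l⁻¹ * y = l * n * l⁻¹ * (y * l) * l⁻¹ := by group
        _ = l * (n * y) * l⁻¹ := by rw [← h1]; group
        _ = l * y * n * l⁻¹ := by rw [h2]; group
        _ = y * (l * n * l⁻¹) := by rw [h1]; group
    have hcZ1 : ∀ z ∈ Z₁, l * n * l⁻¹ * z = z * (l * n * l⁻¹) := fun z hz =>
      hcL z (D.Z₁_le hz) (mem_centralizer_iff.2 fun m hm => (mem_centralizer_iff.1 (D.LC hm) z hz).symm)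
    have ht0 : l * n * l⁻¹ ∈ normalizer (Z₀ : Set G) :=
      centralizer_le_normalizer _ (mem_centralizer_iff.2 fun z hz => (hcV z (D.s₁.ZV hz)).symm)
    have ht1 : l * n * l⁻¹ ∈ normalizer (Z₁ : Set G) :=
      centralizer_le_normalizer _ (mem_centralizer_iff.2 fun z hz => (hcZ1 z hz).symm)
    refine ⟨?_, mem_inf.2 ⟨ht0, ht1⟩⟩
    obtain ⟨g, hg, hgH, hgN⟩ := D.s₀.gen (K := N₁) (R := ncl (normalizer (Z₀ : Set G)) N₁) D.NB₁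
      (fun d hd => by
        have kk : ∀ d ∈ normalizer (Z₀ : Set G) ⊓ normalizer (Z₁ : Set G), ∀ x ∈ N₁, d * x * d⁻¹ ∈ N₁ :=
          fun d hd x hx => M₁.nor d hd.2 x hx
        rw [mem_normalizer_iff]
        intro x
        refine ⟨kk d hd x, fun hx => ?_⟩
        have h2 := kk d⁻¹ (inv_mem hd) _ hx
        have e : d⁻¹ * (d * x * d⁻¹) * d⁻¹⁻¹ = x := by group
        rwa [e] at h2) D.ne (fun h hh g hg => mem_ncl hh hg) ht0 (fun z hz => hcV z (D.s₁.ZV hz))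
      (by
        have e : l * n * l⁻¹ * (l * n * l⁻¹) = l * (n * n) * l⁻¹ := by group
        rw [e, D.sq n hn]; group)
      (fun j => by
        obtain ⟨u, hu, hy⟩ := D.blk j
        refine ⟨u, hu, fun a => ?_⟩
        obtain ⟨y, hyN, hyL, hya⟩ := hy a
        refine ⟨y, hyN, hya, ?_⟩
        rw [hcL y hyN hyL]; group)
    have e : l * n * l⁻¹ = (l * n * l⁻¹ * g⁻¹) * g := by group
    rw [e]
    refine mul_mem (mem_sup_left (mem_inf.2 ⟨mul_mem ht0 (inv_mem hgH), mem_centralizer_iff.2 fun v hv => ?_⟩))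
      (mem_sup_right hg)
    exact (hgN v hv).symm
  -- all transvections with centre `w ∈ u₁^⊥ - F u₁`
  obtain ⟨x₁, hx₁, hx₁w⟩ := D.s₁.ln' 0 1
  rw [zero_smul, zero_add, one_smul] at hx₁w
  have htw : ∀ b : F', ∃ y, y ∈ (normalizer (Z₀ : Set G) ⊓ centralizer (N₀ : Set G)) ⊔
      ncl (normalizer (Z₀ : Set G)) N₁ ∧ y ∈ normalizer (Z₀ : Set G) ⊓ normalizer (Z₁ : Set G) ∧
      On M₁ j₁ (tvn B' w₁ b) y := by
    intro b
    obtain ⟨l, hl, hlx⟩ := D.Ltr x₁ hx₁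
    have hl1 : l⁻¹ ∈ normalizer (Z₁ : Set G) := inv_mem (centralizer_le_normalizer _ (D.LC hl))
    obtain ⟨σ, hσ⟩ := M₁.act _ hl1
    obtain ⟨a, ha⟩ := D.s₁.pt _ hlx
    have hlxN : l * x₁ * l⁻¹ ∈ N₁ := D.Z₀_le hlx
    have e0 : l⁻¹ * (l * x₁ * l⁻¹) * l⁻¹⁻¹ = x₁ := by group
    have hw10 : w₁ ≠ 0 := fun h0 => D.s₁.hw 0 (by rw [h0, zero_smul])
    have hσj : σ j₁ = j₁ := by
      refine M₁.perm_eq hσ hlxN ha ?_
      rw [e0, hx₁w.1]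
      exact hw10
    obtain ⟨φ, c, A, hA, hAe⟩ := hσ j₁
    have hs := fun y => M₁.act_surj hl1 hAe y
    have hc := SpR.c_ne hB' D.s₁.hu hA hs
    have hAu : φ a • A u₁ = w₁ := by
      have h1 := hAe _ hlxN
      rw [hσj, e0, hx₁w.1, ha.1, hA.smul] at h1
      exact h1.symm
    have ha0 : φ a ≠ 0 := fun h0 => hw10 (by rw [← hAu, h0, zero_smul])
    obtain ⟨n, hn, hnon⟩ := D.s₁.full (K := N₀) D.NB₀ (fun d hd => by
        have kk : ∀ d ∈ normalizer (Z₁ : Set G) ⊓ normalizer (Z₀ : Set G), ∀ x ∈ N₀, d * x * d⁻¹ ∈ N₀ :=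
          fun d hd x hx => M₀.nor d hd.2 x hx
        rw [mem_normalizer_iff]
        intro x
        refine ⟨kk d hd x, fun hx => ?_⟩
        have h2 := kk d⁻¹ (inv_mem hd) _ hx
        have e : d⁻¹ * (d * x * d⁻¹) * d⁻¹⁻¹ = x := by group
        rwa [e] at h2) (by
        obtain ⟨g, hg, v, hv, hgv⟩ := D.ne
        exact ⟨v, hv, g, hg, fun h1 => hgv h1.symm⟩) (φ.symm (b * (φ a * φ a) * c))
    have h1 := SpR.On.conj (M := M₁) hl1 hσ hA hAe (u := u₁) hc (D.s₁.BH (D.NB₀ hn)) hnon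
    rw [hσj, φ.apply_symm_apply, mul_assoc, mul_inv_cancel₀ hc, mul_one] at h1
    have h2 : tvn B' (A u₁) (b * (φ a * φ a)) = tvn B' w₁ b := by
      funext x
      unfold tvn
      rw [← hAu, map_smul, smul_eq_mul, smul_smul]
      congr 2
      ring
    rw [h2, inv_inv] at h1
    have h3 := hNl l⁻¹ (inv_mem hl) n hn
    rw [inv_inv] at h3
    exact ⟨_, h3.1, h3.2, h1⟩
  have hne0 : ∀ {x : E'}, x ≠ 0 → ∀ a : F', x ≠ a • (0 : E') := fun hx a h => hx (by rw [h, smul_zero])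
  have htall : ∀ w : E', B' w u₁ = 0 → (∀ a : F', w ≠ a • u₁) → ∀ b : F', ∃ y,
      y ∈ (normalizer (Z₀ : Set G) ⊓ centralizer (N₀ : Set G)) ⊔ ncl (normalizer (Z₀ : Set G)) N₁ ∧
      y ∈ normalizer (Z₀ : Set G) ⊓ normalizer (Z₁ : Set G) ∧ On M₁ j₁ (tvn B' w b) y := by
    intro w hw hwu b
    obtain ⟨v₁, v₂, a₁, a₂, hv₁, hv₂, -, -, hmv⟩ := hB'.tra D.s₁.hwu D.s₁.hw hw hwu
    obtain ⟨d₁, hd₁, -, hon₁⟩ := D.s₁.exists_lift j₁ v₁ a₁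
    obtain ⟨d₂, hd₂, -, hon₂⟩ := D.s₁.exists_lift j₁ v₂ a₂
    have hd₁D := D.s₁.lift_mem hd₁ hon₁ (Or.inr (by rw [hB'.symm]; exact hv₁))
    have hd₂D := D.s₁.lift_mem hd₂ hon₂ (Or.inr (by rw [hB'.symm]; exact hv₂))
    have hon := SpR.On.mul hd₁ hon₂ hon₁
    have hd : d₂ * d₁ ∈ normalizer (Z₁ : Set G) := mul_mem hd₂ hd₁
    have hdD : d₂ * d₁ ∈ normalizer (Z₁ : Set G) ⊓ normalizer (Z₀ : Set G) := mul_mem hd₂D hd₁D
    have ht₁ := hB'.tvn_sim v₁ a₁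
    have ht₂ := hB'.tvn_sim v₂ a₂
    have hsim : Sim B' (RingEquiv.refl F') 1 fun x => tvn B' v₂ a₂ (tvn B' v₁ a₁ x) := by
      refine ⟨fun x y => ?_, fun c x => ?_, fun x y => ?_⟩
      · rw [ht₁.add, ht₂.add]
      · rw [ht₁.smul, ht₂.smul]; rfl
      · rw [ht₂.form, ht₁.form]; simp
    obtain ⟨σ, hσ⟩ := M₁.act _ hd
    have hσj := D.s₁.perm_fix hdD hσ
    obtain ⟨y, hy1, hy2, hyon⟩ := htw b
    have h1 := SpR.On.conj (M := M₁) hd hσ hsim (fun v hv => by rw [hσj]; exact (hon v hv).1) (u := w₁) one_ne_zero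
      hy2.2 hyon
    rw [hσj, hmv, RingEquiv.refl_apply, inv_one, mul_one] at h1
    exact ⟨_, hThc _ hdD.2 y hy1, mul_mem (mul_mem (mem_inf.2 ⟨hdD.2, hdD.1⟩) hy2) (inv_mem (mem_inf.2 ⟨hdD.2, hdD.1⟩)),
      h1⟩
  -- the main step
  intro d hd
  have hd' : d ∈ normalizer (Z₁ : Set G) ⊓ normalizer (Z₀ : Set G) := ⟨hd.2, hd.1⟩
  obtain ⟨φ, c, A, hA, ⟨b, hb⟩, hs, hc, hat⟩ := D.s₁.exists_act hd'
  have hx₁N := D.s₁.VN hx₁
  have h1 := hat x₁ hx₁N _ hx₁w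
  have hb0 : b ≠ 0 := fun h0 => D.s₁.hu (SpR.inj_of hB' hA hs (by rw [hb, h0, zero_smul]))
  have hAw : B' (A w₁) u₁ = 0 := by
    have h2 := hA.form w₁ u₁
    rw [D.s₁.hwu, map_zero, mul_zero, hb, map_smul, smul_eq_mul] at h2
    exact (mul_eq_zero.1 h2).resolve_left hb0
  have hAwu : ∀ a : F', A w₁ ≠ a • u₁ := by
    intro a ha
    have h2 : A (w₁ - φ.symm (a * b⁻¹) • u₁) = 0 := by
      rw [hA.sub, hA.smul, φ.apply_symm_apply, hb, smul_smul, mul_assoc, inv_mul_cancel₀ hb0, mul_one, ha, sub_self]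
    exact D.s₁.hw _ (sub_eq_zero.1 (SpR.inj_of hB' hA hs h2))
  obtain ⟨v₁, v₂, a₁, a₂, hv₁, hv₂, hv₁u, hv₂u, hmv⟩ := hB'.tra hAw hAwu D.s₁.hwu D.s₁.hw
  obtain ⟨y₁, hy₁, hy₁D, hon₁⟩ := htall v₁ hv₁ hv₁u a₁
  obtain ⟨y₂, hy₂, hy₂D, hon₂⟩ := htall v₂ hv₂ hv₂u a₂
  have hon := SpR.On.mul hy₁D.2 hon₂ hon₁
  have hyD : y₂ * y₁ ∈ normalizer (Z₀ : Set G) ⊓ normalizer (Z₁ : Set G) := mul_mem hy₂D hy₁D
  have h2 := SpR.On.at hon (M₁.nor d hd.2 x₁ hx₁N) h1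
  rw [hmv] at h2
  have hδ : y₂ * y₁ * d ∈ normalizer (Z₀ : Set G) ⊓ normalizer (Z₁ : Set G) := mul_mem hyD hd
  have e1 : y₂ * y₁ * (d * x₁ * d⁻¹) * (y₂ * y₁)⁻¹ = y₂ * y₁ * d * x₁ * (y₂ * y₁ * d)⁻¹ := by group
  rw [e1] at h2
  -- `δ = y₂ y₁ d` normalises `V₀`
  have hδV : y₂ * y₁ * d ∈ normalizer (V₀ : Set G) := by
    obtain ⟨φ', c', A', hA', ⟨b', hb'⟩, -, -, hat'⟩ := D.s₁.exists_act (d := y₂ * y₁ * d) ⟨hδ.2, hδ.1⟩
    have hA'w : A' w₁ = w₁ := by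
      rw [← (hat' x₁ hx₁N _ hx₁w).1, h2.1]
    refine mem_normalizer_fintype fun x hx => ?_
    obtain ⟨α, β, hαβ⟩ := D.s₁.ln x hx
    have h3 := hat' x (D.s₁.VN hx) _ hαβ
    rw [hA'.add, hA'.smul, hA'.smul, hb', hA'w, smul_smul] at h3
    obtain ⟨x', hx', hx'at⟩ := D.s₁.ln' (φ' α * b') (φ' β)
    have h4 := M₁.div_mem (M₁.nor _ hδ.2 x (D.s₁.VN hx)) (D.s₁.VN hx') (SpR.At.eq h3 hx'at)
    have e2 : y₂ * y₁ * d * x * (y₂ * y₁ * d)⁻¹ = (y₂ * y₁ * d * x * (y₂ * y₁ * d)⁻¹ * x'⁻¹) * x' := by group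
    have h5 := D.eq_one hx hx' h4 hδ.2 e2
    rw [h5, one_mul] at e2
    rw [e2]
    exact hx'
  have e3 : d = (y₂ * y₁)⁻¹ * (y₂ * y₁ * d) := by group
  rw [e3]
  refine mul_mem (inv_mem (hTheta _ (mul_mem hy₂ hy₁) hyD)) (mem_sup_right (mem_inf.2 ⟨hδ, hδV⟩))

end Four

end Cfsg.Agent.Omega.NO3S.EThree
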