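import Cfsg.Agent.Omega.OM.PG.Peel
import Cfsg.Agent.Omega.OM.PG.Int
import Cfsg.Agent.ZN.ChoiceSit

/-!
# NO-3S, case (E), `k = 2`, all `q`: the frame (helper997 TEXT Q4 #20474)

`FQ Z U B q` : `PG.PP Z U`, points of order `q`, lines of order `q²`, TI, fusion in `Z 0 Z 1` ((0.2)), `B` a Sylow
2-subgroup of `C_G(Z 0 Z 1)` which induces on `U i` a full root group with centre `Z i`; `L_i` (`mvl`), torus (`tor`).

`Crd F B U Z f g c` : root group coordinates, `g [b, x] = c b * f x`.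
-/

set_option autoImplicit false
set_option linter.unusedSectionVars false

namespace Cfsg.Agent.Omega.NO3S.EThree

open Subgroup Cfsg Cfsg.Agent.ZN Cfsg.Agent.Omega.MinPar
open Cfsg.Agent.Omega.NoFF.Basic (conj_conj mem_conj conj_le_iff conj_le_centralizer comm_symm comm_mono)
open Cfsg.Agent.Omega.NOThreeL.Pair (conj_eq_of_mem)
open Cfsg.Agent.Omega.OM.PG
open Cfsg.Agent.ZN.ChoiceSit (Syl)
open scoped Pointwise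

universe u

variable {G : Type u} [Group G]

/-- Root group coordinates on a line `U` with point `Z`. -/
structure Crd (F : Type) [Field F] (B U Z : Subgroup G) (f g c : G → F) : Prop where
  fm : ∀ x ∈ U, ∀ y ∈ U, f (x * y) = f x + f y
  f0 : ∀ x ∈ U, f x = 0 ↔ x ∈ Z
  fs : ∀ t, ∃ x ∈ U, f x = t
  gm : ∀ x ∈ Z, ∀ y ∈ Z, g (x * y) = g x + g y
  g0 : ∀ x ∈ Z, g x = 0 → x = 1
  gs : ∀ t, ∃ x ∈ Z, g x = t
  cs : ∀ t, ∃ b ∈ B, c b = t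
  com : ∀ b ∈ B, ∀ x ∈ U, g (b * x * b⁻¹ * x⁻¹) = c b * f x

/-- **The frame of TEXT Q4**: case (E), `k = 2`, points of order `q`. -/
structure FQ (Z U : Fin 2 → Subgroup G) (B : Subgroup G) (q : ℕ) : Prop extends PP Z U where
  cardZ : ∀ i, Nat.card (Z i) = q
  cardU : ∀ i, Nat.card (U i) = q ^ 2
  ZU' : ∀ i, Z i ≤ U i
  sqU : ∀ i, ∀ x ∈ U i, x ^ 2 = 1
  inf : U 0 ⊓ U 1 = ⊥
  /-- TI -/
  ti : ∀ a b, IsPt Z a → IsPt Z b → ∀ x ∈ a, x ∈ b → x ≠ 1 → a = b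
  /-- (0.2) -/
  fus : ∀ a, IsPt Z a → ∀ x ∈ a, x ∈ Z 0 ⊔ Z 1 → x ≠ 1 → a = Z 0 ∨ a = Z 1
  cen : ∀ i, QQ (Z i) ≤ centralizer (Z i : Set G)
  UQ' : ∀ i, U i ≤ QQ (Z i)
  half : ∀ i j, i ≠ j → U j ≤ QQ (Z i) ∧ U j ≤ centralizer (QQ (Z i) : Set G)
  /-- the lines on a point commute -/
  ab : ∀ a l l', LnOn Z U a l → LnOn Z U a l' → l ≤ centralizer (l' : Set G)
  /-- `B` is a Sylow 2-subgroup of `D = C_G(Z 0 Z 1)` -/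
  syl : Syl B (centralizer ((Z 0 ⊔ Z 1 : Subgroup G) : Set G))
  swB : ∃ s : G, MulAut.conj s • B = B ∧ MulAut.conj s • Z 0 = Z 1 ∧ MulAut.conj s • Z 1 = Z 0 ∧
    MulAut.conj s • U 0 = U 1 ∧ MulAut.conj s • U 1 = U 0
  com : ∀ i, ∀ b ∈ B, ∀ x ∈ U i, b * x * b⁻¹ * x⁻¹ ∈ Z i
  free : ∀ i, ∀ b ∈ B, ∀ x ∈ U i, x ∉ Z i → b * x = x * b → b ∈ centralizer (U i : Set G)
  /-- the full root group of `U i`, centralising `U j` -/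
  root : ∀ i j, i ≠ j → ∀ x ∈ U i, x ∉ Z i → ∀ z ∈ Z i, ∃ b ∈ B, b ∈ centralizer (U j : Set G) ∧
    b * x * b⁻¹ * x⁻¹ = z
  /-- `Ω₁Z(B) ≤ Z 0 Z 1` -/
  zB : ∀ x ∈ B, x ^ 2 = 1 → (∀ b ∈ B, b * x = x * b) → x ∈ Z 0 ⊔ Z 1
  /-- `Ω₁Z(Q) ≤ V = U 0 U 1`, `Q = C_B(V)` -/
  zQ : ∀ x ∈ B, (∀ i, x ∈ centralizer (U i : Set G)) → x ^ 2 = 1 →
    (∀ b ∈ B, (∀ i, b ∈ centralizer (U i : Set G)) → b * x = x * b) → x ∈ U 0 ⊔ U 1
  /-- an element of `L_i` moving `Z i` -/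
  mvl : ∀ i j, i ≠ j → ∃ l : G, MulAut.conj l • U i = U i ∧ MulAut.conj l • Z i ⊓ Z i = ⊥ ∧
    l ∈ centralizer (Z j : Set G) ∧ MulAut.conj l • (B ⊓ centralizer (U i : Set G)) = B ⊓ centralizer (U i : Set G) ∧
    MulAut.conj l • (B ⊓ centralizer (U i : Set G) ⊓ centralizer (U j : Set G)) =
      B ⊓ centralizer (U i : Set G) ⊓ centralizer (U j : Set G)
  /-- the torus of `L_i` -/
  tor : ∀ i j, i ≠ j → ∀ x ∈ U i, x ∉ Z i → ∀ y ∈ U i, y ∉ Z i → ∃ h : G, h ∈ centralizer (U j : Set G) ∧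
    MulAut.conj h • Z i = Z i ∧ MulAut.conj h • U i = U i ∧ y⁻¹ * (h * x * h⁻¹) ∈ Z i

/-- `O = O₂(C_G(Z 0 Z 1))` -/
abbrev OO (Z : Fin 2 → Subgroup G) : Subgroup G := o2 (centralizer ((Z 0 ⊔ Z 1 : Subgroup G) : Set G))

/-- `(NO)` for `O` on `N_i` -/
def NoDQ (Z : Fin 2 → Subgroup G) : Prop :=
  ∀ i, ∀ A : Subgroup G, IsElementaryAbelian 2 A → A ≤ OO Z →
    (centralizer (NN Z (Z i) : Set G)).relIndex A ≤ (centralizer (A : Set G)).relIndex (NN Z (Z i))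

/-- `(NO)` for `O` on `N_i / Z i` -/
def NoQQ (Z : Fin 2 → Subgroup G) : Prop :=
  ∀ i, ∀ A : Subgroup G, IsElementaryAbelian 2 A → A ≤ OO Z →
    ∀ M : Subgroup G, M ≤ NN Z (Z i) → (∀ m ∈ M, ∀ b ∈ A, m * b * m⁻¹ * b⁻¹ ∈ Z i) →
      (centralizer (NN Z (Z i) : Set G)).relIndex A ≤ M.relIndex (NN Z (Z i))

end Cfsg.Agent.Omega.NO3S.EThree
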