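import Cfsg.Agent.Omega.NO3S.EThree.FrQB
import Cfsg.Agent.Omega.IId.SideOf

/-!
# THEOREM I for all `q` (`k = 2`; helper997 #20474 (4), helper452 #22256)

`D : FQ Z U B q`, `O = OO Z = O₂(C_G(Z 0 Z 1))`.

* `FQ.lift` : (0) LIFTING; `FQ.exact_AA` : members of `AA O` are exact on `N_i`;
* `FQ.exists_moves` : some `A ∈ AA O` moves `N_i`; `FQ.exists_mv` : with THEOREM G some `A ∈ AA O` moves `U i`;
* `FQ.int_one` : `A ∈ AA O` moves `U i`, `n ∈ N_j`, `[n, B] ≤ Z 0 Z 1` : `n = u c`, `u ∈ U i`, `[c, A] = 1`, `[c, B] ≤ Z j`;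
* `FQ.inter` : **THEOREM I** : if members of `AA O` move `U 0`, `U 1` then `N_0 ∩ N_1 ≤ Z 0 Z 1` (`Z i ≤ N_i`).
No LEMMA FIX, no swap, every level.
-/

set_option autoImplicit false
set_option linter.unusedSectionVars false

namespace Cfsg.Agent.Omega.NO3S.EThree

open Subgroup Cfsg Cfsg.Agent.ZN Cfsg.Agent.Omega.MinPar
open Cfsg.Agent.Omega.NoFF.Basic (conj_conj mem_conj conj_le_iff conj_le_centralizer comm_symm comm_mono)
open Cfsg.Agent.Omega.NOThreeL.Pair (conj_eq_of_mem)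
open Cfsg.Agent.Omega.OM.PG
open Cfsg.Agent.Omega.OM.PG.Int (Ex rix_ne)
open Cfsg.Agent.Omega.OM.PG.Peel (Nob Exa)
open Cfsg.Agent.Omega.NO3S.EThree.ExactA (eab_iff eab_mono eab_sup swp)
open Cfsg.Agent.ZN.ChoiceSit (Syl o2_le_syl)
open Cfsg.Agent.ZN.ChoiceBase (AA mm mm_eq mem_AA_iff AA_nonempty card_le_mm cj_mem_AA mm_cj mm_mono jj_eq_of_jj_le)
open Cfsg.Agent.Omega.NO3S.ML (card_mul_relIndex card_sup_mul_of_comm)
open scoped Pointwise

universe u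

variable {G : Type u} [Group G]

namespace FQ

variable {Z U : Fin 2 → Subgroup G} {B : Subgroup G} {q : ℕ} [Finite G] (D : FQ Z U B q)
include D

/-- **(0) LIFTING.** -/
theorem lift (hQ : NoQQ Z) {i : Fin 2} {A : Subgroup G} (hA : IsElementaryAbelian 2 A) (hAO : A ≤ OO Z)
    (hE : Ex A (NN Z (Z i))) {n : G} (hn : n ∈ NN Z (Z i)) (h : ∀ b ∈ A, n * b * n⁻¹ * b⁻¹ ∈ Z i) :
    n ∈ centralizer (A : Set G) := by
  have hz : ∀ m ∈ NN Z (Z i), ∀ z ∈ Z i, m * z * m⁻¹ = z := by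
    intro m hm z hz
    have h1 := mem_centralizer_iff.1 (D.cen i (D.NQ i hm)) z hz
    rw [← h1, mul_inv_cancel_right]
  let K : Subgroup G :=
    { carrier := {m | m ∈ NN Z (Z i) ∧ ∀ b ∈ A, m * b * m⁻¹ * b⁻¹ ∈ Z i}
      one_mem' := ⟨one_mem _, fun b _ => by simp⟩
      mul_mem' := by
        rintro m m' ⟨h1, h2⟩ ⟨h3, h4⟩
        refine ⟨mul_mem h1 h3, fun b hb => ?_⟩
        have e : m * m' * b * (m * m')⁻¹ * b⁻¹ = m * (m' * b * m'⁻¹ * b⁻¹) * m⁻¹ * (m * b * m⁻¹ * b⁻¹) := by group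
        rw [e, hz m h1 _ (h4 b hb)]
        exact mul_mem (h4 b hb) (h2 b hb)
      inv_mem' := by
        rintro m ⟨h1, h2⟩
        refine ⟨inv_mem h1, fun b hb => ?_⟩
        have e : m⁻¹ * b * m⁻¹⁻¹ * b⁻¹ = m⁻¹ * (m * b * m⁻¹ * b⁻¹)⁻¹ * m⁻¹⁻¹ := by group
        rw [e, hz m⁻¹ (inv_mem h1) _ (inv_mem (h2 b hb))]
        exact inv_mem (h2 b hb) }
  have hKN : K ≤ NN Z (Z i) := fun m hm => hm.1
  have h1 := hQ i A hA hAO K hKN fun m hm => hm.2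
  have hle : NN Z (Z i) ⊓ centralizer (A : Set G) ≤ K := by
    rintro m ⟨h2, h3⟩
    refine ⟨h2, fun b hb => ?_⟩
    have e : m * b * m⁻¹ * b⁻¹ = 1 := by rw [← mem_centralizer_iff.1 h3 b hb]; group
    rw [e]; exact one_mem _
  have h2 := relIndex_mul_relIndex _ _ _ hle hKN
  have h3 : (NN Z (Z i) ⊓ centralizer (A : Set G)).relIndex (NN Z (Z i)) =
      (centralizer (A : Set G)).relIndex (NN Z (Z i)) := inf_relIndex_left _ _
  have hE' : (centralizer (NN Z (Z i) : Set G)).relIndex A = (centralizer (A : Set G)).relIndex (NN Z (Z i)) := hE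
  rw [h3, ← hE'] at h2
  have h4 : (NN Z (Z i) ⊓ centralizer (A : Set G)).relIndex K * K.relIndex (NN Z (Z i)) ≤
      1 * K.relIndex (NN Z (Z i)) := by rw [h2, one_mul]; exact h1
  have h5 : (NN Z (Z i) ⊓ centralizer (A : Set G)).relIndex K ≤ 1 :=
    Nat.le_of_mul_le_mul_right h4 (Nat.pos_of_ne_zero (rix_ne _ _))
  have h6 := rix_ne (NN Z (Z i) ⊓ centralizer (A : Set G)) K
  have h7 : K ≤ NN Z (Z i) ⊓ centralizer (A : Set G) := relIndex_eq_one.1 (by omega)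
  exact (h7 (⟨hn, h⟩ : n ∈ K)).2

/-- every `A ∈ AA O` is exact on `N_i` -/
theorem exact_AA (hNO : NoDQ Z) (i : Fin 2) {A : Subgroup G} (hA : A ∈ AA (OO Z)) :
    Ex A (NN Z (Z i)) ∧ NN Z (Z i) ⊓ centralizer (A : Set G) ≤ A ∧
      (A ⊓ centralizer (NN Z (Z i) : Set G)) ⊔ NN Z (Z i) ∈ AA (OO Z) :=
  swp (D.N_eab i) (D.N_le_O i) hA (hNO i A hA.1 hA.2.1)

/-- an elementary of `O` centralising `N_i` lies in `Q_i` -/
theorem O_inf_le (i : Fin 2) : OO Z ⊓ centralizer (NN Z (Z i) : Set G) ≤ QQ (Z i) := by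
  set X : Subgroup G := centralizer ((Z 0 ⊔ Z 1 : Subgroup G) : Set G) with hX
  -- `F = C(Z i) ∩ C(N_i)` is normal in `H_i` and contained in `X`
  set F : Subgroup G := centralizer (Z i : Set G) ⊓ centralizer (NN Z (Z i) : Set G) with hF
  have hFX : F ≤ X := by
    rw [hX, le_centralizer_iff]
    have key : ∀ k, Z k ≤ centralizer (F : Set G) := by
      intro k
      by_cases hik : i = k
      · rw [← hik]; exact comm_symm inf_le_left
      · refine comm_symm (inf_le_right.trans (centralizer_le ?_))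
        exact SetLike.coe_subset_coe.2 (D.adj hik).le_NN
    exact sup_le (key 0) (key 1)
  have hHF : HH (Z i) ≤ normalizer (F : Set G) :=
    NO3L.LemP.le_normalizer_inf (NO3L.LemP.normalizer_le_normalizer_cent (Z i))
      ((D.HH_norm_N i).trans (NO3L.LemP.normalizer_le_normalizer_cent (NN Z (Z i))))
  have h1 : OO Z ⊓ centralizer (NN Z (Z i) : Set G) ≤ OO Z ⊓ F := by
    refine le_inf inf_le_left (le_inf (inf_le_left.trans ?_) inf_le_right)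
    exact (D.O_le_B.trans D.B_le).trans (D.D_le_cent i)
  have h2 : OO Z ⊓ F ≤ o2 F := by
    refine MinSimple.VModule.le_o2 inf_le_right ((MinSimple.VModule.o2_isPGroup _).to_le inf_le_left) ?_
    refine NO3L.LemP.le_normalizer_inf ?_ le_normalizer
    exact hFX.trans (MinSimple.VModule.le_normalizer_o2 _)
  have h3 : o2 F ≤ QQ (Z i) := by
    refine MinSimple.VModule.le_o2 ?_ (MinSimple.VModule.o2_isPGroup _)
      (hHF.trans (Cfsg.Agent.Omega.normalizer_le_normalizer_o2' _))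
    exact (MinSimple.VModule.o2_le _).trans (inf_le_left.trans (centralizer_le_normalizer _))
  exact h1.trans (h2.trans h3)

/-- some `A ∈ AA O` moves `N_i` -/
theorem exists_moves (hNO : NoDQ Z) (i : Fin 2) : ∃ A ∈ AA (OO Z), ¬ A ≤ centralizer (NN Z (Z i) : Set G) := by
  by_contra hcon
  push Not at hcon
  have h1 : jj (OO Z) ≤ QQ (Z i) := by
    refine le_trans (le_inf (ChoiceBase.jj_le _) ?_) (D.O_inf_le i)
    rw [ChoiceBase.jj_eq]
    exact sSup_le hcon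
  -- the swap
  obtain ⟨s, hsB, hs0, hs1, -, -⟩ := D.swB
  have hO : MulAut.conj s • OO Z = OO Z := by
    have h2 : MulAut.conj s • (Z 0 ⊔ Z 1) = Z 0 ⊔ Z 1 := by
      rw [Subgroup.smul_sup, hs0, hs1, sup_comm]
    have h3 : s ∈ normalizer ((Z 0 ⊔ Z 1 : Subgroup G) : Set G) := ChoiceBase.mem_normalizer_iff_cj.2 h2
    have h4 := NO3L.LemP.normalizer_le_normalizer_cent (Z 0 ⊔ Z 1) h3
    exact conj_eq_of_mem (Cfsg.Agent.Omega.normalizer_le_normalizer_o2' _ h4)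
  have hJ : MulAut.conj s • jj (OO Z) = jj (OO Z) := by
    have h3 := ChoiceBase.jj_cj s (OO Z)
    have h4 : ChoiceBase.cj s (OO Z) = OO Z := hO
    rw [h4] at h3
    exact h3.symm
  have hall : ∀ k, jj (OO Z) ≤ QQ (Z k) := by
    intro k
    have hsw : ∀ a b : Fin 2, a ≠ b → MulAut.conj s • Z a = Z b := by
      intro a b hab
      have h2 := fin_two_pair hab
      rcases h2 with ⟨rfl, rfl⟩ | ⟨rfl, rfl⟩
      · exact hs0
      · exact hs1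
    by_cases hik : i = k
    · rw [← hik]; exact h1
    · have h2 := conj_le_iff (g := s) |>.2 h1
      rwa [hJ, ← QQ_conj, hsw i k hik] at h2
  have h5 : ∀ k, HH (Z k) ≤ normalizer (jj (OO Z) : Set G) := by
    intro k
    rw [← jj_eq_of_jj_le (hall k) (D.Q_le_O k)]
    exact (MinSimple.VModule.le_normalizer_o2 _).trans (ChoiceBase.normalizer_le_jj _)
  have h6 := D.nonLoc (jj (OO Z)) ((MinSimple.VModule.o2_isPGroup _).to_le (ChoiceBase.jj_le _)) (h5 0) (h5 1)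
  obtain ⟨A, hA⟩ := AA_nonempty (OO Z)
  have h7 := (D.exact_AA hNO 1 hA).2.1
  have h8 : Z 0 ≤ A := by
    refine le_trans (le_inf (D.adj (by decide : (1 : Fin 2) ≠ 0)).le_NN ?_) h7
    intro z hz
    exact mem_centralizer_iff.2 fun a ha => D.cBZ 0 (D.O_le_B (hA.2.1 ha)) hz
  have h9 := h8.trans (ChoiceBase.le_jj hA)
  rw [h6, le_bot_iff] at h9
  exact D.ne h9

/-- **(1)** with THEOREM G: some `A ∈ AA O` moves `U i`. -/
theorem exists_mv (hNO : NoDQ Z) (hG : OM.PG.Peel.ThmG Z (OM.PG.Peel.XW Z U)) (i : Fin 2) :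
    ∃ A ∈ AA (OO Z), ¬ A ≤ centralizer (U i : Set G) := by
  set X : Subgroup G := OM.PG.Peel.XW Z U (Z i) with hX
  have hNX : NN Z (Z i) ≤ X := le_sup_left
  have hXe : IsElementaryAbelian 2 X := D.XW_eab i
  have hXO : X ≤ OO Z := (D.XW_le_Q i).trans (D.Q_le_O i)
  obtain ⟨A, hA, hmv⟩ := D.exists_moves hNO i
  obtain ⟨hex, -, hB⟩ := D.exact_AA hNO i hA
  set K := (A ⊓ centralizer (NN Z (Z i) : Set G)) ⊔ NN Z (Z i) with hKdef
  by_contra hcon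
  push Not at hcon
  have hKC : K ≤ centralizer (NN Z (Z i) : Set G) := sup_le inf_le_right (D.N_comm i)
  have hKQ : K ≤ QQ (Z i) := (le_inf hB.2.1 hKC).trans (D.O_inf_le i)
  have hKX : K ≤ centralizer (X : Set G) := by
    refine comm_symm (sup_le (comm_symm hKC) (iSup_le fun l => comm_symm ?_))
    obtain ⟨c, hc, e⟩ := D.ln_conj l.2
    have h1 : MulAut.conj c⁻¹ • K ∈ AA (OO Z) := by
      have h2 := cj_mem_AA c⁻¹ hB
      rw [mem_AA_iff] at hB ⊢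
      refine ⟨h2.1, ?_, ?_⟩
      · have h3 := conj_le_iff (g := c⁻¹) |>.2 hKQ
        have h4 : MulAut.conj c⁻¹ • QQ (Z i) = QQ (Z i) :=
          conj_eq_of_mem (MinSimple.VModule.le_normalizer_o2 _ (inv_mem hc))
        rw [h4] at h3
        exact h3.trans (D.Q_le_O i)
      · have h3 : Nat.card (MulAut.conj c⁻¹ • K : Subgroup G) = Nat.card K := ChoiceBase.card_cj c⁻¹ K
        rw [h3]; exact hB.2.2
    have h4 := conj_le_centralizer (g := c) (hcon _ h1)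
    rw [conj_conj, mul_inv_cancel, map_one, one_smul] at h4
    rw [e]
    exact h4
  have h1 : A ⊓ centralizer (NN Z (Z i) : Set G) ≤ centralizer (X : Set G) := (le_sup_left : _ ≤ K).trans hKX
  have h2 : (centralizer (X : Set G)).relIndex A = (centralizer (NN Z (Z i) : Set G)).relIndex A := by
    rw [← inf_relIndex_left, ← inf_relIndex_left (A) (centralizer (NN Z (Z i) : Set G))]
    congr 1
    refine le_antisymm (inf_le_inf_left _ (centralizer_le ?_)) (le_inf inf_le_left h1)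
    exact SetLike.coe_subset_coe.2 hNX
  have h3 := TC.off hXe hXO hA
  have hex' : (centralizer (NN Z (Z i) : Set G)).relIndex A = (centralizer (A : Set G)).relIndex (NN Z (Z i)) := hex
  rw [h2, hex'] at h3
  apply hmv
  have hAB : A ≤ B := hA.2.1.trans D.O_le_B
  intro a ha
  apply hG (Z i) (D.pt i) a (D.B_le_HH i (hAB ha))
  intro x hx
  obtain ⟨n, hn, k, -, hk, e⟩ := TC.le_sup_of_relIndex hNX h3 (eab_iff.1 hXe).1 hx
  have h4 : k * a = a * k := (mem_centralizer_iff.1 hk a ha).symm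
  have e1 : x * a * x⁻¹ * a⁻¹ = n * (a * n⁻¹ * a⁻¹) := by
    rw [e]
    calc n * k * a * (n * k)⁻¹ * a⁻¹ = n * (k * a) * k⁻¹ * n⁻¹ * a⁻¹ := by group
      _ = n * (a * n⁻¹ * a⁻¹) := by rw [h4]; group
  rw [e1]
  exact mul_mem hn (D.B_norm_N i (hAB ha) (inv_mem hn))

/-- `B = A C_B(U i)` for a full root group -/
theorem B_eq {i : Fin 2} {A : Subgroup G} (hAB : A ≤ B) (hf : (centralizer (U i : Set G)).relIndex A = q) {b : G}
    (hb : b ∈ B) : ∃ a ∈ A, ∃ c ∈ B, c ∈ centralizer (U i : Set G) ∧ b = a * c := by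
  classical
  have h1 : (centralizer (U i : Set G)).relIndex B ≤ q := D.rel_A le_rfl
  set H : Subgroup G := centralizer (U i : Set G) with hH
  let f : A ⧸ H.subgroupOf A → B ⧸ H.subgroupOf B := fun c => QuotientGroup.mk ⟨(c.out : A), hAB (c.out).2⟩
  have hfi : Function.Injective f := by
    intro c c' hcc
    have h3 := QuotientGroup.eq.1 hcc
    have h4 : (QuotientGroup.mk c.out : A ⧸ H.subgroupOf A) = QuotientGroup.mk c'.out :=
      QuotientGroup.eq.2 (mem_subgroupOf.2 (by simpa [mem_subgroupOf] using h3))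
    rwa [QuotientGroup.out_eq', QuotientGroup.out_eq'] at h4
  have hcard : Nat.card (B ⧸ H.subgroupOf B) ≤ Nat.card (A ⧸ H.subgroupOf A) := by
    have h3 : Nat.card (A ⧸ H.subgroupOf A) = q := hf
    rw [h3]; exact h1
  obtain ⟨c, hc⟩ := (hfi.bijective_of_nat_card_le hcard).2 (QuotientGroup.mk ⟨b, hb⟩)
  have h3 := QuotientGroup.eq.1 hc
  have h4 : ((c.out : A) : G)⁻¹ * b ∈ H := by simpa [mem_subgroupOf] using h3
  exact ⟨_, (c.out).2, _, mul_mem (inv_mem (hAB (c.out).2)) hb, h4, by group⟩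

theorem sup_mem {i j : Fin 2} (hij : i ≠ j) {y : G} (hy : y ∈ Z 0 ⊔ Z 1) : ∃ a ∈ Z i, ∃ b ∈ Z j, y = a * b := by
  have hc : Z j ≤ centralizer (Z i : Set G) := by
    intro z hz
    exact mem_centralizer_iff.2 fun w hw => D.cBZ j (D.U_le_B i (D.ZU' i hw)) hz
  have h1 : Z 0 ⊔ Z 1 = Z i ⊔ Z j := by
    have h2 := fin_two_pair hij
    rcases h2 with ⟨rfl, rfl⟩ | ⟨rfl, rfl⟩
    · rfl
    · exact sup_comm _ _
  rw [h1] at hy
  exact OM.KTwo.exists_mul_of_mem_sup (hc.trans (centralizer_le_normalizer _)) hy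

theorem U_inf {i j : Fin 2} (hij : i ≠ j) {y : G} (h1 : y ∈ U i) (h2 : y ∈ U j) : y = 1 := by
  have h3 : y ∈ U 0 ⊓ U 1 := by
    have h4 := fin_two_pair hij
    rcases h4 with ⟨rfl, rfl⟩ | ⟨rfl, rfl⟩
    · exact ⟨h1, h2⟩
    · exact ⟨h2, h1⟩
  rwa [D.inf, mem_bot] at h3

/-- **THEOREM I, one side.** -/
theorem int_one (hNO : NoDQ Z) (hQ : NoQQ Z) {i j : Fin 2} (hij : i ≠ j) (hZj : Z j ≤ NN Z (Z j)) {A : Subgroup G}
    (hA : A ∈ AA (OO Z)) (hmv : ¬ A ≤ centralizer (U i : Set G)) {n : G} (hn : n ∈ NN Z (Z j))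
    (hB : ∀ b ∈ B, n * b * n⁻¹ * b⁻¹ ∈ Z 0 ⊔ Z 1) :
    ∃ u ∈ U i, ∃ c ∈ NN Z (Z j), c ∈ centralizer (A : Set G) ∧ n = u * c ∧ ∀ b ∈ B, c * b * c⁻¹ * b⁻¹ ∈ Z j := by
  have hAB : A ≤ B := hA.2.1.trans D.O_le_B
  obtain ⟨l, hlU, hlZ, hlc, hlS, -⟩ := D.mvl i j hij
  obtain ⟨hrt, -, hfull⟩ := D.rt_AA D.O_le_B (D.U_le_O i) hA hmv hlU hlZ
  set N : Subgroup G := NN Z (Z j) with hNdef
  have hUN : U i ≤ N := D.U_le_N hij.symm
  have hlH : l ∈ HH (Z j) := centralizer_le_normalizer _ hlc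
  have hlN : ∀ m ∈ N, l * m * l⁻¹ ∈ N := fun m hm => (mem_normalizer_iff.1 (D.HH_norm_N j hlH) m).1 hm
  set R : Subgroup G := B ⊓ centralizer (U i : Set G) with hR
  have hRl : ∀ b ∈ R, l * b * l⁻¹ ∈ R := by
    intro b hb
    rw [← hlS, mem_conj]
    have e : l⁻¹ * (l * b * l⁻¹) * l = b := by group
    rwa [e]
  have hRl' : ∀ b ∈ R, l⁻¹ * b * l ∈ R := by
    intro b hb
    rw [← hlS, mem_conj] at hb
    exact hb
  have hex := (D.exact_AA hNO j hA).1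
  have hlift : ∀ K : Subgroup G, IsElementaryAbelian 2 K → K ≤ OO Z → Ex K N → ∀ m ∈ N,
      (∀ b ∈ K, m * b * m⁻¹ * b⁻¹ ∈ Z j) → m ∈ centralizer (K : Set G) :=
    fun K hK hKO hE m hm h => D.lift hQ hK hKO hE hm h
  -- `[n^l, R] ≤ Z j`
  have hmain := hrt.int (N := N) (O := OO Z) (Z₂ := Z j) (R := R) (n := l * n * l⁻¹) (D.N_eab j) hUN
    (fun K hK hKO => hNO j K hK hKO) hlift hA.2.1 hex (fun a ha m hm => D.B_norm_N j (hAB ha) hm)
    (fun a ha z hz => D.cBZ j (hAB ha) hz) (fun e he hez => D.U_inf hij he (D.ZU' j hez)) hZj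
    (le_inf (inf_le_left.trans hAB) inf_le_right) inf_le_right
    (fun a ha b hb => ?_) (hlN n hn) (fun b hb => ?_)
  rotate_left
  · have haB := inv_mem (hAB ha)
    have h1 : a⁻¹ ∈ normalizer (R : Set G) :=
      NO3L.LemP.le_normalizer_inf le_normalizer
        ((D.B_le_NU i).trans (NO3L.LemP.normalizer_le_normalizer_cent (U i))) haB
    have h2 := (mem_normalizer_iff.1 h1 b).1 hb
    rwa [inv_inv] at h2
  · obtain ⟨e, he, z, hz, h1⟩ := D.sup_mem hij (hB _ (hRl' b hb).1)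
    refine ⟨l * e * l⁻¹, ?_, z, hz, ?_⟩
    · rw [mem_conj]
      have e1 : l⁻¹ * (l * e * l⁻¹) * l = e := by group
      rwa [e1]
    · have h2 : l * z * l⁻¹ = z := by
        rw [← mem_centralizer_iff.1 hlc z hz, mul_inv_cancel_right]
      calc l * n * l⁻¹ * b * (l * n * l⁻¹)⁻¹ * b⁻¹ = l * (n * (l⁻¹ * b * l) * n⁻¹ * (l⁻¹ * b * l)⁻¹) * l⁻¹ := by group
        _ = l * e * l⁻¹ * (l * z * l⁻¹) := by rw [h1]; group
        _ = _ := by rw [h2]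
  -- `[n, R] ≤ Z j`
  have hnR : ∀ b ∈ R, n * b * n⁻¹ * b⁻¹ ∈ Z j := by
    intro b hb
    have h1 := hmain _ (hRl b hb)
    have h2 : l * (n * b * n⁻¹ * b⁻¹) * l⁻¹ ∈ Z j := by
      have e : l * (n * b * n⁻¹ * b⁻¹) * l⁻¹ = l * n * l⁻¹ * (l * b * l⁻¹) * (l * n * l⁻¹)⁻¹ * (l * b * l⁻¹)⁻¹ := by
        group
      rw [e]; exact h1
    have h3 := mem_centralizer_iff.1 hlc _ h2
    have h4 : n * b * n⁻¹ * b⁻¹ = l⁻¹ * (l * (n * b * n⁻¹ * b⁻¹) * l⁻¹) * l := by group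
    rw [h4, mul_assoc, h3]
    have e : l⁻¹ * (l * (l * (n * b * n⁻¹ * b⁻¹) * l⁻¹)) = l * (n * b * n⁻¹ * b⁻¹) * l⁻¹ := by group
    rw [e]
    exact h2
  -- `n ∈ C(A_0) = U i C(A)`
  set A0 : Subgroup G := A ⊓ centralizer (U i : Set G) with hA0
  have hA0e : IsElementaryAbelian 2 A0 := eab_mono hA.1 inf_le_left
  have hA0O : A0 ≤ OO Z := inf_le_left.trans hA.2.1
  obtain ⟨hEx0, hle⟩ := OM.PG.Peel.exa_peel (N := N) (V := U i) (B := A) hUN hex hrt.nob (hNO j A0 hA0e hA0O)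
  have h1 : n ∈ centralizer (A0 : Set G) :=
    D.lift hQ hA0e hA0O hEx0 hn fun b hb => hnR b ⟨hAB hb.1, hb.2⟩
  have h2 : n ∈ U i ⊔ (N ⊓ centralizer (A : Set G)) := hle ⟨hn, h1⟩
  obtain ⟨u, hu, c, hc, e⟩ := OM.KTwo.exists_mul_of_mem_sup
    (((inf_le_left : N ⊓ centralizer (A : Set G) ≤ N).trans ((D.N_comm j).trans (centralizer_le hUN))).trans
      (centralizer_le_normalizer _)) h2
  refine ⟨u, hu, c, hc.1, hc.2, e, fun b hb => ?_⟩
  obtain ⟨a, ha, r, hrB, hrU, rfl⟩ := D.B_eq hAB hfull hb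
  -- `[c, r] = [n, r]`
  have h3 : c = u⁻¹ * n := by rw [e]; group
  have h4 : c * r * c⁻¹ * r⁻¹ = n * r * n⁻¹ * r⁻¹ := by
    have hur : u⁻¹ * r = r * u⁻¹ := mem_centralizer_iff.1 hrU _ (inv_mem hu)
    have hcN : n * r * n⁻¹ * r⁻¹ ∈ N := hZj (hnR r ⟨hrB, hrU⟩)
    have huN := mem_centralizer_iff.1 (D.N_comm j hcN) _ (inv_mem (hUN hu))
    have hru : r * u = u * r := by
      calc r * u = u * (u⁻¹ * r) * u := by group
        _ = u * (r * u⁻¹) * u := by rw [hur]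
        _ = u * r := by group
    rw [h3]
    calc u⁻¹ * n * r * (u⁻¹ * n)⁻¹ * r⁻¹ = u⁻¹ * (n * r * n⁻¹ * r⁻¹) * (r * u) * r⁻¹ := by group
      _ = (n * r * n⁻¹ * r⁻¹) * u⁻¹ * (u * r) * r⁻¹ := by rw [huN, hru]
      _ = n * r * n⁻¹ * r⁻¹ := by group
  have h5 : c * r * c⁻¹ * r⁻¹ ∈ Z j := by rw [h4]; exact hnR r ⟨hrB, hrU⟩
  have h6 : c * a = a * c := (mem_centralizer_iff.1 hc.2 a ha).symm
  have h7 : c * (a * r) * c⁻¹ * (a * r)⁻¹ = a * (c * r * c⁻¹ * r⁻¹) * a⁻¹ := by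
    calc c * (a * r) * c⁻¹ * (a * r)⁻¹ = (c * a) * r * c⁻¹ * r⁻¹ * a⁻¹ := by group
      _ = a * (c * r * c⁻¹ * r⁻¹) * a⁻¹ := by rw [h6]; group
  rw [h7, D.cBZ j (hAB ha) h5, mul_inv_cancel_right]
  exact h5

/-- **THEOREM I, one side, for `n ∈ N_i ∩ N_j`.** -/
theorem int_two (hNO : NoDQ Z) (hQ : NoQQ Z) {i j : Fin 2} (hij : i ≠ j) (hZj : Z j ≤ NN Z (Z j)) {A : Subgroup G}
    (hA : A ∈ AA (OO Z)) (hmv : ¬ A ≤ centralizer (U i : Set G)) {n : G} (hn : n ∈ NN Z (Z j))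
    (hn' : n ∈ NN Z (Z i)) (hB : ∀ b ∈ B, n * b * n⁻¹ * b⁻¹ ∈ Z 0 ⊔ Z 1) :
    ∀ b ∈ B, n * b * n⁻¹ * b⁻¹ ∈ Z j := by
  have hAB : A ≤ B := hA.2.1.trans D.O_le_B
  obtain ⟨u, hu, c, hc, hcA, e, hcB⟩ := D.int_one hNO hQ hij hZj hA hmv hn hB
  -- `[n, A] = [u, A] ≤ Z i`
  have h1 : ∀ a ∈ A, n * a * n⁻¹ * a⁻¹ = u * a * u⁻¹ * a⁻¹ := by
    intro a ha
    have h2 := mem_centralizer_iff.1 hcA a ha
    rw [e]
    calc u * c * a * (u * c)⁻¹ * a⁻¹ = u * (c * a) * c⁻¹ * u⁻¹ * a⁻¹ := by group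
      _ = u * a * u⁻¹ * a⁻¹ := by rw [← h2]; group
  have h2 : ∀ a ∈ A, u * a * u⁻¹ * a⁻¹ ∈ Z i := by
    intro a ha
    have h3 := inv_mem (D.com i a (hAB ha) u hu)
    have e1 : (a * u * a⁻¹ * u⁻¹)⁻¹ = u * a * u⁻¹ * a⁻¹ := by group
    rwa [e1] at h3
  have h3 := D.lift hQ hA.1 hA.2.1 (D.exact_AA hNO i hA).1 hn' fun a ha => by rw [h1 a ha]; exact h2 a ha
  have h4 : u ∈ centralizer (A : Set G) := by
    refine mem_centralizer_iff.2 fun a ha => ?_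
    have h5 : u * a * u⁻¹ * a⁻¹ = 1 := by
      rw [← h1 a ha, ← mem_centralizer_iff.1 h3 a ha]; group
    exact (mul_inv_eq_iff_eq_mul.1 (mul_inv_eq_one.1 h5)).symm
  have h5 : u ∈ Z i := by
    rw [← D.cent_U hAB hmv]
    exact ⟨hu, h4⟩
  intro b hb
  have h6 : u * b = b * u := (D.cBZ i hb h5).symm
  have h7 := hcB b hb
  have h8 : n * b * n⁻¹ * b⁻¹ = u * (c * b * c⁻¹ * b⁻¹) * u⁻¹ := by
    have h9 : b * u⁻¹ = u⁻¹ * b := D.cBZ i hb (inv_mem h5)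
    rw [e]
    calc u * c * b * (u * c)⁻¹ * b⁻¹ = u * (c * b * c⁻¹ * b⁻¹) * (b * u⁻¹) * b⁻¹ := by group
      _ = u * (c * b * c⁻¹ * b⁻¹) * u⁻¹ := by rw [h9]; group
  rw [h8, D.cBZ j (D.U_le_B i hu) h7, mul_inv_cancel_right]
  exact h7

/-- **THEOREM I.** -/
theorem inter (hNO : NoDQ Z) (hQ : NoQQ Z) (hZ : ∀ i, Z i ≤ NN Z (Z i))
    (hA : ∀ i, ∃ A ∈ AA (OO Z), ¬ A ≤ centralizer (U i : Set G)) : NN Z (Z 0) ⊓ NN Z (Z 1) ≤ Z 0 ⊔ Z 1 := by
  by_contra hne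
  have hNB : ∀ i, NN Z (Z i) ≤ B := fun i => (D.N_le_O i).trans D.O_le_B
  have hBY : B ≤ normalizer ((Z 0 ⊔ Z 1 : Subgroup G) : Set G) := D.B_le.trans (centralizer_le_normalizer _)
  have hBI : B ≤ normalizer ((NN Z (Z 0) ⊓ NN Z (Z 1) : Subgroup G) : Set G) :=
    NO3L.LemP.le_normalizer_inf ((D.B_le_HH 0).trans (D.HH_norm_N 0)) ((D.B_le_HH 1).trans (D.HH_norm_N 1))
  obtain ⟨n, hn, hnY, hnB⟩ := IId.SideOf.exists_fixed_mod hne ((inf_le_left.trans (hNB 0)).trans hBY)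
    (D.B2.to_le (inf_le_left.trans (hNB 0))) D.B2 hBY hBI
  have hnB' : ∀ b ∈ B, n * b * n⁻¹ * b⁻¹ ∈ Z 0 ⊔ Z 1 := by
    intro b hb
    have h1 := inv_mem (hnB b hb)
    have e : (b * n * b⁻¹ * n⁻¹)⁻¹ = n * b * n⁻¹ * b⁻¹ := by group
    rwa [e] at h1
  obtain ⟨A0, hA0, hm0⟩ := hA 0
  obtain ⟨A1, hA1, hm1⟩ := hA 1
  have h1 := D.int_two hNO hQ (i := 0) (j := 1) (by decide) (hZ 1) hA0 hm0 hn.2 hn.1 hnB'
  have h0 := D.int_two hNO hQ (i := 1) (j := 0) (by decide) (hZ 0) hA1 hm1 hn.1 hn.2 hnB'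
  apply hnY
  refine D.zB n (hNB 0 hn.1) ((eab_iff.1 (D.N_eab 0)).2 n hn.1) fun b hb => ?_
  have h2 := D.U_inf (i := 0) (j := 1) (by decide) (D.ZU' 0 (h0 b hb)) (D.ZU' 1 (h1 b hb))
  exact (mul_inv_eq_iff_eq_mul.1 (mul_inv_eq_one.1 h2)).symm

end FQ

end Cfsg.Agent.Omega.NO3S.EThree
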