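import Cfsg.Agent.Omega.OmThm.GrpSP
import Cfsg.Agent.Omega.OM.PG.Ten
import Cfsg.Agent.Omega.OM.PG.PcQ

/-!
# Connectivity of the geometry of `N_a` without radical (instead of LEMMA 0)

`conn_of_fix` : no vector `≠ 1` of `N` is centralised by all `X p`, a 2-group `B ≥ N` permutes the points (and the groups
`X p`), fixes `p₀` and all vectors of `N` fixed by `B` lie in `p₀`: the graph 'some element of `X p` moves `x`' is
connected.
-/

set_option autoImplicit false
set_option linter.unusedSectionVars false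

namespace Cfsg.Agent.Omega.NO3S.EThree.NrConn

open Subgroup Cfsg Cfsg.Agent.ZN Cfsg.Agent.Omega.OM.PG Cfsg.Agent.Omega.OM.PG.Peel
open Cfsg.Agent.Omega.NoFF.Basic (conj_conj conj_le_iff conj_le_centralizer)
open Cfsg.Agent.Omega.OmThm.Grp
open scoped Pointwise

universe u

variable {G : Type u} [Group G]

/-- **Connectivity from a fixed point property.** -/
theorem conn_of_fix [Finite G] {N B : Subgroup G} {Pt : Set (Subgroup G)} {X : Subgroup G → Subgroup G}
    (le : ∀ p ∈ Pt, p ≤ N) (ne : ∀ p ∈ Pt, p ≠ ⊥)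
    (nk : ∀ v ∈ N, (∀ p ∈ Pt, ∀ g ∈ X p, g * v = v * g) → v = 1)
    (h2 : IsPGroup 2 B) (hNB : N ≤ B) (hB : ∀ b ∈ B, ∀ p ∈ Pt, MulAut.conj b • p ∈ Pt)
    (hX : ∀ b ∈ B, ∀ p ∈ Pt, X (MulAut.conj b • p) = MulAut.conj b • X p)
    {p₀ : Subgroup G} (hp₀ : p₀ ∈ Pt) (hB0 : ∀ b ∈ B, MulAut.conj b • p₀ = p₀)
    (hfix : ∀ n ∈ N, (∀ b ∈ B, b * n = n * b) → n ∈ p₀) {p x : Subgroup G} (hp : p ∈ Pt) (hx : x ∈ Pt) :
    Relation.ReflTransGen (fun a b => a ∈ Pt ∧ b ∈ Pt ∧ (Mv X a b ∨ Mv X b a)) p x := by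
  set R : Subgroup G → Subgroup G → Prop := fun a b => a ∈ Pt ∧ b ∈ Pt ∧ (Mv X a b ∨ Mv X b a) with hR
  have hsymm : ∀ {a b}, Relation.ReflTransGen R a b → Relation.ReflTransGen R b a := by
    intro a b h
    induction h with
    | refl => exact Relation.ReflTransGen.refl
    | tail _ h1 ih => exact Relation.ReflTransGen.head ⟨h1.2.1, h1.1, h1.2.2.symm⟩ ih
  suffices key : ∀ x ∈ Pt, Relation.ReflTransGen R p₀ x from (hsymm (key p hp)).trans (key x hx)
  clear hx hp x p
  by_contra hcon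
  push Not at hcon
  obtain ⟨x, hx, hxC⟩ := hcon
  -- conjugation with `b ∈ B` preserves the graph
  have hmv : ∀ b ∈ B, ∀ a ∈ Pt, ∀ c ∈ Pt, Mv X a c → Mv X (MulAut.conj b • a) (MulAut.conj b • c) := by
    intro b hb a ha c hc h h1
    apply h
    rw [hX b hb a ha] at h1
    have h2 := conj_le_centralizer (g := b⁻¹) h1
    rwa [inv_conj_conj, inv_conj_conj] at h2
  have hstep : ∀ b ∈ B, ∀ a c, R a c → R (MulAut.conj b • a) (MulAut.conj b • c) := by
    rintro b hb a c ⟨ha, hc, h⟩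
    exact ⟨hB b hb a ha, hB b hb c hc, h.imp (hmv b hb a ha c hc) (hmv b hb c hc a ha)⟩
  have hC : ∀ b ∈ B, ∀ a, Relation.ReflTransGen R p₀ a → Relation.ReflTransGen R p₀ (MulAut.conj b • a) := by
    intro b hb a h
    rw [← hB0 b hb]
    induction h with
    | refl => exact Relation.ReflTransGen.refl
    | tail _ h1 ih => exact ih.tail (hstep b hb _ _ h1)
  -- the points outside the component of `p₀`
  set M : Subgroup G := ⨆ y : {y : Subgroup G // y ∈ Pt ∧ ¬ Relation.ReflTransGen R p₀ y}, (y : Subgroup G) with hM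
  have hMle : ∀ y ∈ Pt, ¬ Relation.ReflTransGen R p₀ y → y ≤ M := fun y hy hyC =>
    le_iSup (fun y : {y : Subgroup G // y ∈ Pt ∧ ¬ Relation.ReflTransGen R p₀ y} => (y : Subgroup G)) ⟨y, hy, hyC⟩
  have hMN : M ≤ N := iSup_le fun y => le y y.2.1
  have hBM : B ≤ normalizer (M : Set G) := by
    have key : ∀ b ∈ B, MulAut.conj b • M ≤ M := by
      intro b hb
      have h1 : M ≤ MulAut.conj b⁻¹ • M := by
        refine iSup_le fun y => ?_
        have h2 : ¬ Relation.ReflTransGen R p₀ (MulAut.conj b • (y : Subgroup G)) := by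
          intro h2
          apply y.2.2
          have h3 := hC b⁻¹ (inv_mem hb) _ h2
          rwa [inv_conj_conj] at h3
        have h3 := conj_le_iff (g := b⁻¹) |>.2 (hMle _ (hB b hb _ y.2.1) h2)
        rwa [inv_conj_conj] at h3
      have h2 := conj_le_iff (g := b) |>.2 h1
      rwa [conj_inv_conj] at h2
    intro b hb
    refine ChoiceBase.mem_normalizer_iff_cj.2 (le_antisymm (key b hb) ?_)
    have h2 := conj_le_iff (g := b) |>.2 (key b⁻¹ (inv_mem hb))
    rwa [conj_inv_conj] at h2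
  obtain ⟨v, hv, hv1⟩ : ∃ v ∈ M, v ≠ 1 := by
    by_contra hcon
    push Not at hcon
    exact ne x hx ((eq_bot_iff_forall _).2 fun v hv => hcon v (hMle x hx hxC hv))
  obtain ⟨n, hnM, hn1, hn⟩ := Cfsg.Agent.Omega.OM.PG.Ten.exists_fix (B := {1}) h2 (hMN.trans hNB) hBM
    (Set.mem_singleton 1) hv hv1
  have hnB : ∀ b ∈ B, b * n = n * b := fun b hb =>
    mul_inv_eq_iff_eq_mul.1 (mul_inv_eq_one.1 (Set.mem_singleton_iff.1 (hn b hb)))
  have hnp : n ∈ p₀ := hfix n (hMN hnM) hnB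
  refine hn1 (nk n (hMN hnM) fun p hp g hg => ?_)
  by_cases hpC : Relation.ReflTransGen R p₀ p
  · -- `X p` centralises `M`
    have h1 : X p ≤ centralizer (M : Set G) := by
      rw [le_centralizer_iff]
      refine iSup_le fun y => ?_
      rw [le_centralizer_iff]
      by_contra h3
      exact y.2.2 (hpC.tail ⟨hp, y.2.1, Or.inl h3⟩)
    exact (mem_centralizer_iff.1 (h1 hg) n hnM).symm
  · have h1 : X p ≤ centralizer (p₀ : Set G) := by
      by_contra h3
      exact hpC (Relation.ReflTransGen.single ⟨hp₀, hp, Or.inr h3⟩)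
    exact (mem_centralizer_iff.1 (h1 hg) n hnp).symm

end Cfsg.Agent.Omega.NO3S.EThree.NrConn
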