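import Cfsg.Agent.Omega.OmThm.GrpSP
import Cfsg.Agent.Omega.NO3S.EThree.PtGeo
import Cfsg.Agent.Omega.NO3S.EThree.TBig

/-!
# The point geometry of `N_a` without radical, in group form (helper997 #19952 (1), (3); helper925 PtGeo, TBig)

`ND N Pt X q` : `GD` (points of order `q ≥ 3` in the elementary abelian group `N`, groups `X p` of transvections with
centre `p`), no vector `≠ 1` of `N` is centralised by all `X p`, every point lies on a line (a subgroup of order `q²`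
which is a union of pairwise perpendicular points), and the graph 'some element of `X p` moves `x`' is connected.

* `ND.one`, `ND.sym`, `ND.ix`, `ND.hyp`, `ND.vect`, `ND.sep`, `ND.two` : group forms of the statements of `PtGeo`;
  every element `≠ 1` of `N` lies in a point, perpendicularity is symmetric, `N = r C_N(X p)` if `r` is not perpendicular
  to `p`, different points have different perps.
-/

set_option autoImplicit false
set_option linter.unusedSectionVars false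

namespace Cfsg.Agent.Omega.NO3S.EThree.NrGeo

open Subgroup
open Cfsg.Agent.Omega.OmThm.Grp
open Cfsg.Agent.Omega.NO3S.EThree.PtGeo (pr mp mem_mp Geo GeoL GeoO Cn Col)
open scoped Pointwise IsMulCommutative

universe u

variable {G : Type u} [Group G]

/-- The data, with lines. -/
structure ND (N : Subgroup G) (Pt : Set (Subgroup G)) (X : Subgroup G → Subgroup G) (q : ℕ) : Prop
    extends GD N Pt X q where
  nk : ∀ v ∈ N, (∀ p ∈ Pt, ∀ g ∈ X p, g * v = v * g) → v = 1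
  line : ∀ p ∈ Pt, ∃ V : Subgroup G, p ≤ V ∧ V ≤ N ∧ Nat.card V ≤ q * q ∧
    (∀ v ∈ V, v ≠ 1 → ∃ s ∈ Pt, s ≤ V ∧ v ∈ s) ∧ (∀ s ∈ Pt, s ≤ V → X s ≤ centralizer (V : Set G)) ∧
    ∃ r ∈ Pt, r ≤ V ∧ r ≠ p
  ex : Pt.Nonempty
  conn : ∀ p ∈ Pt, ∀ x ∈ Pt, Relation.ReflTransGen (fun a b => a ∈ Pt ∧ b ∈ Pt ∧ (Mv X a b ∨ Mv X b a)) p x

/-- the product of two commuting subgroups -/
theorem mem_sup_comm {A B : Subgroup G} (h : B ≤ centralizer (A : Set G)) {g : G} (hg : g ∈ A ⊔ B) :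
    ∃ a ∈ A, ∃ b ∈ B, a * b = g := by
  let K : Subgroup G :=
    { carrier := {g | ∃ a ∈ A, ∃ b ∈ B, a * b = g}
      one_mem' := ⟨1, one_mem _, 1, one_mem _, one_mul _⟩
      mul_mem' := by
        rintro _ _ ⟨a, ha, b, hb, rfl⟩ ⟨a', ha', b', hb', rfl⟩
        refine ⟨a * a', mul_mem ha ha', b * b', mul_mem hb hb', ?_⟩
        have e : a' * b = b * a' := mem_centralizer_iff.1 (h hb) a' ha'
        calc a * a' * (b * b') = a * (a' * b) * b' := by group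
          _ = a * b * (a' * b') := by rw [e]; group
      inv_mem' := by
        rintro _ ⟨a, ha, b, hb, rfl⟩
        refine ⟨a⁻¹, inv_mem ha, b⁻¹, inv_mem hb, ?_⟩
        have e : a * b = b * a := mem_centralizer_iff.1 (h hb) a ha
        rw [e, mul_inv_rev] }
  have h1 : A ⊔ B ≤ K := sup_le (fun a ha => ⟨a, ha, 1, one_mem _, mul_one _⟩)
    fun b hb => ⟨1, one_mem _, b, hb, one_mul _⟩
  exact h1 hg

/-- the automorphisms -/
def Tt (N : Subgroup G) [IsMulCommutative N] (Pt : Set (Subgroup G)) (X : Subgroup G → Subgroup G)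
    (A : AddSubgroup (Additive N)) : Set (Additive N ≃+ Additive N) :=
  {t | ∃ p ∈ Pt, A = pt N p ∧ ∃ w ∈ X p, ∀ v, (((t v).toMul : N) : G) = w * ((v.toMul : N) : G) * w⁻¹}

namespace ND

variable {N : Subgroup G} {Pt : Set (Subgroup G)} {X : Subgroup G → Subgroup G} {q : ℕ}

section comm

variable [IsMulCommutative N] (D : ND N Pt X q)
include D

theorem exists_ne {p : Subgroup G} (hp : p ∈ Pt) : ∃ v ∈ p, v ≠ 1 := by
  by_contra hcon
  push Not at hcon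
  have h1 : p = ⊥ := (eq_bot_iff_forall _).2 hcon
  have h2 := D.card p hp
  rw [h1, Subgroup.card_bot] at h2
  have := D.hq
  omega

omit D in
/-- conjugation by `w` as an automorphism of `N` -/
theorem exists_t {w : G} (hw : ∀ v ∈ N, w * v * w⁻¹ ∈ N) (hw' : ∀ v ∈ N, w⁻¹ * v * w ∈ N) :
    ∃ t : Additive N ≃+ Additive N, ∀ v, (((t v).toMul : N) : G) = w * ((v.toMul : N) : G) * w⁻¹ := by
  refine ⟨MulEquiv.toAdditive
    { toFun := fun v => ⟨w * v * w⁻¹, hw v v.2⟩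
      invFun := fun v => ⟨w⁻¹ * v * w, hw' v v.2⟩
      left_inv := fun v => Subtype.ext (by simp [mul_assoc])
      right_inv := fun v => Subtype.ext (by simp [mul_assoc])
      map_mul' := fun a b => Subtype.ext (by simp [mul_assoc]) }, fun v => rfl⟩

theorem conj_N {p : Subgroup G} (hp : p ∈ Pt) {w v : G} (hw : w ∈ X p) (hv : v ∈ N) : w * v * w⁻¹ ∈ N := by
  have h1 := D.le p hp (D.XN p hp w hw v hv)
  have e : w * v * w⁻¹ = w * v * w⁻¹ * v⁻¹ * v := by group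
  rw [e]
  exact mul_mem h1 hv

theorem conj_N' {p : Subgroup G} (hp : p ∈ Pt) {w v : G} (hw : w ∈ X p) (hv : v ∈ N) : w⁻¹ * v * w ∈ N := by
  have := D.conj_N hp (inv_mem hw) hv
  rwa [inv_inv] at this

theorem exists_Tt {p : Subgroup G} (hp : p ∈ Pt) {w : G} (hw : w ∈ X p) :
    ∃ t ∈ Tt N Pt X (pt N p), ∀ v, (((t v).toMul : N) : G) = w * ((v.toMul : N) : G) * w⁻¹ := by
  obtain ⟨t, ht⟩ := exists_t (w := w) (fun v hv => D.conj_N hp hw hv) (fun v hv => D.conj_N' hp hw hv)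
  exact ⟨t, ⟨p, hp, rfl, w, hw, ht⟩, ht⟩

theorem mem_Tt {p : Subgroup G} (hp : p ∈ Pt) {t : Additive N ≃+ Additive N} (ht : t ∈ Tt N Pt X (pt N p)) :
    ∃ w ∈ X p, ∀ v, (((t v).toMul : N) : G) = w * ((v.toMul : N) : G) * w⁻¹ := by
  obtain ⟨p', hp', he, w, hw, h⟩ := ht
  have := pt_inj (D.le p hp) (D.le p' hp') he
  subst this
  exact ⟨w, hw, h⟩

theorem mem_pr {p : Subgroup G} (hp : p ∈ Pt) {m : Additive N} :
    m ∈ pr (Tt N Pt X) (pt N p) ↔ ∀ w ∈ X p, w * ((m.toMul : N) : G) = ((m.toMul : N) : G) * w := by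
  constructor
  · intro h w hw
    obtain ⟨t, ht, e⟩ := D.exists_Tt hp hw
    have h1 := congrArg (fun t : Additive N => ((t.toMul : N) : G)) (h t ht)
    change (((t m).toMul : N) : G) = ((m.toMul : N) : G) at h1
    rw [e, mul_inv_eq_iff_eq_mul] at h1
    exact h1
  · intro h t ht
    obtain ⟨w, hw, e⟩ := D.mem_Tt hp ht
    refine Subtype.ext ?_
    change (((t m).toMul : N) : G) = ((m.toMul : N) : G)
    rw [e, mul_inv_eq_iff_eq_mul]
    exact h w hw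

theorem le_pr {p x : Subgroup G} (hp : p ∈ Pt) (hx : x ∈ Pt) :
    pt N x ≤ pr (Tt N Pt X) (pt N p) ↔ X p ≤ centralizer (x : Set G) := by
  constructor
  · intro h w hw
    refine mem_centralizer_iff.2 fun v hv => ?_
    exact (((D.mem_pr hp).1 (h (x := Additive.ofMul (⟨v, D.le x hx hv⟩ : N)) hv)) w hw).symm
  · intro h m hm
    exact (D.mem_pr hp).2 fun w hw => (mem_centralizer_iff.1 (h hw) _ hm).symm

theorem mp_pt {x : Subgroup G} (hx : x ∈ Pt) {w : G} {t : Additive N ≃+ Additive N}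
    (e : ∀ v, (((t v).toMul : N) : G) = w * ((v.toMul : N) : G) * w⁻¹) :
    mp t (pt N x) = pt N (MulAut.conj w • x) := by
  ext m
  rw [mem_mp, mem_pt]
  constructor
  · rintro ⟨y, hy, rfl⟩
    rw [e]
    exact ⟨_, hy, rfl⟩
  · rintro ⟨y, hy, e1⟩
    replace e1 : w * y * w⁻¹ = ((m.toMul : N) : G) := e1
    refine ⟨Additive.ofMul (⟨y, D.le x hx hy⟩ : N), hy, ?_⟩
    refine Subtype.ext ?_
    change (((t _).toMul : N) : G) = ((m.toMul : N) : G)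
    rw [e, ← e1]
    rfl

/-- `η` fixes a vector of a point: it fixes the point vectorwise -/
theorem eta_one {p x : Subgroup G} (hp : p ∈ Pt) (hx : x ∈ Pt) {η : Additive N →+ Additive N}
    (hη : η ∈ TT Pt X (pt N p)) {b : Additive N} (hb : b ∈ pt N x) (hb0 : b ≠ 0) (h : η b = 0) :
    ∀ v ∈ pt N x, η v = 0 := by
  obtain ⟨y, hy, h1, -, -, -⟩ := D.toGD.move hp hη hx
  have h2 : b ∈ pt N y := by
    have := h1 b hb
    rwa [h, add_zero] at this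
  have h3 : pt N x = pt N y := D.toGD.ti' hx hy hb h2 hb0
  intro v hv
  by_contra hne
  have h4 : v + η v ∈ pt N x := h3 ▸ h1 v hv
  have h5 : η v ∈ pt N x := by
    have := sub_mem h4 hv
    rwa [add_sub_cancel_left] at this
  have h6 : pt N p = pt N x := D.toGD.ti' hp hx (D.toGD.im hp hη v) h5 hne
  exact hne (D.toGD.ker hp hη (h6 ▸ hv))

theorem moves_all {p₀ p : Subgroup G} (hp₀ : p₀ ∈ Pt) (hp : p ∈ Pt) (h : ¬ X p₀ ≤ centralizer (N : Set G)) :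
    ¬ X p ≤ centralizer (N : Set G) := by
  intro h1
  apply h
  have h2 := D.cardT p hp p₀ hp₀
  rw [relIndex_eq_one.2 h1] at h2
  exact relIndex_eq_one.1 h2.symm

theorem exists_moved {p : Subgroup G} (h : ¬ X p ≤ centralizer (N : Set G)) :
    ∃ x ∈ Pt, ¬ X p ≤ centralizer (x : Set G) := by
  by_contra hcon
  push Not at hcon
  apply h
  have h1 : N ≤ centralizer (X p : Set G) := D.span.trans (sSup_le fun x hx => by
    have := hcon x hx
    rwa [le_centralizer_iff] at this)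
  rwa [le_centralizer_iff] at h1

theorem exists_mv : ∃ p ∈ Pt, ¬ X p ≤ centralizer (N : Set G) := by
  by_contra hcon
  push Not at hcon
  obtain ⟨p, hp⟩ := D.ex
  obtain ⟨v, hv, hv1⟩ := D.exists_ne hp
  refine hv1 (D.nk v (D.le p hp hv) fun x hx g hg => ?_)
  exact (mem_centralizer_iff.1 (hcon x hx hg) v (D.le p hp hv)).symm

theorem mv_all {p : Subgroup G} (hp : p ∈ Pt) : ¬ X p ≤ centralizer (N : Set G) := by
  obtain ⟨p₀, hp₀, h⟩ := D.exists_mv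
  exact D.moves_all hp₀ hp h

theorem adj_iff {p x : Subgroup G} (hp : p ∈ Pt) (hx : x ∈ Pt) :
    Big.Adj (TT Pt X) (pt N p) (pt N x) ↔ ¬ X p ≤ centralizer (x : Set G) := by
  constructor
  · rintro ⟨η, hη, v, hv, hne⟩ h
    obtain ⟨w, hw, e⟩ := (D.toGD.mem_TT hp).1 hη
    exact hne ((isC_zero e).2 (mem_centralizer_iff.1 (h hw) _ hv).symm)
  · exact fun h => D.toGD.adj_of hp hx h

theorem bd : Big.Bd (pt N '' Pt) (TT Pt X) where
  ne := by
    rintro _ ⟨p, hp, rfl⟩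
    obtain ⟨v, hv, hv1⟩ := D.exists_ne hp
    exact ⟨Additive.ofMul (⟨v, D.le p hp hv⟩ : N), hv, fun e =>
      hv1 (congrArg (fun t : Additive N => ((t.toMul : N) : G)) e)⟩
  ti := by rintro _ ⟨p, hp, rfl⟩ _ ⟨x, hx, rfl⟩ v h1 h2 h0; exact D.toGD.ti' hp hx h1 h2 h0
  im := by rintro _ ⟨p, hp, rfl⟩ η hη v; exact D.toGD.im hp hη v
  ker := by rintro _ ⟨p, hp, rfl⟩ η hη v hv; exact D.toGD.ker hp hη hv
  one := by rintro _ ⟨p, hp, rfl⟩ _ ⟨x, hx, rfl⟩ η hη b hb hb0 h; exact D.eta_one hp hx hη hb hb0 h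
  cl := by rintro _ ⟨p, hp, rfl⟩ _ ⟨x, hx, rfl⟩ φ hφ ψ hψ h0; exact D.toGD.cl hp hx hφ hψ h0
  sur := by
    rintro _ ⟨p, hp, rfl⟩ _ ⟨x, hx, rfl⟩ ⟨η, hη, v, hv, hne⟩ b hb hb0 a ha
    have h1 : η b ≠ 0 := fun h => hne (D.eta_one hp hx hη hb hb0 h v hv)
    obtain ⟨η', h2, h3, -⟩ := D.toGD.reg' hp hη h1 ha
    exact ⟨η', h2, h3⟩
  cardP := by rintro _ ⟨p, hp, rfl⟩ _ ⟨x, hx, rfl⟩; rw [D.toGD.card' hp, D.toGD.card' hx]
  cardT := by
    rintro _ ⟨p, hp, rfl⟩ _ ⟨x, hx, rfl⟩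
    rw [D.toGD.card_TT hp, D.toGD.card_TT hx]
    exact D.cardT p hp x hx
  span := by
    intro η h
    have h1 : (⊤ : AddSubgroup (Additive N)) ≤ η.ker := by
      rw [← D.toGD.span']
      exact iSup₂_le fun p hp v hv => h p hp v hv
    exact DFunLike.ext _ _ fun v => h1 (AddSubgroup.mem_top v)
  nbr := by
    rintro _ ⟨p, hp, rfl⟩
    obtain ⟨x, hx, h⟩ := D.exists_moved (D.mv_all hp)
    exact ⟨_, ⟨x, hx, rfl⟩, (D.adj_iff hp hx).2 h⟩

theorem pt_le {x V : Subgroup G} (hx : x ≤ N) : pt N x ≤ pt N V ↔ x ≤ V := by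
  constructor
  · intro h v hv
    exact h (x := Additive.ofMul (⟨v, hx hv⟩ : N)) hv
  · exact fun h v hv => h hv

theorem card_line {p r V : Subgroup G} [Finite G] (hp : p ∈ Pt) (hr : r ∈ Pt) (hpV : p ≤ V) (hrV : r ≤ V)
    (hpr : p ≠ r) (hV : Nat.card V ≤ q * q) : V = p ⊔ r := by
  have hle : p ⊔ r ≤ V := sup_le hpV hrV
  have hcc : r ≤ centralizer (p : Set G) := fun y hy =>
    mem_centralizer_iff.2 fun x hx => D.comm x (D.le p hp hx) y (D.le r hr hy)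
  refine (Subgroup.eq_of_le_of_card_ge hle (hV.trans ?_)).symm
  let f : p × r → (p ⊔ r : Subgroup G) := fun z => ⟨(z.1 : G) * (z.2 : G),
    mul_mem (mem_sup_left z.1.2) (mem_sup_right z.2.2)⟩
  have hinj : Function.Injective f := by
    rintro ⟨a, b⟩ ⟨a', b'⟩ h
    have h1 : (a : G) * (b : G) = (a' : G) * (b' : G) := congrArg Subtype.val h
    have h2 : (a' : G)⁻¹ * (a : G) = (b' : G) * (b : G)⁻¹ := by
      calc (a' : G)⁻¹ * (a : G) = (a' : G)⁻¹ * ((a : G) * (b : G)) * (b : G)⁻¹ := by group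
        _ = (b' : G) * (b : G)⁻¹ := by rw [h1]; group
    have h3 : (a' : G)⁻¹ * (a : G) = 1 := by
      by_contra hne
      refine hpr (D.ti p hp r hr _ (mul_mem (inv_mem a'.2) a.2) ?_ hne)
      rw [h2]
      exact mul_mem b'.2 (inv_mem b.2)
    have h4 : (a : G) = (a' : G) := (inv_mul_eq_one.1 h3).symm
    have h5 : (b : G) = (b' : G) := by
      rw [h4] at h1
      exact mul_left_cancel h1
    exact Prod.ext (Subtype.ext h4) (Subtype.ext h5)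
  have h1 := Nat.card_le_card_of_injective f hinj
  rwa [Nat.card_prod, D.card p hp, D.card r hr] at h1

variable [Finite G]

theorem q_le {p : Subgroup G} (hp : p ∈ Pt) : Nat.card (TT Pt X (pt N p)) ≤ q := by
  by_contra hlt
  push Not at hlt
  have hfin0 : Finite (Additive N) := inferInstanceAs (Finite N)
  obtain ⟨V, hpV, hVN, hVc, hcov, hperp, r, hr, hrV, hrp⟩ := D.line p hp
  refine D.bd.false_of_line (V := pt N V) ?_
    { cov := ?_, perp := ?_, gen := ?_, two := ?_, ex := ⟨_, ⟨p, hp, rfl⟩, (D.pt_le (D.le p hp)).2 hpV⟩ }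
  · rintro _ ⟨x, hx, rfl⟩
    rw [D.toGD.card' hx, D.toGD.card_TT hx, D.cardT x hx p hp, ← D.toGD.card_TT hp]
    exact hlt
  · intro v hv hv0
    obtain ⟨s, hs, hsV, hvs⟩ := hcov _ hv fun e => hv0 (Subtype.ext e)
    exact ⟨_, ⟨s, hs, rfl⟩, (D.pt_le (D.le s hs)).2 hsV, hvs⟩
  · rintro _ ⟨s, hs, rfl⟩ hsV _ ⟨x, hx, rfl⟩ hxV
    rw [D.adj_iff hs hx, not_not]
    exact (hperp s hs ((D.pt_le (D.le s hs)).1 hsV)).trans (centralizer_le ((D.pt_le (D.le x hx)).1 hxV))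
  · rintro _ ⟨s, hs, rfl⟩ hsV _ ⟨x, hx, rfl⟩ hxV hne
    have h1 := D.card_line hs hx ((D.pt_le (D.le s hs)).1 hsV) ((D.pt_le (D.le x hx)).1 hxV)
      (fun e => hne (by rw [e])) hVc
    intro v hv
    have h2 : ((v.toMul : N) : G) ∈ s ⊔ x := h1 ▸ hv
    have hcc : x ≤ centralizer (s : Set G) := fun y hy =>
      mem_centralizer_iff.2 fun z hz => D.comm z (D.le s hs hz) y (D.le x hx hy)
    obtain ⟨a, ha, b, hb, e⟩ := mem_sup_comm hcc h2
    rw [AddSubgroup.mem_sup]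
    exact ⟨Additive.ofMul (⟨a, D.le s hs ha⟩ : N), ha, Additive.ofMul (⟨b, D.le x hx hb⟩ : N), hb, Subtype.ext e⟩
  · rintro _ ⟨s, hs, rfl⟩ hsV
    by_cases h : s = p
    · subst h
      exact ⟨_, ⟨r, hr, rfl⟩, (D.pt_le (D.le r hr)).2 hrV, fun e => hrp (pt_inj (D.le r hr) (D.le s hs) e)⟩
    · exact ⟨_, ⟨p, hp, rfl⟩, (D.pt_le (D.le p hp)).2 hpV, fun e => h (pt_inj (D.le p hp) (D.le s hs) e).symm⟩

/-- the evaluation at a moved vector is injective -/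
theorem eta_inj {p : Subgroup G} (hp : p ∈ Pt) {η η' : Additive N →+ Additive N} (hη : η ∈ TT Pt X (pt N p))
    (hη' : η' ∈ TT Pt X (pt N p)) {b : Additive N} (hb : η b ≠ 0) (h : η' b = 0) : η' = 0 := by
  have hfin0 : Finite (Additive N) := inferInstanceAs (Finite N)
  have hfin : Finite (Additive N →+ Additive N) := Big.Bd.finite_hom
  let f : TT Pt X (pt N p) → pt N p := fun τ => ⟨τ.1 b, D.toGD.im hp τ.2 b⟩
  have hs : Function.Surjective f := by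
    intro a
    obtain ⟨ψ, hψ, h2, -⟩ := D.toGD.reg' hp hη hb a.2
    exact ⟨⟨ψ, hψ⟩, Subtype.ext h2⟩
  have hbij : Function.Bijective f := hs.bijective_of_nat_card_le (by rw [D.toGD.card' hp]; exact D.q_le hp)
  have h1 : f ⟨η', hη'⟩ = f 0 := Subtype.ext h
  exact congrArg Subtype.val (hbij.1 h1)

theorem ix_add {p r : Subgroup G} (hp : p ∈ Pt) (hr : r ∈ Pt) (h : ¬ X p ≤ centralizer (r : Set G)) (m : Additive N) :
    ∃ x ∈ pt N r, ∀ η ∈ TT Pt X (pt N p), η (m - x) = 0 := by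
  obtain ⟨η₀, hη₀, b, hb, hne⟩ := (D.adj_iff hp hr).2 h
  let f : pt N r → pt N p := fun v => ⟨η₀ v, D.toGD.im hp hη₀ v⟩
  have hf : Function.Injective f := by
    intro v v' e
    have e' : η₀ v = η₀ v' := congrArg Subtype.val e
    by_contra h1
    refine hne (D.eta_one hp hr hη₀ (sub_mem v.2 v'.2) (sub_ne_zero.2 fun e => h1 (Subtype.ext e)) ?_ b hb)
    rw [map_sub, e', sub_self]
  have : Finite (pt N p) := inferInstanceAs (Finite (pt N p))
  have hbij := hf.bijective_of_nat_card_le (by rw [D.toGD.card' hp, D.toGD.card' hr])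
  obtain ⟨⟨x, hx⟩, e⟩ := hbij.2 ⟨η₀ m, D.toGD.im hp hη₀ m⟩
  have e' : η₀ x = η₀ m := congrArg Subtype.val e
  refine ⟨x, hx, fun η hη => ?_⟩
  by_contra h0
  have h1 := D.eta_inj hp hη hη₀ h0 (by rw [map_sub, e', sub_self])
  exact hne (by rw [h1]; rfl)

theorem mem_pr_iff {p : Subgroup G} (hp : p ∈ Pt) {m : Additive N} :
    m ∈ pr (Tt N Pt X) (pt N p) ↔ ∀ η ∈ TT Pt X (pt N p), η m = 0 := by
  rw [D.mem_pr hp]
  constructor
  · intro h η hη
    obtain ⟨w, hw, e⟩ := (D.toGD.mem_TT hp).1 hη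
    exact (isC_zero e).2 (h w hw)
  · intro h w hw
    obtain ⟨η, hη, e⟩ := D.toGD.exists_of hp hw
    exact (isC_zero e).1 (h η hη)

theorem geo : Geo (pt N '' Pt) (Tt N Pt X) where
  ne := D.bd.ne
  ti := D.bd.ti
  mem := by
    rintro _ ⟨p, hp, rfl⟩ t ht m
    obtain ⟨w, hw, e⟩ := D.mem_Tt hp ht
    rw [sub_eq_add_neg, mem_pt]
    change (((t m).toMul : N) : G) * ((m.toMul : N) : G)⁻¹ ∈ p
    rw [e]
    exact D.XN p hp w hw _ (m.toMul : N).2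
  self := by
    rintro _ ⟨p, hp, rfl⟩
    rw [D.le_pr hp hp]
    exact fun w hw => mem_centralizer_iff.2 fun v hv => (D.Xp p hp w hw v hv).symm
  act := by
    rintro _ ⟨p, hp, rfl⟩ t ht _ ⟨x, hx, rfl⟩
    obtain ⟨w, hw, e⟩ := D.mem_Tt hp ht
    exact ⟨_, D.mv p hp w hw x hx, (D.mp_pt hx e).symm⟩
  cj := by
    rintro _ ⟨p, hp, rfl⟩ t ht _ ⟨x, hx, rfl⟩ m
    obtain ⟨w, hw, e⟩ := D.mem_Tt hp ht
    rw [D.mp_pt hx e, D.mem_pr (D.mv p hp w hw x hx), D.mem_pr hx, D.Xc p hp w hw x hx]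
    constructor
    · intro h g hg
      have h1 := h (w * g * w⁻¹) ⟨g, hg, rfl⟩
      rw [e] at h1
      have h2 : w⁻¹ * (w * g * w⁻¹ * (w * ((m.toMul : N) : G) * w⁻¹)) * w =
          w⁻¹ * (w * ((m.toMul : N) : G) * w⁻¹ * (w * g * w⁻¹)) * w := by rw [h1]
      calc g * ((m.toMul : N) : G) = w⁻¹ * (w * g * w⁻¹ * (w * ((m.toMul : N) : G) * w⁻¹)) * w := by group
        _ = w⁻¹ * (w * ((m.toMul : N) : G) * w⁻¹ * (w * g * w⁻¹)) * w := h2
        _ = _ := by group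
    · rintro h _ ⟨g, hg, rfl⟩
      change (w * g * w⁻¹) * (((t m).toMul : N) : G) = (((t m).toMul : N) : G) * (w * g * w⁻¹)
      rw [e]
      calc (w * g * w⁻¹) * (w * ((m.toMul : N) : G) * w⁻¹) = w * (g * ((m.toMul : N) : G)) * w⁻¹ := by group
        _ = w * (((m.toMul : N) : G) * g) * w⁻¹ := by rw [h g hg]
        _ = _ := by group
  sur := by
    rintro _ ⟨p, hp, rfl⟩ m hm v hv
    rw [D.mem_pr hp] at hm
    push Not at hm
    obtain ⟨w, hw, hne⟩ := hm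
    obtain ⟨w', hw', e, -⟩ := D.reg p hp w hw _ (m.toMul : N).2 hne _ hv
    obtain ⟨t, ht, e'⟩ := D.exists_Tt hp hw'
    refine ⟨t, ht, ?_⟩
    rw [add_comm]
    refine Subtype.ext ?_
    change (((t m).toMul : N) : G) = ((v.toMul : N) : G) * ((m.toMul : N) : G)
    have e2 : w' * ((m.toMul : N) : G) * w'⁻¹ * ((m.toMul : N) : G)⁻¹ = ((v.toMul : N) : G) := e
    rw [e', ← e2]
    group
  sym := by
    rintro _ ⟨p, hp, rfl⟩ _ ⟨x, hx, rfl⟩ h
    rw [D.le_pr hx hp]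
    rw [D.le_pr hp hx] at h
    by_contra hcon
    have hfin0 : Finite (Additive N) := inferInstanceAs (Finite N)
    exact (D.adj_iff hp hx).1 (D.bd.symm ⟨x, hx, rfl⟩ ⟨p, hp, rfl⟩ ((D.adj_iff hx hp).2 hcon)) h
  ix := by
    rintro _ ⟨p, hp, rfl⟩ _ ⟨x, hx, rfl⟩ h m
    rw [D.le_pr hp hx] at h
    obtain ⟨x₀, h1, h2⟩ := D.ix_add hp hx h m
    exact ⟨x₀, h1, (D.mem_pr_iff hp).2 h2⟩

theorem nk_add {m : Additive N} (h : ∀ p ∈ Pt, m ∈ pr (Tt N Pt X) (pt N p)) : m = 0 := by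
  have h1 : ((m.toMul : N) : G) = 1 := D.nk _ (m.toMul : N).2 fun p hp g hg => (D.mem_pr hp).1 (h p hp) g hg
  exact Subtype.ext h1

theorem geoL : GeoL (pt N '' Pt) (Tt N Pt X) where
  toGeo := D.geo
  o2 := by
    rintro _ - _ - t - t' - h m
    have h1 : t' (t m) - m = 0 := D.nk_add fun p hp => h m _ ⟨p, hp, rfl⟩
    exact sub_eq_zero.1 h1
  line := by
    rintro _ ⟨p, hp, rfl⟩
    obtain ⟨V, hpV, hVN, hVc, hcov, hperp, r, hr, hrV, hrp⟩ := D.line p hp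
    refine ⟨_, ⟨r, hr, rfl⟩, fun e => hrp (pt_inj (D.le p hp) (D.le r hr) e).symm, ?_, ?_⟩
    · rw [D.le_pr hp hr]
      exact (hperp p hp hpV).trans (centralizer_le hrV)
    · intro v hv hv0
      have h1 : pt N p ⊔ pt N r ≤ pt N V :=
        sup_le ((D.pt_le (D.le p hp)).2 hpV) ((D.pt_le (D.le r hr)).2 hrV)
      obtain ⟨s, hs, hsV, hvs⟩ := hcov _ (h1 hv) fun e => hv0 (Subtype.ext e)
      refine ⟨_, ⟨s, hs, rfl⟩, hvs, ?_⟩
      -- `V = p ⊔ r`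
      have h2 := D.card_line hp hr hpV hrV hrp.symm hVc
      intro m hm
      have h3 : ((m.toMul : N) : G) ∈ p ⊔ r := h2 ▸ hsV hm
      obtain ⟨a, ha, b, hb, e⟩ := mem_sup_comm (fun y hy =>
        mem_centralizer_iff.2 fun z hz => D.comm z (D.le p hp hz) y (D.le r hr hy)) h3
      rw [AddSubgroup.mem_sup]
      exact ⟨Additive.ofMul (⟨a, D.le p hp ha⟩ : N), ha, Additive.ofMul (⟨b, D.le r hr hb⟩ : N), hb, Subtype.ext e⟩
  nbr := by
    rintro _ ⟨p, hp, rfl⟩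
    obtain ⟨x, hx, h⟩ := D.exists_moved (D.mv_all hp)
    exact ⟨_, ⟨x, hx, rfl⟩, fun h1 => h ((D.le_pr hp hx).1 h1)⟩
  top := by
    intro m
    have h1 : (⊤ : AddSubgroup (Additive N)) ≤ sSup (pt N '' Pt) := by
      rw [← D.toGD.span']
      exact iSup₂_le fun p hp => le_sSup hp
    exact h1 (AddSubgroup.mem_top m)

theorem cn {p x : Subgroup G} (hp : p ∈ Pt) (hx : x ∈ Pt) : Cn (pt N '' Pt) (Tt N Pt X) (pt N p) (pt N x) := by
  have hpp : Cn (pt N '' Pt) (Tt N Pt X) (pt N p) (pt N p) := D.geoL.cn_refl ⟨p, hp, rfl⟩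
  have h := D.conn p hp x hx
  clear hx
  induction h with
  | refl => exact hpp
  | tail _ h2 ih =>
    obtain ⟨hb, hc, h3⟩ := h2
    refine D.geo.cn_step ⟨p, hp, rfl⟩ ⟨_, hb, rfl⟩ ⟨_, hc, rfl⟩ ih ?_
    rcases h3 with h3 | h3
    · exact fun h4 => h3 ((D.le_pr hb hc).1 h4)
    · exact fun h4 => h3 ((D.le_pr hc hb).1 (D.geo.sym _ ⟨_, hb, rfl⟩ _ ⟨_, hc, rfl⟩ h4))

theorem geoO : GeoO (pt N '' Pt) (Tt N Pt X) where
  toGeoL := D.geoL
  cn := by
    rintro _ ⟨p, hp, rfl⟩ _ ⟨x, hx, rfl⟩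
    exact D.cn hp hx
  nonempty := D.ex.image _

end comm

/-! ### Group forms -/

variable (D : ND N Pt X q)
include D

theorem isc : IsMulCommutative N := ⟨⟨fun a b => Subtype.ext (D.comm a a.2 b b.2)⟩⟩

/-- `X p` centralises a vector `≠ 1` of `x` : it centralises `x` -/
theorem one {p x : Subgroup G} (hp : p ∈ Pt) (hx : x ∈ Pt) {v : G} (hv : v ∈ x) (hv1 : v ≠ 1)
    (h : ∀ w ∈ X p, w * v = v * w) : X p ≤ centralizer (x : Set G) := by
  intro w hw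
  have h1 : MulAut.conj w • x = x := by
    refine D.ti _ (D.mv p hp w hw x hx) x hx v ⟨v, hv, ?_⟩ hv hv1
    change w * v * w⁻¹ = v
    rw [h w hw, mul_inv_cancel_right]
  refine mem_centralizer_iff.2 fun u hu => ?_
  by_contra hne
  have h2 : w * u * w⁻¹ ∈ x := h1 ▸ (⟨u, hu, rfl⟩ : w * u * w⁻¹ ∈ MulAut.conj w • x)
  have h3 : w * u * w⁻¹ * u⁻¹ ≠ 1 := by
    intro e
    rw [mul_inv_eq_one, mul_inv_eq_iff_eq_mul] at e
    exact hne e.symm
  have h4 := D.ti p hp x hx _ (D.XN p hp w hw u (D.le x hx hu)) (mul_mem h2 (inv_mem hu)) h3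
  subst h4
  exact hne (D.Xp p hp w hw u hu).symm

theorem exists_v {p : Subgroup G} (hp : p ∈ Pt) : ∃ v ∈ p, v ≠ 1 := by
  have := D.isc
  exact D.exists_ne hp

variable [Finite G]

theorem sym {p x : Subgroup G} (hp : p ∈ Pt) (hx : x ∈ Pt) (h : X p ≤ centralizer (x : Set G)) :
    X x ≤ centralizer (p : Set G) := by
  have := D.isc
  exact (D.le_pr hx hp).1 (D.geo.sym _ ⟨p, hp, rfl⟩ _ ⟨x, hx, rfl⟩ ((D.le_pr hp hx).2 h))

/-- `N = r C_N(X p)` -/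
theorem ix {p r : Subgroup G} (hp : p ∈ Pt) (hr : r ∈ Pt) (h : ¬ X p ≤ centralizer (r : Set G)) {m : G} (hm : m ∈ N) :
    ∃ x ∈ r, ∀ w ∈ X p, w * (m * x⁻¹) = (m * x⁻¹) * w := by
  have := D.isc
  obtain ⟨x, hx, h1⟩ := D.geo.ix _ ⟨p, hp, rfl⟩ _ ⟨r, hr, rfl⟩ (fun h1 => h ((D.le_pr hp hr).1 h1))
    (Additive.ofMul (⟨m, hm⟩ : N))
  refine ⟨((x.toMul : N) : G), hx, ?_⟩
  rw [sub_eq_add_neg] at h1
  exact (D.mem_pr hp).1 h1

/-- hyperbolic lines are unions of points -/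
theorem hyp {p r : Subgroup G} (hp : p ∈ Pt) (hr : r ∈ Pt) (h : ¬ X p ≤ centralizer (r : Set G)) {x y : G}
    (hx : x ∈ p) (hy : y ∈ r) (h1 : x * y ≠ 1) : ∃ s ∈ Pt, x * y ∈ s ∧ s ≤ p ⊔ r := by
  have := D.isc
  obtain ⟨_, ⟨s, hs, rfl⟩, h2, h3⟩ := D.geo.hyp' ⟨p, hp, rfl⟩ ⟨r, hr, rfl⟩ (fun h1 => h ((D.le_pr hp hr).1 h1))
    (x := Additive.ofMul (⟨x, D.le p hp hx⟩ : N)) (y := Additive.ofMul (⟨y, D.le r hr hy⟩ : N)) hx hy
    (fun e => h1 (congrArg (fun t : Additive N => ((t.toMul : N) : G)) e))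
  refine ⟨s, hs, h2, fun v hv => ?_⟩
  have h4 := h3 (x := Additive.ofMul (⟨v, D.le s hs hv⟩ : N)) hv
  obtain ⟨a, ha, b, hb, e⟩ := AddSubgroup.mem_sup.1 h4
  have e' : ((a.toMul : N) : G) * ((b.toMul : N) : G) = v :=
    congrArg (fun t : Additive N => ((t.toMul : N) : G)) e
  rw [← e']
  exact mul_mem (mem_sup_left ha) (mem_sup_right hb)

/-- **every element `≠ 1` lies in a point** -/
theorem vect {v : G} (hv : v ∈ N) (hv1 : v ≠ 1) : ∃ p ∈ Pt, v ∈ p := by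
  have := D.isc
  obtain ⟨_, ⟨p, hp, rfl⟩, h⟩ := D.geoO.vect (Additive.ofMul (⟨v, hv⟩ : N))
    (fun e => hv1 (congrArg (fun t : Additive N => ((t.toMul : N) : G)) e))
  exact ⟨p, hp, h⟩

/-- different points have different perps -/
theorem sep {p x : Subgroup G} (hp : p ∈ Pt) (hx : x ∈ Pt) (hne : p ≠ x) :
    ∃ r ∈ Pt, X p ≤ centralizer (r : Set G) ∧ ¬ X x ≤ centralizer (r : Set G) := by
  have := D.isc
  obtain ⟨_, ⟨r, hr, rfl⟩, h1, h2⟩ := D.geoL.sep ⟨p, hp, rfl⟩ ⟨x, hx, rfl⟩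
    (fun e => hne (pt_inj (D.le p hp) (D.le x hx) e)) (D.cn hp hx)
  exact ⟨r, hr, (D.le_pr hp hr).1 h1, fun h => h2 ((D.le_pr hx hr).2 h)⟩

theorem two {x y y' : Subgroup G} (hx : x ∈ Pt) (hy : y ∈ Pt) (hy' : y' ∈ Pt) (h : x ≠ y) (h' : x ≠ y') :
    ∃ p ∈ Pt, X x ≤ centralizer (p : Set G) ∧ ¬ X y ≤ centralizer (p : Set G) ∧ ¬ X y' ≤ centralizer (p : Set G) := by
  have := D.isc
  obtain ⟨_, ⟨p, hp, rfl⟩, h1, h2, h3⟩ := D.geoO.two ⟨x, hx, rfl⟩ ⟨y, hy, rfl⟩ ⟨y', hy', rfl⟩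
    (fun e => h (pt_inj (D.le x hx) (D.le y hy) e)) (fun e => h' (pt_inj (D.le x hx) (D.le y' hy') e))
  exact ⟨p, hp, (D.le_pr hx hp).1 h1, fun h => h2 ((D.le_pr hy hp).2 h), fun h => h3 ((D.le_pr hy' hp).2 h)⟩

/-- **transitivity on the points `≠ c` of `c^⊥`** : one step -/
theorem step {c y p : Subgroup G} (hc : c ∈ Pt) (hy : y ∈ Pt) (hp : p ∈ Pt) (hcy : X c ≤ centralizer (y : Set G))
    (hcp : X c ≤ centralizer (p : Set G)) (hyp : ¬ X y ≤ centralizer (p : Set G)) :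
    ∃ s ∈ Pt, X s ≤ centralizer (c : Set G) ∧ ∃ w ∈ X s, MulAut.conj w • y = p := by
  obtain ⟨u, hu, hu1⟩ := D.exists_v hy
  obtain ⟨v, hv, hv1⟩ := D.exists_v hp
  have hyp' : y ≠ p := by
    rintro rfl
    exact hyp fun w hw => mem_centralizer_iff.2 fun z hz => (D.Xp y hy w hw z hz).symm
  have hm : u⁻¹ * v ≠ 1 := by
    intro e
    have e1 : u = v := inv_mul_eq_one.1 e
    exact hyp' (D.ti y hy p hp u hu (e1 ▸ hv) hu1)
  obtain ⟨s, hs, h1, h2⟩ := D.hyp hy hp hyp (inv_mem hu) hv hm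
  have hcs : X c ≤ centralizer (s : Set G) := by
    have h3 : y ⊔ p ≤ centralizer (X c : Set G) :=
      sup_le (by rwa [le_centralizer_iff] at hcy) (by rwa [le_centralizer_iff] at hcp)
    rw [le_centralizer_iff]
    exact h2.trans h3
  refine ⟨s, hs, D.sym hc hs hcs, ?_⟩
  -- `u` is moved by `X s`
  have h4 : ∃ w ∈ X s, w * u ≠ u * w := by
    by_contra hcon
    push Not at hcon
    have h5 : X s ≤ centralizer (y : Set G) := D.one hs hy hu hu1 hcon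
    have h6 : X y ≤ centralizer (s : Set G) := D.sym hs hy h5
    refine hyp (D.one hy hp hv hv1 fun w hw => ?_)
    have h7 : w * (u⁻¹ * v) = (u⁻¹ * v) * w := (mem_centralizer_iff.1 (h6 hw) _ h1).symm
    have h8 : w * u⁻¹ = u⁻¹ * w := D.Xp y hy w hw _ (inv_mem hu)
    have h9 : u⁻¹ * (w * v) = u⁻¹ * (v * w) := by
      calc u⁻¹ * (w * v) = w * (u⁻¹ * v) := by rw [← mul_assoc, ← h8, mul_assoc]
        _ = u⁻¹ * (v * w) := by rw [h7, mul_assoc]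
    exact mul_left_cancel h9
  obtain ⟨w, hw, hwu⟩ := h4
  obtain ⟨w', hw', e, -⟩ := D.reg s hs w hw u (D.le y hy hu) hwu _ h1
  refine ⟨w', hw', D.ti _ (D.mv s hs w' hw' y hy) p hp v ⟨u, hu, ?_⟩ hv hv1⟩
  change w' * u * w'⁻¹ = v
  have e1 : w' * u * w'⁻¹ = (u⁻¹ * v) * u := by rw [← e]; group
  rw [e1, D.comm _ (mul_mem (inv_mem (D.le y hy hu)) (D.le p hp hv)) u (D.le y hy hu)]
  group

/-- **transitivity on the points `≠ c` of `c^⊥`** : two steps -/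
theorem trans {c y p : Subgroup G} (hc : c ∈ Pt) (hy : y ∈ Pt) (hp : p ∈ Pt) (hcy : X c ≤ centralizer (y : Set G))
    (hcp : X c ≤ centralizer (p : Set G)) (hy' : c ≠ y) (hp' : c ≠ p) :
    ∃ g : G, g ∈ centralizer (c : Set G) ∧ MulAut.conj g • y = p ∧
      ∃ s ∈ Pt, ∃ s' ∈ Pt, ∃ w ∈ X s, ∃ w' ∈ X s', g = w' * w := by
  obtain ⟨r, hr, h1, h2, h3⟩ := D.two hc hy hp hy' hp'
  obtain ⟨s, hs, h4, w, hw, h5⟩ := D.step hc hy hr hcy h1 h2
  obtain ⟨s', hs', h6, w', hw', h7⟩ := D.step hc hr hp h1 hcp fun h => h3 (D.sym hr hp h)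
  refine ⟨w' * w, mul_mem (h6 hw') (h4 hw), ?_, s, hs, s', hs', w, hw, w', hw', rfl⟩
  rw [map_mul, mul_smul, h5, h7]

/-- **LEMMA T'.** `g` centralises `c` and `[N, g] ≤ c`, `g` permutes the points with their groups: `g` centralises the
points perpendicular to `c`. -/
theorem tv {c x : Subgroup G} (hc : c ∈ Pt) (hx : x ∈ Pt) {g : G} (hgc : ∀ v ∈ c, g * v = v * g)
    (hgN : ∀ v ∈ N, g * v * g⁻¹ * v⁻¹ ∈ c) (hgm : ∀ s ∈ Pt, MulAut.conj g • s ∈ Pt)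
    (hgX : ∀ s ∈ Pt, X (MulAut.conj g • s) = MulAut.conj g • X s) (hcx : X c ≤ centralizer (x : Set G)) :
    ∀ v ∈ x, g * v = v * g := by
  by_contra hcon
  push Not at hcon
  obtain ⟨v₁, hv₁, hne₁⟩ := hcon
  have hcx' : c ≠ x := by
    rintro rfl
    exact hne₁ (hgc v₁ hv₁)
  -- `g` fixes no vector `≠ 1` of `x`
  have hinj : ∀ v ∈ x, g * v = v * g → v = 1 := by
    intro v hv e
    by_contra hv1
    have h1 : MulAut.conj g • x = x := by
      refine D.ti _ (hgm x hx) x hx v ⟨v, hv, ?_⟩ hv hv1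
      change g * v * g⁻¹ = v
      rw [e, mul_inv_cancel_right]
    have h2 : g * v₁ * g⁻¹ ∈ x := h1 ▸ (⟨v₁, hv₁, rfl⟩ : g * v₁ * g⁻¹ ∈ MulAut.conj g • x)
    by_cases h3 : g * v₁ * g⁻¹ * v₁⁻¹ = 1
    · rw [mul_inv_eq_one, mul_inv_eq_iff_eq_mul] at h3
      exact hne₁ h3
    · exact hcx' (D.ti c hc x hx _ (hgN _ (D.le x hx hv₁)) (mul_mem h2 (inv_mem hv₁)) h3)
  -- `y ⊥ x`, `y` not `⊥ c`
  obtain ⟨y, hy, h1, h2⟩ := D.sep hx hc hcx'.symm
  obtain ⟨u, hu, hu1⟩ := D.exists_v hy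
  -- `x₀ ∈ x` with `[x₀, g] = [u, g]`
  have hcomm : ∀ a ∈ N, ∀ b ∈ N, g * (a * b) * g⁻¹ * (a * b)⁻¹ = (g * a * g⁻¹ * a⁻¹) * (g * b * g⁻¹ * b⁻¹) := by
    intro a ha b hb
    have h3 : g * b * g⁻¹ * b⁻¹ ∈ N := D.le c hc (hgN b hb)
    have h4 := D.comm _ h3 _ (inv_mem ha)
    calc g * (a * b) * g⁻¹ * (a * b)⁻¹ = (g * a * g⁻¹) * ((g * b * g⁻¹ * b⁻¹) * a⁻¹) := by group
      _ = _ := by rw [h4]; group
  obtain ⟨x₀, hx₀, e₀⟩ : ∃ x₀ ∈ x, g * x₀ * g⁻¹ * x₀⁻¹ = g * u * g⁻¹ * u⁻¹ := by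
    let f : x → c := fun v => ⟨g * v * g⁻¹ * (v : G)⁻¹, hgN v (D.le x hx v.2)⟩
    have hf : Function.Injective f := by
      intro a b e
      have e1 : g * a * g⁻¹ * (a : G)⁻¹ = g * b * g⁻¹ * (b : G)⁻¹ := congrArg Subtype.val e
      have h3 : g * ((a : G) * (b : G)⁻¹) = ((a : G) * (b : G)⁻¹) * g := by
        have h4 := hcomm a (D.le x hx a.2) (b : G)⁻¹ (inv_mem (D.le x hx b.2))
        have h5 := hcomm b (D.le x hx b.2) (b : G)⁻¹ (inv_mem (D.le x hx b.2))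
        rw [← e1, ← h4, mul_inv_cancel, mul_one, mul_inv_cancel, inv_one, mul_one] at h5
        rw [eq_comm, mul_inv_eq_one, mul_inv_eq_iff_eq_mul] at h5
        exact h5
      exact Subtype.ext (mul_inv_eq_one.1 (hinj _ (mul_mem a.2 (inv_mem b.2)) h3))
    have hbij := hf.bijective_of_nat_card_le (by rw [D.card c hc, D.card x hx])
    obtain ⟨x₀, e⟩ := hbij.2 ⟨g * u * g⁻¹ * u⁻¹, hgN u (D.le y hy hu)⟩
    exact ⟨x₀, x₀.2, congrArg Subtype.val e⟩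
  set v := u * x₀⁻¹ with hv
  have hxN := D.le x hx hx₀
  have huN := D.le y hy hu
  have hvN : v ∈ N := mul_mem huN (inv_mem hxN)
  have hgv : g * v = v * g := by
    have h3 := hcomm u huN x₀⁻¹ (inv_mem hxN)
    have h4 := hcomm x₀ hxN x₀⁻¹ (inv_mem hxN)
    rw [e₀, ← h3, mul_inv_cancel, mul_one, mul_inv_cancel, inv_one, mul_one, eq_comm, mul_inv_eq_one,
      mul_inv_eq_iff_eq_mul] at h4
    exact h4
  -- `v` is not perpendicular to `c`
  have hcv : ¬ ∀ w ∈ X c, w * v = v * w := by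
    intro h
    refine h2 (D.one hc hy hu hu1 fun w hw => ?_)
    have h3 : w * x₀ = x₀ * w := (mem_centralizer_iff.1 (hcx hw) x₀ hx₀).symm
    have h4 : u = v * x₀ := by rw [hv]; group
    rw [h4]
    calc w * (v * x₀) = (w * v) * x₀ := by group
      _ = v * (w * x₀) := by rw [h w hw]; group
      _ = v * x₀ * w := by rw [h3]; group
  have hv1 : v ≠ 1 := by
    intro e
    exact hcv fun w _ => by rw [e]; simp
  obtain ⟨s, hs, hvs⟩ := D.vect hvN hv1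
  have hcs : ¬ X c ≤ centralizer (s : Set G) := fun h => hcv fun w hw => (mem_centralizer_iff.1 (h hw) v hvs).symm
  -- `s ⊥ x`
  have hxs : X x ≤ centralizer (s : Set G) := by
    refine D.one hx hs hvs hv1 fun w hw => ?_
    have h3 : w * u = u * w := (mem_centralizer_iff.1 (h1 hw) u hu).symm
    have h4 : w * x₀⁻¹ = x₀⁻¹ * w := D.Xp x hx w hw _ (inv_mem hx₀)
    rw [hv]
    calc w * (u * x₀⁻¹) = (w * u) * x₀⁻¹ := by group
      _ = u * (w * x₀⁻¹) := by rw [h3]; group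
      _ = u * x₀⁻¹ * w := by rw [h4]; group
  have hsx : X s ≤ centralizer (x : Set G) := D.sym hx hs hxs
  -- `g` fixes `s`
  have hgs : MulAut.conj g • s = s := by
    refine D.ti _ (hgm s hs) s hs v ⟨v, hvs, ?_⟩ hvs hv1
    change g * v * g⁻¹ = v
    rw [hgv, mul_inv_cancel_right]
  -- `s ⊥ [v₁, g]`
  have h3 : g * v₁ * g⁻¹ * v₁⁻¹ ≠ 1 := by
    intro e
    rw [mul_inv_eq_one, mul_inv_eq_iff_eq_mul] at e
    exact hne₁ e
  refine hcs (D.sym hs hc (D.one hs hc (hgN v₁ (D.le x hx hv₁)) h3 fun w hw => ?_))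
  have h4 : X s = MulAut.conj g • X s := by
    have := hgX s hs
    rwa [hgs] at this
  have h5 : w * (g * v₁ * g⁻¹) = (g * v₁ * g⁻¹) * w := by
    rw [h4] at hw
    obtain ⟨w₀, hw₀, rfl⟩ := hw
    have h6 : v₁ * w₀ = w₀ * v₁ := mem_centralizer_iff.1 (hsx hw₀) v₁ hv₁
    change g * w₀ * g⁻¹ * (g * v₁ * g⁻¹) = g * v₁ * g⁻¹ * (g * w₀ * g⁻¹)
    calc g * w₀ * g⁻¹ * (g * v₁ * g⁻¹) = g * (w₀ * v₁) * g⁻¹ := by group
      _ = g * (v₁ * w₀) * g⁻¹ := by rw [h6]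
      _ = _ := by group
  have h6 : w * v₁⁻¹ = v₁⁻¹ * w := (mem_centralizer_iff.1 (hsx hw) _ (inv_mem hv₁)).symm
  calc w * (g * v₁ * g⁻¹ * v₁⁻¹) = w * (g * v₁ * g⁻¹) * v₁⁻¹ := by group
    _ = (g * v₁ * g⁻¹) * (w * v₁⁻¹) := by rw [h5]; group
    _ = _ := by rw [h6]; group

end ND

end Cfsg.Agent.Omega.NO3S.EThree.NrGeo
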