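import Cfsg.Agent.Omega.NO3S.EThree.NrTwo
import Cfsg.Agent.Omega.NO3S.EThree.IntQ

/-!
# (NR2) over the frame `FQ` of TEXT Q4, all `q`

`FQ.tip`, `FQ.pts`, `FQ.nobX`, `FQ.fixP` : the inputs `TIp`, `Pts`, `NobX`, `FixN` of `PG.PeelQ`;
`FQ.trans_Z` : `N_G(Z 0)` is transitive on `(Z 0)#`; `FQ.noRadN` : `Z 0 ≰ N_1` gives `N_a ∩ N_c = 1` for `a ~ c`;
`FQ.nrTwo` : no radical and `[X_1, N_2] = 1`: `False`, from `NoP` and `ThmC2` (THEOREM C) only.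
-/

set_option autoImplicit false
set_option linter.unusedSectionVars false

namespace Cfsg.Agent.Omega.NO3S.EThree.FQ

open Subgroup Cfsg Cfsg.Agent.ZN Cfsg.Agent.Omega.MinPar
open Cfsg.Agent.Omega.NoFF.Basic (conj_conj mem_conj conj_le_iff conj_le_centralizer comm_symm comm_mono)
open Cfsg.Agent.Omega.NOThreeL.Pair (conj_eq_of_mem)
open Cfsg.Agent.Omega.OM.PG Cfsg.Agent.Omega.OM.PG.PeelQ
open Cfsg.Agent.Omega.OM.PG.Peel (XW XW_conj)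
open Cfsg.Agent.Omega.NO3S.EThree.ExactA (eab_iff eab_mono NoP)
open scoped Pointwise

universe u

variable {G : Type u} [Group G] {Z U : Fin 2 → Subgroup G} {B : Subgroup G} {q : ℕ} (D : FQ Z U B q)
include D

theorem tip : TIp Z := by
  intro a b ha hb hne
  rw [eq_bot_iff]
  rintro x ⟨hx, hx'⟩
  rw [mem_bot]
  by_contra h1
  exact hne (D.ti a b ha hb x hx hx' h1)

/-- `[X_1, N_2] = 1` for one pair -/
theorem flt (h : XW Z U (Z 0) ≤ centralizer (NN Z (Z 1) : Set G)) : NrTwo.Flt Z (XW Z U) := by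
  rintro _ _ ⟨k, rfl, rfl⟩
  rw [XW_conj, NN_conj]
  exact conj_le_centralizer h

variable [Finite G]

/-- an element of `U 0 - Z 0` is moved into `x` by `N(Z 0) ∩ N(U 0)` -/
theorem exists_mv_to {x y : G} (hx : x ∈ U 0) (hxZ : x ∉ Z 0) (hy : y ∈ U 0) (hyZ : y ∉ Z 0) :
    ∃ g : G, MulAut.conj g • Z 0 = Z 0 ∧ MulAut.conj g • U 0 = U 0 ∧ g * x * g⁻¹ = y := by
  obtain ⟨h, -, h1, h2, h3⟩ := D.tor 0 1 (by decide) x hx hxZ y hy hyZ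
  obtain ⟨b, hb, -, h4⟩ := D.root 0 1 (by decide) y hy hyZ _ h3
  -- `h x h⁻¹ = y z = b y b⁻¹` up to commutation
  have hyz : y * (y⁻¹ * (h * x * h⁻¹)) = (y⁻¹ * (h * x * h⁻¹)) * y :=
    mem_centralizer_iff.1 ((eab_iff.1 (D.eU 0)).1 (D.ZU' 0 h3)) y hy
  have e1 : b * y * b⁻¹ = h * x * h⁻¹ := by
    calc b * y * b⁻¹ = (b * y * b⁻¹ * y⁻¹) * y := by group
      _ = (y⁻¹ * (h * x * h⁻¹)) * y := by rw [h4]
      _ = y * (y⁻¹ * (h * x * h⁻¹)) := hyz.symm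
      _ = _ := by group
  have hbZ : MulAut.conj b⁻¹ • Z 0 = Z 0 := conj_eq_of_mem (inv_mem (D.B_le_HH 0 hb))
  have hbU : MulAut.conj b⁻¹ • U 0 = U 0 := conj_eq_of_mem (inv_mem (D.B_le_NU 0 hb))
  refine ⟨b⁻¹ * h, ?_, ?_, ?_⟩
  · rw [← conj_conj, h1, hbZ]
  · rw [← conj_conj, h2, hbU]
  · calc b⁻¹ * h * x * (b⁻¹ * h)⁻¹ = b⁻¹ * (h * x * h⁻¹) * b := by group
      _ = b⁻¹ * (b * y * b⁻¹) * b := by rw [e1]
      _ = y := by group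

/-- every element `≠ 1` of `U 0` is in a point -/
theorem pts : Pts Z U := by
  intro x hx hx1
  by_cases hxZ : x ∈ Z 0
  · exact ⟨1, by rw [map_one, one_smul]; exact D.ZU' 0, by rw [map_one, one_smul]; exact hxZ⟩
  obtain ⟨l, hl1, hl2, -, -, -⟩ := D.mvl 0 1 (by decide)
  obtain ⟨z, hz, hz1⟩ := (Z 0).bot_or_exists_ne_one.resolve_left D.ne
  have hy : l * z * l⁻¹ ∈ MulAut.conj l • Z 0 := ⟨z, hz, rfl⟩
  have hlU : MulAut.conj l • Z 0 ≤ U 0 := by rw [← hl1]; exact conj_le_iff.2 (D.ZU' 0)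
  have hyZ : l * z * l⁻¹ ∉ Z 0 := by
    intro h
    have h3 : l * z * l⁻¹ ∈ MulAut.conj l • Z 0 ⊓ Z 0 := ⟨hy, h⟩
    rw [hl2, mem_bot] at h3
    exact hz1 (conj_eq_one_iff.1 h3)
  obtain ⟨g, -, hgU, hg⟩ := D.exists_mv_to (hlU hy) hyZ hx hxZ
  refine ⟨g * l, ?_, ?_⟩
  · rw [← conj_conj, ← hgU]
    exact conj_le_iff.2 hlU
  · rw [← conj_conj, ← hg]
    exact ⟨_, hy, rfl⟩

/-- `N_G(Z 0)` is transitive on `(Z 0)#` -/
theorem trans_Z {a a' : G} (ha : a ∈ Z 0) (ha1 : a ≠ 1) (ha' : a' ∈ Z 0) (ha1' : a' ≠ 1) :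
    ∃ g ∈ HH (Z 0), g * a * g⁻¹ = a' := by
  obtain ⟨l, hl1, hl2, -, -, -⟩ := D.mvl 0 1 (by decide)
  have hlU' : MulAut.conj l⁻¹ • U 0 = U 0 := by
    have h3 := congrArg (fun X => MulAut.conj l⁻¹ • X) hl1
    simpa only [inv_conj_conj] using h3.symm
  have key : ∀ c ∈ Z 0, c ≠ 1 → l⁻¹ * c * l ∈ U 0 ∧ l⁻¹ * c * l ∉ Z 0 := by
    intro c hc hc1
    refine ⟨?_, fun h => hc1 ?_⟩
    · rw [← hlU']
      refine ⟨c, D.ZU' 0 hc, ?_⟩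
      change l⁻¹ * c * l⁻¹⁻¹ = _
      rw [inv_inv]
    · have h3 : c ∈ MulAut.conj l • Z 0 ⊓ Z 0 := by
        refine ⟨⟨_, h, ?_⟩, hc⟩
        change l * (l⁻¹ * c * l) * l⁻¹ = c
        group
      rwa [hl2, mem_bot] at h3
  obtain ⟨g, -, -, hg⟩ := D.exists_mv_to (key a ha ha1).1 (key a ha ha1).2 (key a' ha' ha1').1 (key a' ha' ha1').2
  have e : l * g * l⁻¹ * a * (l * g * l⁻¹)⁻¹ = a' := by
    calc l * g * l⁻¹ * a * (l * g * l⁻¹)⁻¹ = l * (g * (l⁻¹ * a * l) * g⁻¹) * l⁻¹ := by group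
      _ = l * (l⁻¹ * a' * l) * l⁻¹ := by rw [hg]
      _ = a' := by group
  refine ⟨l * g * l⁻¹, ?_, e⟩
  refine ChoiceBase.mem_normalizer_iff_cj.2 ?_
  change MulAut.conj (l * g * l⁻¹) • Z 0 = Z 0
  exact D.ti _ _ ((D.pt 0).conj _) (D.pt 0) a' ⟨a, ha, e⟩ ha' ha1'

/-- `Z 0 ≰ N_1` : `N_1 ∩ Z 0 = 1` -/
theorem N_inf_Z (hZ : ¬ Z 0 ≤ NN Z (Z 0)) (i : Fin 2) {x : G} (hx : x ∈ NN Z (Z i)) (hxZ : x ∈ Z i) : x = 1 := by
  have key : ∀ x ∈ NN Z (Z 0), x ∈ Z 0 → x = 1 := by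
    intro x hx hxZ
    by_contra hx1
    apply hZ
    intro y hy
    by_cases hy1 : y = 1
    · rw [hy1]; exact one_mem _
    obtain ⟨g, hg, rfl⟩ := D.trans_Z hxZ hx1 hy hy1
    exact (mem_normalizer_iff.1 (PP.HH_le_NN (Z 0) hg) _).1 hx
  rcases fin_two_or (by decide : (0 : Fin 2) ≠ 1) i with h | h
  · rw [h] at hx hxZ; exact key x hx hxZ
  · rw [h] at hx hxZ
    obtain ⟨s, h0, -, -, -⟩ := D.swap
    rw [← h0, NN_conj] at hx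
    rw [← h0] at hxZ
    obtain ⟨y, hy, rfl⟩ := hx
    have h1 : y ∈ Z 0 := by
      obtain ⟨w, hw, e⟩ := hxZ
      have : w = y := (MulAut.conj s).injective e
      rwa [← this]
    rw [key y hy h1]
    exact map_one _

/-- **`Z 0 ≰ N_1` : `N_a ∩ N_c = 1` for `a ~ c`.** -/
theorem noRadN (hZ : ¬ Z 0 ≤ NN Z (Z 0)) : NrTwo.NoRadN Z := by
  have h01 : NN Z (Z 0) ⊓ NN Z (Z 1) = ⊥ := by
    by_contra hne
    have hB : NN Z (Z 0) ⊓ NN Z (Z 1) ≤ B := inf_le_left.trans ((D.N_le_O 0).trans D.O_le_B)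
    obtain ⟨x, hx, hx1, hxB⟩ := Cfsg.Agent.Omega.NoFF.LinesPlug.exists_fixed D.B2 hB (NO3L.LemP.le_normalizer_inf
      (fun b hb => D.HH_norm_N 0 (D.B_le_HH 0 hb)) (fun b hb => D.HH_norm_N 1 (D.B_le_HH 1 hb))) hne
    have hx2 : x ^ 2 = 1 := (eab_iff.1 (D.N_eab 0)).2 x hx.1
    have h1 := D.zB x (hB hx) hx2 hxB
    obtain ⟨a, ha, b, hb, e⟩ := D.sup_mem (i := 0) (j := 1) (by decide) h1
    have ha1 : a = 1 := by
      refine D.N_inf_Z hZ 0 ?_ ha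
      have h3 : a = x * b⁻¹ := by rw [e]; group
      rw [h3]
      exact mul_mem hx.1 (inv_mem ((D.adj (i := 0) (j := 1) (by decide)).le_NN hb))
    have hb1 : b = 1 := by
      refine D.N_inf_Z hZ 1 ?_ hb
      have h3 : b = a⁻¹ * x := by rw [e]; group
      rw [h3]
      exact mul_mem (inv_mem ((D.adj (i := 1) (j := 0) (by decide)).le_NN ha)) hx.2
    exact hx1 (by rw [e, ha1, hb1, one_mul])
  rintro _ _ ⟨k, rfl, rfl⟩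
  rw [NN_conj, NN_conj, ← Subgroup.smul_inf, h01]
  simp

theorem nobX : NobX Z (XW Z U) := by
  obtain ⟨x, hx, hxZ⟩ := D.exists_ne_Z 0
  refine nobX_of D.toPP (nobU_of D.toPP (fun h => hxZ (h hx)) ?_ ?_)
  · intro y hy v hv hvZ hc
    exact D.free 0 y ((D.Q_le_O 0).trans D.O_le_B hy) v hv hvZ hc
  · rw [D.cardU, D.cardZ, pow_two]

/-- `FixN` -/
theorem fixP : FixN Z := by
  obtain ⟨x, hx, hxZ⟩ := D.exists_ne_Z 0
  exact fixN_of D.toPP D.tip D.pts (D.eU 0) fun h => hxZ (h hx)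

/-- **(NR2), all `q`, over `FQ`.** -/
theorem nrTwo (hNO : NoP Z) (hG : ThmC2 Z (XW Z U)) (hZ : ¬ Z 0 ≤ NN Z (Z 0))
    (hA : XW Z U (Z 0) ≤ centralizer (NN Z (Z 1) : Set G)) : False :=
  NrTwo.nrTwo D.toPP D.xf D.nobX hNO hG D.tip D.fixP (D.noRadN hZ) (D.flt hA)

end Cfsg.Agent.Omega.NO3S.EThree.FQ
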