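import Cfsg.Agent.Omega.NO3S.EThree.NrOneB
import Cfsg.Agent.Omega.NO3S.EThree.NrTwoQ

/-!
# (NR1) over the frame `FQ` of TEXT Q4: no radical, `[X_1, N_2] = 1`

* `NrOne.com` : `[N_a, N_u] = 1` for `a ~ u`; `NrOne.fx` : a `B`-invariant subgroup `≠ 1` of `N_1` meets `Z 1`;
  `NrOne.irr` : `N_1` is irreducible for `N_G(Z 0)`;
* **`NrOne.nr_one`** : `X_u` centralises `N_a` for `a ~ u`.
-/

set_option autoImplicit false
set_option linter.unusedSectionVars false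

namespace Cfsg.Agent.Omega.NO3S.EThree.NrOne

open Subgroup Cfsg Cfsg.Agent.ZN Cfsg.Agent.Omega.MinPar
open Cfsg.Agent.Omega.NoFF.Basic (conj_conj mem_conj conj_le_iff conj_le_centralizer comm_symm comm_mono)
open Cfsg.Agent.Omega.NOThreeL.Pair (conj_eq_of_mem)
open Cfsg.Agent.Omega.OM.PG Cfsg.Agent.Omega.OM.PG.PeelQ
open Cfsg.Agent.Omega.OM.PG.Peel (XW XW_conj)
open Cfsg.Agent.Omega.NO3S.EThree.ExactA (eab_iff eab_mono NoP)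
open Cfsg.Agent.Omega.NO3S.EThree.NrTwo (NoRadN)
open scoped Pointwise

universe u

variable {G : Type u} [Group G] {Z U : Fin 2 → Subgroup G}

/-- `N_a ∩ N_u = 1` : `[N_a, N_u] = 1` -/
theorem com_of (P : PP Z U) (h : NoRadN Z) : ∀ a u : Subgroup G, Adj Z a u → Com Z a u := by
  intro a u hau x hx
  refine mem_centralizer_iff.2 fun y hy => ?_
  have hx' : x ∈ HH u := P.QQ_le_HH (P.adj_symm hau) (P.NN_le_QQ hau.pt hx)
  have hy' : y ∈ HH a := P.QQ_le_HH hau (P.NN_le_QQ (P.adj_pt hau) hy)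
  have h1 : x * y * x⁻¹ * y⁻¹ ∈ NN Z u := mul_mem ((mem_normalizer_iff.1 (PP.HH_le_NN u hx') y).1 hy) (inv_mem hy)
  have h2 : x * y * x⁻¹ * y⁻¹ ∈ NN Z a := by
    have e : x * y * x⁻¹ * y⁻¹ = x * (y * x⁻¹ * y⁻¹) := by group
    rw [e]
    exact mul_mem hx ((mem_normalizer_iff.1 (PP.HH_le_NN a hy') x⁻¹).1 (inv_mem hx))
  have h3 : x * y * x⁻¹ * y⁻¹ ∈ NN Z a ⊓ NN Z u := ⟨h2, h1⟩
  rw [h a u hau, mem_bot, mul_inv_eq_one, mul_inv_eq_iff_eq_mul] at h3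
  exact h3.symm

variable {B : Subgroup G} {q : ℕ} (D : FQ Z U B q) [Finite G]
include D

/-- `[N_a, N_u] = 1` for `a ~ u` -/
theorem com (hnr : ¬ Z 0 ≤ NN Z (Z 0)) : ∀ a u : Subgroup G, Adj Z a u → Com Z a u :=
  com_of D.toPP (D.noRadN hnr)

/-- `N_G(Z 0) ∩ N_G(Z 1)` is transitive on `(Z 1)#` -/
theorem trans_Z1 {a a' : G} (ha : a ∈ Z 1) (ha1 : a ≠ 1) (ha' : a' ∈ Z 1) (ha1' : a' ≠ 1) :
    ∃ g ∈ HH (Z 0), g * a * g⁻¹ = a' := by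
  obtain ⟨l, hl1, hl2, hl3, -, -⟩ := D.mvl 1 0 (by decide)
  have hlU' : MulAut.conj l⁻¹ • U 1 = U 1 := by
    have h3 := congrArg (fun X => MulAut.conj l⁻¹ • X) hl1
    simpa only [inv_conj_conj] using h3.symm
  have key : ∀ c ∈ Z 1, c ≠ 1 → l⁻¹ * c * l ∈ U 1 ∧ l⁻¹ * c * l ∉ Z 1 := by
    intro c hc hc1
    refine ⟨?_, fun h => hc1 ?_⟩
    · rw [← hlU']
      refine ⟨c, D.ZU' 1 hc, ?_⟩
      change l⁻¹ * c * l⁻¹⁻¹ = _
      rw [inv_inv]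
    · have h3 : c ∈ MulAut.conj l • Z 1 ⊓ Z 1 := by
        refine ⟨⟨_, h, ?_⟩, hc⟩
        change l * (l⁻¹ * c * l) * l⁻¹ = c
        group
      rwa [hl2, mem_bot] at h3
  obtain ⟨hx, hxZ⟩ := key a ha ha1
  obtain ⟨hy, hyZ⟩ := key a' ha' ha1'
  set x := l⁻¹ * a * l with hxd
  set y := l⁻¹ * a' * l with hyd
  obtain ⟨h, h0, h1, h2, h3⟩ := D.tor 1 0 (by decide) x hx hxZ y hy hyZ
  obtain ⟨b, hb, -, h4⟩ := D.root 1 0 (by decide) y hy hyZ _ h3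
  have e1 : b * y * b⁻¹ = h * x * h⁻¹ := by
    have hyz : y * (y⁻¹ * (h * x * h⁻¹)) = (y⁻¹ * (h * x * h⁻¹)) * y :=
      mem_centralizer_iff.1 ((eab_iff.1 (D.eU 1)).1 (D.ZU' 1 h3)) y hy
    calc b * y * b⁻¹ = (b * y * b⁻¹ * y⁻¹) * y := by group
      _ = (y⁻¹ * (h * x * h⁻¹)) * y := by rw [h4]
      _ = y * (y⁻¹ * (h * x * h⁻¹)) := hyz.symm
      _ = h * x * h⁻¹ := by group
  have hbZ : b ∈ centralizer (Z 0 : Set G) := D.D_le_cent 0 (D.B_le hb)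
  have hhZ : h ∈ centralizer (Z 0 : Set G) := centralizer_le (D.ZU' 0) h0
  refine ⟨l * (b⁻¹ * h) * l⁻¹, centralizer_le_normalizer _
    (mul_mem (mul_mem hl3 (mul_mem (inv_mem hbZ) hhZ)) (inv_mem hl3)), ?_⟩
  calc l * (b⁻¹ * h) * l⁻¹ * a * (l * (b⁻¹ * h) * l⁻¹)⁻¹ = l * (b⁻¹ * (h * x * h⁻¹) * b) * l⁻¹ := by rw [hxd]; group
    _ = l * (b⁻¹ * (b * y * b⁻¹) * b) * l⁻¹ := by rw [e1]
    _ = a' := by rw [hyd]; group

/-- a `B`-invariant subgroup `≠ 1` of `N_1` meets `Z 1` -/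
theorem fx (hnr : ¬ Z 0 ≤ NN Z (Z 0)) {K : Subgroup G} (hK : K ≤ NN Z (Z 0)) (hn : B ≤ normalizer (K : Set G))
    (hne : K ≠ ⊥) : ∃ x ∈ K, x ∈ Z 1 ∧ x ≠ 1 := by
  have hB : K ≤ B := hK.trans ((D.N_le_O 0).trans D.O_le_B)
  obtain ⟨x, hx, hx1, hxB⟩ := Cfsg.Agent.Omega.NoFF.LinesPlug.exists_fixed D.B2 hB hn hne
  have hx2 : x ^ 2 = 1 := (eab_iff.1 (D.N_eab 0)).2 x (hK hx)
  have h1 := D.zB x (hB hx) hx2 hxB
  obtain ⟨a, ha, b, hb, e⟩ := D.sup_mem (i := 0) (j := 1) (by decide) h1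
  have ha1 : a = 1 := by
    refine D.N_inf_Z hnr 0 ?_ ha
    have h3 : a = x * b⁻¹ := by rw [e]; group
    rw [h3]
    exact mul_mem (hK hx) (inv_mem ((D.adj (i := 0) (j := 1) (by decide)).le_NN hb))
  refine ⟨x, hx, ?_, hx1⟩
  rw [e, ha1, one_mul]
  exact hb

/-- **`N_1` is irreducible for `N_G(Z 0)`.** -/
theorem irr (hnr : ¬ Z 0 ≤ NN Z (Z 0)) : ∀ K : Subgroup G, K ≤ NN Z (Z 0) → HH (Z 0) ≤ normalizer (K : Set G) →
    K = ⊥ ∨ NN Z (Z 0) ≤ K := by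
  intro K hK hn
  by_cases hne : K = ⊥
  · exact Or.inl hne
  right
  obtain ⟨x, hx, hxb, hx1⟩ := fx D hnr hK ((D.B_le_HH 0).trans hn) hne
  have hZK : Z 1 ≤ K := by
    intro y hy
    by_cases hy1 : y = 1
    · rw [hy1]; exact one_mem _
    obtain ⟨g, hg, rfl⟩ := trans_Z1 D hxb hx1 hy hy1
    exact (mem_normalizer_iff.1 (hn hg) _).1 hx
  refine sSup_le ?_
  rintro _ ⟨k, hk, rfl⟩
  have hk' : k ∈ HH (Z 0) := ChoiceBase.mem_normalizer_iff_cj.2 hk.symm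
  have h2 : MulAut.conj k • K = K := conj_eq_of_mem (hn hk')
  rw [← h2]
  exact conj_le_iff.2 hZK

/-- the hypotheses of (NR1) over `FQ` -/
theorem nrH (hq : 3 ≤ q) (hreg : PcQ.RegX Z (XW Z U)) (hnr : ¬ Z 0 ≤ NN Z (Z 0)) : NrH Z U where
  P := D.toPP
  F := D.xf
  ti := D.tip
  reg := hreg
  q3 := by rw [D.cardZ]; exact hq
  h01 := by
    intro e
    have h1 : Z 0 ≤ U 0 ⊓ U 1 := le_inf (D.ZU' 0) (by rw [e]; exact D.ZU' 1)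
    rw [D.inf] at h1
    exact D.ne (le_bot_iff.1 h1)
  com := com D hnr
  irr := irr D hnr
  fx := fun K hK hn hne => fx D hnr hK ((le_inf (D.B_le_HH 0) (D.B_le_HH 1)).trans hn) hne
  pts := by
    intro x hx hx1
    obtain ⟨k, hk, hxk⟩ := D.pts x hx hx1
    exact ⟨_, ⟨k, rfl⟩, hk, hxk⟩
  cardU := by rw [D.cardU, D.cardZ, pow_two]
  UN := D.U_le_N (by decide)

/-- **(NR1).** -/
theorem nr_one (hq : 3 ≤ q) (hreg : PcQ.RegX Z (XW Z U)) (hnr : ¬ Z 0 ≤ NN Z (Z 0))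
    {a u : Subgroup G} (h : Adj Z a u) : XW Z U u ≤ centralizer (NN Z a : Set G) :=
  (nrH D hq hreg hnr).nr_one h

end Cfsg.Agent.Omega.NO3S.EThree.NrOne
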