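import Cfsg.Agent.Omega.OM.PG.PcQ
import Cfsg.Agent.Omega.NO3S.EThree.FrQB
import Cfsg.Agent.Omega.NO3S.EThree.FrameGB

/-!
# (E), `q ≥ 4`: `RegX` (`X_a` acts on `Q_a` as an `F_q`-space of maps to `a`)

* `Op Z U` : for `c, z ∈ (Z 0)#` there is an additive operator `τ` on `Z 0` with `τ c = z` which is induced on every
  line on `Z 0`: `[b, x'] = τ [b, x]` for all `b ∈ Q_0`;
* `regX_of` : `Op` gives `PcQ.RegX Z (XW Z U)`; `FQ.regX`;
* `Bg.exists_cent` : all lines on `Z i` are conjugate under `C_G(Z i)` (weak closure of `B`, `Bg.cj_W`);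
* `Bg.op`, `Bg.regX` : over the frame `Bg`, `2 < q`.
-/

set_option autoImplicit false
set_option linter.unusedSectionVars false

namespace Cfsg.Agent.Omega.NO3S.EThree

open Subgroup Cfsg
open Cfsg.Agent.ZN Cfsg.Agent.Omega.OM.PG
open Cfsg.Agent.Omega.OM.PG.Peel (XF XW XW_conj ln_le_XW)
open Cfsg.Agent.Omega.NO3S.EThree.ExactA (eab_iff)
open Cfsg.Agent.Omega.NoFF.Basic (comm_symm conj_conj conj_le_iff mem_conj)
open scoped Pointwise

universe u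

variable {G : Type u} [Group G]

/-- Every `c ↦ z` in `(Z 0)#` is induced by an additive operator which acts on all lines on `Z 0`. -/
def Op (Z U : Fin 2 → Subgroup G) : Prop :=
  ∀ c ∈ Z 0, c ≠ 1 → ∀ z ∈ Z 0, z ≠ 1 → ∃ τ : G → G, τ 1 = 1 ∧ τ c = z ∧
    (∀ x ∈ Z 0, ∀ y ∈ Z 0, τ (x * y) = τ x * τ y) ∧
    ∀ l : Subgroup G, LnOn Z U (Z 0) l → ∀ x ∈ l, ∃ x' ∈ l, ∀ b ∈ QQ (Z 0),
      b * x' * b⁻¹ * x'⁻¹ = τ (b * x * b⁻¹ * x⁻¹)

/-- `Op` gives `RegX`. -/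
theorem regX_of {Z U : Fin 2 → Subgroup G} (P : PP Z U) (F : XF Z (XW Z U)) (h : Op Z U) :
    PcQ.RegX Z (XW Z U) := by
  have h0 : IsPt Z (Z 0) := ⟨1, by rw [map_one, one_smul]⟩
  have hXX := (eab_iff.1 (F.eab _ h0)).1
  have hXs := (eab_iff.1 (F.eab _ h0)).2
  -- commutators are in `Z 0`
  have hcom : ∀ x ∈ XW Z U (Z 0), ∀ b ∈ QQ (Z 0), b * x * b⁻¹ * x⁻¹ ∈ Z 0 := by
    intro x hx b hb
    have h1 := inv_mem (F.com _ h0 x hx b hb)
    have e : (x * b * x⁻¹ * b⁻¹)⁻¹ = b * x * b⁻¹ * x⁻¹ := by group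
    rwa [e] at h1
  have key : ∀ w ∈ XW Z U (Z 0), ∀ b ∈ QQ (Z 0), w * b ≠ b * w → ∀ z ∈ Z 0,
      ∃ w' ∈ XW Z U (Z 0), w' * b * w'⁻¹ * b⁻¹ = z ∧ ∀ v ∈ QQ (Z 0), w * v = v * w → w' * v = v * w' := by
    intro w hw b hb hwb z hz
    by_cases hz1 : z = 1
    · exact ⟨1, one_mem _, by rw [hz1]; group, fun v _ _ => by rw [one_mul, mul_one]⟩
    have hc1 : b * w * b⁻¹ * w⁻¹ ≠ 1 := by
      intro e
      apply hwb
      calc w * b = (b * w * b⁻¹ * w⁻¹)⁻¹ * (b * w) := by group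
        _ = b * w := by rw [e]; group
    obtain ⟨τ, hτ1, hτc, hτm, hτl⟩ := h _ (hcom w hw b hb) hc1 z hz hz1
    -- the operator on `X_0`
    let K : Subgroup G :=
      { carrier := {x | x ∈ XW Z U (Z 0) ∧ ∃ x' ∈ XW Z U (Z 0), ∀ b ∈ QQ (Z 0),
          b * x' * b⁻¹ * x'⁻¹ = τ (b * x * b⁻¹ * x⁻¹)}
        one_mem' := ⟨one_mem _, 1, one_mem _, fun b _ => by
          rw [show b * 1 * b⁻¹ * (1 : G)⁻¹ = 1 by group, hτ1]⟩
        mul_mem' := by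
          rintro x y ⟨hx, x', hx', h1⟩ ⟨hy, y', hy', h2⟩
          refine ⟨mul_mem hx hy, x' * y', mul_mem hx' hy', fun b hb => ?_⟩
          have key : ∀ u ∈ XW Z U (Z 0), ∀ v ∈ XW Z U (Z 0),
              b * (u * v) * b⁻¹ * (u * v)⁻¹ = b * u * b⁻¹ * u⁻¹ * (b * v * b⁻¹ * v⁻¹) := by
            intro u hu v hv
            have e1 : u * (b * v * b⁻¹ * v⁻¹) = b * v * b⁻¹ * v⁻¹ * u :=
              mem_centralizer_iff.1 (hXX (F.aX _ h0 (hcom v hv b hb))) u hu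
            calc b * (u * v) * b⁻¹ * (u * v)⁻¹ = b * u * b⁻¹ * (b * v * b⁻¹ * v⁻¹) * u⁻¹ := by group
              _ = b * u * b⁻¹ * (u⁻¹ * (u * (b * v * b⁻¹ * v⁻¹))) * u⁻¹ := by group
              _ = b * u * b⁻¹ * (u⁻¹ * (b * v * b⁻¹ * v⁻¹ * u)) * u⁻¹ := by rw [e1]
              _ = _ := by group
          rw [key _ hx' _ hy', key _ hx _ hy, hτm _ (hcom x hx b hb) _ (hcom y hy b hb), h1 b hb, h2 b hb]
        inv_mem' := by
          rintro x ⟨hx, x', hx', h1⟩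
          have e : x⁻¹ = x := inv_eq_of_mul_eq_one_right (by rw [← pow_two]; exact hXs x hx)
          rw [e]
          exact ⟨hx, x', hx', h1⟩ }
    have hK : XW Z U (Z 0) ≤ K := by
      refine sup_le (fun n hn => ⟨mem_sup_left hn, 1, one_mem _, fun b hb => ?_⟩)
        (iSup_le fun l x hx => ⟨ln_le_XW l.2 hx, ?_⟩)
      · have e := mem_centralizer_iff.1 (P.QQ_le_cent h0 hb) n hn
        rw [show b * (1 : G) * b⁻¹ * (1 : G)⁻¹ = 1 by group, ← e, show n * b * b⁻¹ * n⁻¹ = 1 by group, hτ1]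
      · obtain ⟨x', hx', h1⟩ := hτl l l.2 x hx
        exact ⟨x', ln_le_XW l.2 hx', h1⟩
    obtain ⟨-, w', hw', h1⟩ := hK hw
    refine ⟨w', hw', ?_, fun v hv hc => ?_⟩
    · have e1 := h1 b hb
      rw [hτc] at e1
      have e2 : w' * b * w'⁻¹ * b⁻¹ = (b * w' * b⁻¹ * w'⁻¹)⁻¹ := by group
      rw [e2, e1]
      exact inv_eq_of_mul_eq_one_right (by rw [← pow_two]; exact P.sq z hz)
    · have e1 := h1 v hv
      have e2 : v * w * v⁻¹ * w⁻¹ = 1 := by rw [← hc]; group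
      rw [e2, hτ1] at e1
      calc w' * v = (v * w' * v⁻¹ * w'⁻¹)⁻¹ * (v * w') := by group
        _ = v * w' := by rw [e1]; group
  rintro _ ⟨k, rfl⟩ w hw b hb hwb z hz
  rw [XW_conj] at hw
  rw [QQ_conj] at hb
  obtain ⟨w₀, hw₀, rfl⟩ := hw
  obtain ⟨b₀, hb₀, rfl⟩ := hb
  obtain ⟨z₀, hz₀, rfl⟩ := hz
  change (MulAut.conj k) w₀ * (MulAut.conj k) b₀ ≠ (MulAut.conj k) b₀ * (MulAut.conj k) w₀ at hwb
  have h1 : w₀ * b₀ ≠ b₀ * w₀ := by
    intro e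
    apply hwb
    rw [← map_mul, ← map_mul, e]
  obtain ⟨w', hw', h2, h3⟩ := key w₀ hw₀ b₀ hb₀ h1 z₀ hz₀
  refine ⟨MulAut.conj k w', ?_, ?_, ?_⟩
  · rw [XW_conj]
    exact ⟨w', hw', rfl⟩
  · change (MulAut.conj k) w' * (MulAut.conj k) b₀ * ((MulAut.conj k) w')⁻¹ * ((MulAut.conj k) b₀)⁻¹ = (MulAut.conj k) z₀
    rw [← map_inv, ← map_inv, ← map_mul, ← map_mul, ← map_mul, h2]
  · rw [QQ_conj]
    rintro _ ⟨v, hv, rfl⟩ hc
    change (MulAut.conj k) w₀ * (MulAut.conj k) v = (MulAut.conj k) v * (MulAut.conj k) w₀ at hc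
    change (MulAut.conj k) w' * (MulAut.conj k) v = (MulAut.conj k) v * (MulAut.conj k) w'
    rw [← map_mul, ← map_mul] at hc
    rw [← map_mul, ← map_mul, h3 v hv ((MulAut.conj k).injective hc)]

theorem FQ.regX {Z U : Fin 2 → Subgroup G} {B : Subgroup G} {q : ℕ} (D : FQ Z U B q) (h : Op Z U) :
    PcQ.RegX Z (XW Z U) :=
  regX_of D.toPP D.xf h

namespace Frame

open Cfsg.Agent.ZN.ChoiceBase
open Cfsg.Agent.ZN.ChoiceSit (Syl exists_syl syl_conj)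
open Cfsg.Agent.Omega.OM Cfsg.Agent.Omega.OM.Uni
open Cfsg.Agent.Omega.MinPar (NonLoc)

/-- An element of `B` moving `V` maps `V` onto `Z`. -/
theorem Md.surj [Finite G] {B V Z' : Subgroup G} {q : ℕ} (h : Md B V Z' q) (hZ : Nat.card Z' = q) {b : G} (hb : b ∈ B)
    (hmv : ∃ v ∈ V, b * v ≠ v * b) {z : G} (hz : z ∈ Z') : ∃ v ∈ V, b * v * b⁻¹ * v⁻¹ = z := by
  classical
  obtain ⟨v₀, hv₀, hv₀b⟩ := hmv
  let f : V ⧸ Z'.subgroupOf V → Z' := fun c => ⟨b * ((c.out : V) : G) * b⁻¹ * ((c.out : V) : G)⁻¹,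
    h.com b hb _ (c.out : V).2⟩
  have hfi : Function.Injective f := by
    intro c c' hcc
    have e1 : b * ((c.out : V) : G) * b⁻¹ * ((c.out : V) : G)⁻¹ = b * ((c'.out : V) : G) * b⁻¹ * ((c'.out : V) : G)⁻¹ :=
      congrArg Subtype.val hcc
    have e2 : b * (((c.out : V) : G)⁻¹ * ((c'.out : V) : G)) = ((c.out : V) : G)⁻¹ * ((c'.out : V) : G) * b := by
      have e3 : b * ((c.out : V) : G) * b⁻¹ = b * ((c'.out : V) : G) * b⁻¹ * ((c'.out : V) : G)⁻¹ * ((c.out : V) : G) := by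
        rw [← e1]; group
      have e4 : b * (((c.out : V) : G)⁻¹ * ((c'.out : V) : G)) * b⁻¹ = ((c.out : V) : G)⁻¹ * ((c'.out : V) : G) := by
        calc b * (((c.out : V) : G)⁻¹ * ((c'.out : V) : G)) * b⁻¹ =
            (b * ((c.out : V) : G) * b⁻¹)⁻¹ * (b * ((c'.out : V) : G) * b⁻¹) := by group
          _ = (b * ((c'.out : V) : G) * b⁻¹ * ((c'.out : V) : G)⁻¹ * ((c.out : V) : G))⁻¹ *
              (b * ((c'.out : V) : G) * b⁻¹) := by rw [e3]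
          _ = _ := by group
      calc b * (((c.out : V) : G)⁻¹ * ((c'.out : V) : G)) =
          b * (((c.out : V) : G)⁻¹ * ((c'.out : V) : G)) * b⁻¹ * b := by group
        _ = _ := by rw [e4]
    have h3 : ((c.out : V) : G)⁻¹ * ((c'.out : V) : G) ∈ Z' := by
      by_contra hcon
      exact hv₀b (h.free b hb _ (mul_mem (inv_mem (c.out : V).2) (c'.out : V).2) hcon e2 v₀ hv₀)
    have h4 : (QuotientGroup.mk c.out : V ⧸ Z'.subgroupOf V) = QuotientGroup.mk c'.out :=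
      QuotientGroup.eq.2 (mem_subgroupOf.2 (by simpa using h3))
    rwa [QuotientGroup.out_eq', QuotientGroup.out_eq'] at h4
  have hcard : Nat.card Z' ≤ Nat.card (V ⧸ Z'.subgroupOf V) := by
    have h5 : Nat.card Z' * Z'.relIndex V = Nat.card V := Cfsg.Agent.Omega.NO3S.ML.card_mul_relIndex h.ZV
    rw [h.card] at h5
    have h6 : Z'.relIndex V = q := Nat.eq_of_mul_eq_mul_left Nat.card_pos h5
    have h7 : Nat.card (V ⧸ Z'.subgroupOf V) = Z'.relIndex V := rfl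
    rw [h7, h6, hZ]
  obtain ⟨c, hc⟩ := (hfi.bijective_of_nat_card_le hcard).2 ⟨z, hz⟩
  exact ⟨_, (c.out : V).2, congrArg Subtype.val hc⟩

namespace Bg

variable [Finite G] {S : Sylow 2 G} {P : Subgroup G} {ι : Type} {B ZJ : Subgroup G}
  {L W Z C : ι → Subgroup G} {q : ℕ} (h : Bg S P B ZJ L W Z C q) {i j : ι}
include h

/-- **All lines on `Z i` are conjugate under `C_G(Z i)`.** -/
theorem exists_cent [Finite ι] {k : G} (hk : k ∈ normalizer (Z i : Set G)) :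
    ∃ c ∈ centralizer (Z i : Set G), cj k (W i) = cj c (W i) := by
  have hBC : B ≤ centralizer (Z i : Set G) := fun b hb =>
    mem_centralizer_iff.2 fun z hz => ((h.fr.blk i).cZ b hb z hz).symm
  obtain ⟨T, hT, hBT⟩ := exists_syl h.bau_two hBC
  have hkC : cj k (centralizer (Z i : Set G)) = centralizer (Z i : Set G) := by
    rw [cj_centralizer, mem_normalizer_iff_cj.1 hk]
  have hkT : Syl (cj k T) (centralizer (Z i : Set G)) := by
    refine ⟨by rw [← hkC]; exact cj_mono k hT.1, hT.2.1.map _, fun R hR hR2 hle => ?_⟩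
    have h1 : cj k⁻¹ R = T := by
      refine hT.2.2 _ ?_ (hR2.map _) ?_
      · have h2 := cj_mono k⁻¹ hR
        rwa [← hkC, cj_inv_cj] at h2
      · have h2 := cj_mono k⁻¹ hle
        rwa [cj_inv_cj] at h2
    rw [← h1, cj_cj, mul_inv_cancel, cj_one]
  obtain ⟨c, hc, e⟩ := syl_conj hT hkT
  refine ⟨c, hc, ?_⟩
  -- `n = c⁻¹ k` normalises `T`, so `B`
  have hn : cj (c⁻¹ * k) T = T := by
    rw [← cj_cj, ← e, cj_inv_cj]
  have hnB : cj (c⁻¹ * k) B = B := h.wc T hT.2.1 hBT _ (by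
    have h1 := cj_mono (c⁻¹ * k) hBT
    rwa [hn] at h1)
  have hnZ : cj (c⁻¹ * k) (Z i) = Z i :=
    mem_normalizer_iff_cj.1 (mul_mem (inv_mem (centralizer_le_normalizer _ hc)) hk)
  have hnW := h.cj_W (mem_normalizer_iff_cj.2 hnB) hnZ
  have h2 := congrArg (cj c) hnW
  rwa [cj_cj, mul_inv_cancel_left] at h2

/-- **The operators of the field on all lines on `Z i`.** -/
theorem op [Finite ι] (hq : 2 < q) : Op ![Z i, Z j] ![W i, W j] := by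
  intro c hc hc1 z hz hz1
  change c ∈ Z i at hc
  change z ∈ Z i at hz
  obtain ⟨v, hv, hvZ⟩ : ∃ v ∈ W i, v ∉ Z i := by
    obtain ⟨b, hb, v, hv, hbv⟩ := (h.fr.blk i).ne
    exact ⟨v, hv, fun hvZ => hbv ((h.fr.blk i).cZ b hb v hvZ)⟩
  obtain ⟨b₁, hb₁, e1⟩ := (h.scal hq i).surj v hv hvZ c hc
  have hmv : ∃ v ∈ W i, b₁ * v ≠ v * b₁ := ⟨v, hv, fun e => hc1 (by rw [← e1, e]; group)⟩
  obtain ⟨v', hv', e2⟩ := Md.surj (h.fr.blk i).toMd (h.fr.cardZ i) hb₁ hmv hz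
  have hv'Z : v' ∉ Z i := fun hvZ' => hz1 (by
    rw [← e2, (h.fr.blk i).cZ b₁ hb₁ v' hvZ']; group)
  obtain ⟨m, hmP, hmC, hmZ, hop, hm, -⟩ := (h.scal hq i).ex v hv hvZ v' hv' hv'Z
  have hmW : cj m (W i) = W i := h.fix hmP hmC i
  refine ⟨fun x => m⁻¹ * x * m, by group, ?_, fun x _ y _ => by group, ?_⟩
  · -- `m⁻¹ c m = z`
    have e3 := hop b₁ hb₁ v hv
    rw [e1] at e3
    change m⁻¹ * c * m = z
    rw [← e3, ← e2]
    have e4 : b₁ * (v'⁻¹ * (m * v * m⁻¹)) = v'⁻¹ * (m * v * m⁻¹) * b₁ := (h.fr.blk i).cZ b₁ hb₁ _ hm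
    calc b₁ * (m * v * m⁻¹) * b₁⁻¹ * (m * v * m⁻¹)⁻¹ =
        b₁ * v' * b₁⁻¹ * (b₁ * (v'⁻¹ * (m * v * m⁻¹))) * b₁⁻¹ * (m * v * m⁻¹)⁻¹ := by group
      _ = b₁ * v' * b₁⁻¹ * (v'⁻¹ * (m * v * m⁻¹) * b₁) * b₁⁻¹ * (m * v * m⁻¹)⁻¹ := by rw [e4]
      _ = b₁ * v' * b₁⁻¹ * v'⁻¹ := by group
  · rintro l ⟨k, hk, rfl⟩ x hx
    change Z i = cj k (Z i) at hk
    change x ∈ cj k (W i) at hx
    change ∃ x' ∈ cj k (W i), ∀ b ∈ o2 (normalizer (Z i : Set G)), b * x' * b⁻¹ * x'⁻¹ = m⁻¹ * (b * x * b⁻¹ * x⁻¹) * m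
    obtain ⟨d, hd, e⟩ := h.exists_cent (mem_normalizer_iff_cj.2 hk.symm)
    rw [e] at hx ⊢
    obtain ⟨y, hy, rfl⟩ := hx
    have hy' : m * y * m⁻¹ ∈ W i := by
      rw [← hmW]; exact ⟨y, hy, rfl⟩
    refine ⟨d * (m * y * m⁻¹) * d⁻¹, ⟨_, hy', rfl⟩, fun b hb => ?_⟩
    change b * (d * (m * y * m⁻¹) * d⁻¹) * b⁻¹ * (d * (m * y * m⁻¹) * d⁻¹)⁻¹ =
      m⁻¹ * (b * (d * y * d⁻¹) * b⁻¹ * (d * y * d⁻¹)⁻¹) * m
    have hdn : d ∈ normalizer (Z i : Set G) := centralizer_le_normalizer _ hd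
    have hb' : d⁻¹ * b * d ∈ B := by
      refine h.o2_le i ?_
      have h1 := (mem_normalizer_iff.1 (MinSimple.VModule.le_normalizer_o2 (normalizer (Z i : Set G))
        (inv_mem hdn)) b).1 hb
      rwa [inv_inv] at h1
    set b' := d⁻¹ * b * d with hb'd
    set ε := b' * y * b'⁻¹ * y⁻¹ with hε
    have hεZ : ε ∈ Z i := (h.fr.blk i).com b' hb' y hy
    have hmε : m⁻¹ * ε * m ∈ Z i := by
      have h1 := (mem_normalizer_iff.1 (inv_mem hmZ) ε).1 hεZ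
      rwa [inv_inv] at h1
    have hcd : ∀ x ∈ Z i, d * x * d⁻¹ = x := fun x hx => by
      rw [← mem_centralizer_iff.1 hd x hx]; group
    have e5 : b = d * b' * d⁻¹ := by rw [hb'd]; group
    have e6 : b * (d * (m * y * m⁻¹) * d⁻¹) * b⁻¹ * (d * (m * y * m⁻¹) * d⁻¹)⁻¹ =
        d * (b' * (m * y * m⁻¹) * b'⁻¹ * (m * y * m⁻¹)⁻¹) * d⁻¹ := by rw [e5]; group
    have e7 : b * (d * y * d⁻¹) * b⁻¹ * (d * y * d⁻¹)⁻¹ = d * ε * d⁻¹ := by rw [hε, e5]; group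
    rw [e6, e7, hop b' hb' y hy, hcd _ hεZ]
    exact hcd _ hmε

/-- **`RegX` over the frame `Bg`.** -/
theorem regX [Finite ι] (hq : 2 < q) (D : FQ ![Z i, Z j] ![W i, W j] B q) :
    PcQ.RegX ![Z i, Z j] (XW ![Z i, Z j] ![W i, W j]) :=
  D.regX (h.op hq)

end Bg

end Frame

end Cfsg.Agent.Omega.NO3S.EThree
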