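import Cfsg.Agent.Omega.NO3S.EThree.RQ
import Cfsg.Agent.Omega.NO3S.EThree.FixQ
import Cfsg.Agent.Omega.OM.PG.TwoI
import Cfsg.Agent.Omega.TCQ.R.OneA
import Cfsg.Agent.Omega.BTwo.Avg

/-!
# (E), `k = 2`, `q ≥ 4`, THEOREM C without radical (helper997 #19092)

`D : FQ Z U B q`, `2 < q`, `Z 0 ≰ N_1`.

* `DoneQ Z U` : LEMMA 0 + STEP F: no `K ⊴ N(Z 0)` in `C(Z 0)`, moving `N_1` by a 2-element, normalises `U 0`;
* `SylU0 Z U` : a Sylow 2-subgroup of `N(Z 0)` normalises `U 0`;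
* `FQ.irr_nr` : `N_1` is irreducible for `N(Z 0)`;
* **`FQ.thmC2_nr`** : THEOREM C.  The canonical complement `u ↦ u y(u)` of `N_1` in `U_0N_1` centralised by `K`
  (Gaschuetz) has `y(u) ∈ Z 1`, and `y` is constant on `U 0 - Z 0` (the torus of `L_0` centralises `U 1`), additive;
* `FQ.oneB_of_thmC2`, `FQ.ta'_of_thmC2` : `OneB`, `TA'` from THEOREM C.
-/

set_option autoImplicit false
set_option linter.unusedSectionVars false

namespace Cfsg.Agent.Omega.NO3S.EThree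

open Subgroup Cfsg Cfsg.Agent.ZN Cfsg.Agent.Omega.MinPar
open Cfsg.Agent.Omega.NoFF.Basic (conj_conj mem_conj conj_le_iff conj_le_centralizer comm_symm comm_mono)
open Cfsg.Agent.Omega.NOThreeL.Pair (conj_eq_of_mem)
open Cfsg.Agent.Omega.OM.PG
open Cfsg.Agent.Omega.OM.PG.Int (Ex rix_ne)
open Cfsg.Agent.Omega.OM.PG.Peel (XF XW XW_conj ln_le_XW)
open Cfsg.Agent.Omega.OM.PG.PeelQ (ThmC2 TIp NobX)
open Cfsg.Agent.Omega.NO3S.EThree.ExactA (eab_iff eab_mono eab_sup NoP)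
open Cfsg.Agent.ZN.ChoiceBase (AA mem_AA_iff cj cj_mono cj_inf card_cj)
open Cfsg.Agent.ZN.ChoiceSit (Syl exists_syl syl_conj syl_not_dvd)
open scoped Pointwise

universe u

variable {G : Type u} [Group G]

/-- LEMMA 0 + STEP F -/
def DoneQ (Z U : Fin 2 → Subgroup G) : Prop :=
  ∀ K : Subgroup G, K ≤ centralizer (Z 0 : Set G) → HH (Z 0) ≤ normalizer (K : Set G) →
    (∃ x ∈ K, IsPGroup 2 (zpowers x) ∧ x ∉ centralizer (NN Z (Z 0) : Set G)) → ¬ K ≤ normalizer (U 0 : Set G)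

/-- a Sylow 2-subgroup of `N(Z 0)` normalises `U 0` -/
def SylU0 (Z U : Fin 2 → Subgroup G) : Prop :=
  ∃ T : Subgroup G, Syl T (normalizer (Z 0 : Set G)) ∧ T ≤ normalizer (U 0 : Set G)

/-- `A ∈ AA Q`, `X ≤ Q` elementary abelian : `|X : C_X(A)| ≤ |A : C_A(X)|` -/
theorem relIndex_le_of_AA [Finite G] {Q X A : Subgroup G} (hX : IsElementaryAbelian 2 X) (hXQ : X ≤ Q)
    (hA : A ∈ AA Q) : (centralizer (A : Set G)).relIndex X ≤ (centralizer (X : Set G)).relIndex A := by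
  have hAe := hA.1
  have hX' := (eab_iff.1 hX).1
  have hA' := (eab_iff.1 hAe).1
  set K := A ⊓ centralizer (X : Set G) with hK
  set D := X ⊓ centralizer (A : Set G) with hD
  have hKe : IsElementaryAbelian 2 K := eab_mono hAe inf_le_left
  have hE : IsElementaryAbelian 2 (K ⊔ X : Subgroup G) := eab_sup hKe hX inf_le_right
  have hEA : Nat.card (K ⊔ X : Subgroup G) ≤ Nat.card A := hA.2.2 _ hE (sup_le (inf_le_left.trans hA.2.1) hXQ)
  have h1 : Nat.card (K ⊔ X : Subgroup G) * Nat.card (K ⊓ X : Subgroup G) = Nat.card K * Nat.card X :=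
    NO3S.ML.card_sup_mul_of_comm fun a ha b hb => (mem_centralizer_iff.1 ((inf_le_right : K ≤ _) ha) b hb).symm
  have h2 : Nat.card (K ⊓ X : Subgroup G) ≤ Nat.card D :=
    Subgroup.card_le_of_le (le_inf inf_le_right ((inf_le_left.trans inf_le_left).trans hA'))
  have h3 : Nat.card K * (centralizer (X : Set G)).relIndex A = Nat.card A := by
    rw [hK, ← Subgroup.inf_relIndex_left]
    exact NO3S.ML.card_mul_relIndex inf_le_left
  have h4 : Nat.card D * (centralizer (A : Set G)).relIndex X = Nat.card X := by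
    rw [hD, ← Subgroup.inf_relIndex_left]
    exact NO3S.ML.card_mul_relIndex inf_le_left
  have pK : 0 < Nat.card K := Nat.card_pos
  have pD : 0 < Nat.card D := Nat.card_pos
  have h5 : Nat.card K * Nat.card D * (centralizer (A : Set G)).relIndex X ≤
      Nat.card K * Nat.card D * (centralizer (X : Set G)).relIndex A := by
    calc _ = Nat.card K * Nat.card X := by rw [← h4]; ring
      _ = Nat.card (K ⊔ X : Subgroup G) * Nat.card (K ⊓ X : Subgroup G) := h1.symm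
      _ ≤ Nat.card A * Nat.card D := Nat.mul_le_mul hEA h2
      _ = _ := by rw [← h3]; ring
  exact Nat.le_of_mul_le_mul_left h5 (Nat.mul_pos pK pD)

/-- `K ⊴ H`, `T` Sylow in `H` : `T ∩ K` is Sylow in `K` -/
theorem syl_inf_of_norm [Finite G] {T H K : Subgroup G} (hT : Syl T H) (hKH : K ≤ H)
    (hn : H ≤ normalizer (K : Set G)) : Syl (T ⊓ K) K := by
  refine ⟨inf_le_right, hT.2.1.to_le inf_le_left, fun Q hQ hQ2 hle => ?_⟩
  obtain ⟨R, hR, hQR⟩ := exists_syl hQ2 (hQ.trans hKH)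
  obtain ⟨h, hh, e⟩ := syl_conj hT hR
  have h1 : Q ≤ cj h (T ⊓ K) := by
    rw [cj_inf, e]
    refine le_inf hQR ?_
    have h2 : cj h K = K := ChoiceBase.mem_normalizer_iff_cj.1 (hn hh)
    rw [h2]
    exact hQ
  have h2 := Subgroup.card_le_of_le h1
  rw [card_cj] at h2
  exact (Subgroup.eq_of_le_of_card_ge hle h2).symm

namespace FQ

variable [Finite G] {Z U : Fin 2 → Subgroup G} {B : Subgroup G} {q : ℕ} (D : FQ Z U B q)
include D

/-- an element of `U i - Z i` is moved to another one by `C(U j) ∩ N(Z i) ∩ N(U i)` -/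
theorem exists_mv_to' {i j : Fin 2} (hij : i ≠ j) {x y : G} (hx : x ∈ U i) (hxZ : x ∉ Z i) (hy : y ∈ U i)
    (hyZ : y ∉ Z i) : ∃ g ∈ centralizer (U j : Set G), MulAut.conj g • Z i = Z i ∧ MulAut.conj g • U i = U i ∧
      g * x * g⁻¹ = y := by
  obtain ⟨h, hc, h1, h2, h3⟩ := D.tor i j hij x hx hxZ y hy hyZ
  obtain ⟨b, hb, hbc, h4⟩ := D.root i j hij y hy hyZ _ h3
  have hyz : y * (y⁻¹ * (h * x * h⁻¹)) = (y⁻¹ * (h * x * h⁻¹)) * y := mem_centralizer_iff.1 ((eab_iff.1 (D.eU i)).1 (D.ZU' i h3)) y hy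
  have e1 : b * y * b⁻¹ = h * x * h⁻¹ := by
    calc b * y * b⁻¹ = (b * y * b⁻¹ * y⁻¹) * y := by group
      _ = (y⁻¹ * (h * x * h⁻¹)) * y := by rw [h4]
      _ = y * (y⁻¹ * (h * x * h⁻¹)) := hyz.symm
      _ = _ := by group
  have hbZ : MulAut.conj b⁻¹ • Z i = Z i := conj_eq_of_mem (inv_mem (D.B_le_HH i hb))
  have hbU : MulAut.conj b⁻¹ • U i = U i := conj_eq_of_mem (inv_mem (D.B_le_NU i hb))
  refine ⟨b⁻¹ * h, mul_mem (inv_mem hbc) hc, ?_, ?_, ?_⟩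
  · rw [← conj_conj, h1, hbZ]
  · rw [← conj_conj, h2, hbU]
  · calc b⁻¹ * h * x * (b⁻¹ * h)⁻¹ = b⁻¹ * (h * x * h⁻¹) * b := by group
      _ = b⁻¹ * (b * y * b⁻¹) * b := by rw [e1]
      _ = y := by group

/-- `C(Z i)` is transitive on `(Z j)#` -/
theorem trans_Z' {i j : Fin 2} (hij : i ≠ j) {a a' : G} (ha : a ∈ Z j) (ha1 : a ≠ 1) (ha' : a' ∈ Z j) (ha1' : a' ≠ 1) :
    ∃ g ∈ centralizer (Z i : Set G), g * a * g⁻¹ = a' := by
  obtain ⟨l, hl1, hl2, hlc, -, -⟩ := D.mvl j i hij.symm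
  have hlU' : MulAut.conj l⁻¹ • U j = U j := by
    have h3 := congrArg (fun X => MulAut.conj l⁻¹ • X) hl1
    simpa only [inv_conj_conj] using h3.symm
  have key : ∀ c ∈ Z j, c ≠ 1 → l⁻¹ * c * l ∈ U j ∧ l⁻¹ * c * l ∉ Z j := by
    intro c hc hc1
    refine ⟨?_, fun h => hc1 ?_⟩
    · rw [← hlU']
      refine ⟨c, D.ZU' j hc, ?_⟩
      change l⁻¹ * c * l⁻¹⁻¹ = _
      rw [inv_inv]
    · have h3 : c ∈ MulAut.conj l • Z j ⊓ Z j := by
        refine ⟨⟨_, h, ?_⟩, hc⟩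
        change l * (l⁻¹ * c * l) * l⁻¹ = c
        group
      rwa [hl2, mem_bot] at h3
  obtain ⟨g, hgc, -, -, hg⟩ := D.exists_mv_to' hij.symm (key a ha ha1).1 (key a ha ha1).2 (key a' ha' ha1').1
    (key a' ha' ha1').2
  refine ⟨l * g * l⁻¹, mul_mem (mul_mem hlc (centralizer_le (D.ZU' i) hgc)) (inv_mem hlc), ?_⟩
  calc l * g * l⁻¹ * a * (l * g * l⁻¹)⁻¹ = l * (g * (l⁻¹ * a * l) * g⁻¹) * l⁻¹ := by group
    _ = l * (l⁻¹ * a' * l) * l⁻¹ := by rw [hg]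
    _ = a' := by group

/-- `C_{N_1}(B) ≤ Z 1` without radical -/
theorem fix_nr (hnr : ¬ Z 0 ≤ NN Z (Z 0)) {y : G} (hy : y ∈ NN Z (Z 0)) (h : ∀ b ∈ B, b * y = y * b) : y ∈ Z 1 := by
  have h1 := D.zB y (D.O_le_B (D.N_le_O 0 hy)) ((eab_iff.1 (D.N_eab 0)).2 y hy) h
  obtain ⟨a, ha, b, hb, e⟩ := D.sup_mem (i := 0) (j := 1) (by decide) h1
  have ha1 : a = 1 := by
    refine D.N_inf_Z hnr 0 ?_ ha
    have h3 : a = y * b⁻¹ := by rw [e]; group
    rw [h3]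
    exact mul_mem hy (inv_mem ((D.adj (i := 0) (j := 1) (by decide)).le_NN hb))
  rw [e, ha1, one_mul]
  exact hb

/-- **Without radical, `N_1` is irreducible for `N(Z 0)`.** -/
theorem irr_nr (hnr : ¬ Z 0 ≤ NN Z (Z 0)) {J : Subgroup G} (hJ : J ≤ NN Z (Z 0))
    (hn : HH (Z 0) ≤ normalizer (J : Set G)) : J = ⊥ ∨ NN Z (Z 0) ≤ J := by
  by_cases hJ1 : J = ⊥
  · exact Or.inl hJ1
  right
  have hB : J ≤ B := hJ.trans ((D.N_le_O 0).trans D.O_le_B)
  obtain ⟨x, hx, hx1, hxB⟩ := Cfsg.Agent.Omega.NoFF.LinesPlug.exists_fixed D.B2 hB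
    ((D.B_le_HH 0).trans hn) hJ1
  have hxZ : x ∈ Z 1 := D.fix_nr hnr (hJ hx) hxB
  have hZJ : Z 1 ≤ J := by
    intro z hz
    by_cases hz1 : z = 1
    · rw [hz1]; exact one_mem _
    obtain ⟨g, hg, rfl⟩ := D.trans_Z' (i := 0) (j := 1) (by decide) hxZ hx1 hz hz1
    exact (mem_normalizer_iff.1 (hn (centralizer_le_normalizer _ hg)) x).1 hx
  refine sSup_le ?_
  rintro _ ⟨k, hk, rfl⟩
  have h2 : MulAut.conj k • J = J := conj_eq_of_mem (hn (ChoiceBase.mem_normalizer_iff_cj.2 hk.symm))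
  rw [← h2]
  exact conj_le_iff.2 hZJ

/-- `U_0 ∩ N_1 = 1` without radical -/
theorem U_inf_N_nr (hnr : ¬ Z 0 ≤ NN Z (Z 0)) {x : G} (hx : x ∈ U 0) (hxN : x ∈ NN Z (Z 0)) : x = 1 := by
  by_contra hne
  have hJ : U 0 ⊓ NN Z (Z 0) ≠ ⊥ := fun e => hne (by
    have h1 : x ∈ U 0 ⊓ NN Z (Z 0) := ⟨hx, hxN⟩
    rwa [e, mem_bot] at h1)
  obtain ⟨y, hy, hy1, hyB⟩ := Cfsg.Agent.Omega.NoFF.LinesPlug.exists_fixed D.B2
    (inf_le_left.trans (D.U_le_B 0)) (NO3L.LemP.le_normalizer_inf (D.B_le_NU 0)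
      (fun b hb => D.HH_norm_N 0 (D.B_le_HH 0 hb))) hJ
  exact hy1 (D.N_inf_Z hnr 0 hy.2 (D.mem_Z_of_fix hy.1 hyB))

/-- the elements of `C(Z 0)` trivial on `X_0 / N_1` -/
def KC (_ : FQ Z U B q) : Subgroup G where
  carrier := {g | g ∈ centralizer (Z 0 : Set G) ∧ ∀ x ∈ XW Z U (Z 0), x * g * x⁻¹ * g⁻¹ ∈ NN Z (Z 0)}
  one_mem' := ⟨one_mem _, fun x _ => by simp⟩
  mul_mem' := by
    rintro g h ⟨hg, h1⟩ ⟨hh, h2⟩
    refine ⟨mul_mem hg hh, fun x hx => ?_⟩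
    have hgn : g ∈ normalizer (NN Z (Z 0) : Set G) := PP.HH_le_NN (Z 0) (centralizer_le_normalizer _ hg)
    have h3 := (mem_normalizer_iff.1 hgn _).1 (h2 x hx)
    have e : x * (g * h) * x⁻¹ * (g * h)⁻¹ = (x * g * x⁻¹ * g⁻¹) * (g * (x * h * x⁻¹ * h⁻¹) * g⁻¹) := by group
    rw [e]
    exact mul_mem (h1 x hx) h3
  inv_mem' := by
    rintro g ⟨hg, h1⟩
    refine ⟨inv_mem hg, fun x hx => ?_⟩
    have hgn : g⁻¹ ∈ normalizer (NN Z (Z 0) : Set G) := PP.HH_le_NN (Z 0) (centralizer_le_normalizer _ (inv_mem hg))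
    have h3 := (mem_normalizer_iff.1 hgn _).1 (inv_mem (h1 x hx))
    have e : x * g⁻¹ * x⁻¹ * g⁻¹⁻¹ = g⁻¹ * (x * g * x⁻¹ * g⁻¹)⁻¹ * g⁻¹⁻¹ := by group
    rw [e]
    exact h3

theorem KC_le : D.KC ≤ centralizer (Z 0 : Set G) := fun g hg => hg.1

theorem HH_norm_X (i : Fin 2) : HH (Z i) ≤ normalizer (XW Z U (Z i) : Set G) := by
  intro g hg
  refine ChoiceBase.mem_normalizer_iff_cj.2 ?_
  change MulAut.conj g • XW Z U (Z i) = _
  rw [← XW_conj, conj_eq_of_mem hg]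

theorem HH_norm_KC : HH (Z 0) ≤ normalizer (D.KC : Set G) := by
  have key : ∀ h ∈ HH (Z 0), ∀ g ∈ D.KC, h * g * h⁻¹ ∈ D.KC := by
    rintro h hh g ⟨hg, h1⟩
    refine ⟨(mem_normalizer_iff.1 (NO3L.LemP.normalizer_le_normalizer_cent (Z 0) hh) g).1 hg, fun x hx => ?_⟩
    have hx' : h⁻¹ * x * h ∈ XW Z U (Z 0) := by
      have := (mem_normalizer_iff.1 (D.HH_norm_X 0 (inv_mem hh)) x).1 hx
      rwa [inv_inv] at this
    have h3 := (mem_normalizer_iff.1 (D.HH_norm_N 0 hh) _).1 (h1 _ hx')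
    have e : x * (h * g * h⁻¹) * x⁻¹ * (h * g * h⁻¹)⁻¹ =
        h * (h⁻¹ * x * h * g * (h⁻¹ * x * h)⁻¹ * g⁻¹) * h⁻¹ := by group
    rw [e]
    exact h3
  intro h hh
  rw [mem_normalizer_iff]
  intro g
  refine ⟨key h hh g, fun hg => ?_⟩
  have h1 := key h⁻¹ (inv_mem hh) _ hg
  have e : h⁻¹ * (h * g * h⁻¹) * h⁻¹⁻¹ = g := by group
  rwa [e] at h1

/-- **THEOREM C at `Z 0`**: `KC` centralises `U 0`. -/
theorem KC_cent (hq : 2 < q) (hnr : ¬ Z 0 ≤ NN Z (Z 0)) (hT : SylU0 Z U)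
    (hmv : ¬ D.KC ≤ centralizer (NN Z (Z 0) : Set G)) : D.KC ≤ centralizer (U 0 : Set G) := by
  obtain ⟨T, hTs, hTU⟩ := hT
  set K := D.KC with hK
  set N := NN Z (Z 0) with hN
  have hKH : K ≤ HH (Z 0) := D.KC_le.trans (centralizer_le_normalizer _)
  have hKn : HH (Z 0) ≤ normalizer (K : Set G) := D.HH_norm_KC
  have hXX := (eab_iff.1 (D.XW_eab 0)).1
  have hUX : U 0 ≤ XW Z U (Z 0) := ln_le_XW (D.ln 0)
  have hNX : N ≤ XW Z U (Z 0) := le_sup_left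
  -- `C_N(K) = 1`
  have hCK : ∀ y ∈ N, y ∈ centralizer (K : Set G) → y = 1 := by
    intro y hy hyK
    have h1 : HH (Z 0) ≤ normalizer ((N ⊓ centralizer (K : Set G) : Subgroup G) : Set G) :=
      NO3L.LemP.le_normalizer_inf (D.HH_norm_N 0) (hKn.trans (NO3L.LemP.normalizer_le_normalizer_cent K))
    rcases D.irr_nr hnr inf_le_left h1 with h2 | h2
    · have h3 : y ∈ N ⊓ centralizer (K : Set G) := ⟨hy, hyK⟩
      rwa [h2, mem_bot] at h3
    · exact absurd (comm_symm (h2.trans inf_le_right)) hmv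
  -- the relation `R u y`
  have hR1 : ∀ u ∈ U 0, ∃ y ∈ N, u * y ∈ centralizer (K : Set G) := by
    intro u hu
    have hodd : Odd ((T ⊓ K).relIndex K) := by
      rw [← Nat.not_even_iff_odd, even_iff_two_dvd]
      exact syl_not_dvd (syl_inf_of_norm hTs hKH hKn)
    have hcX : ∀ x ∈ K, u⁻¹ * x * u * x⁻¹ ∈ N := by
      intro x hx
      have h1 := hx.2 u⁻¹ (inv_mem (hUX hu))
      rwa [inv_inv] at h1
    obtain ⟨y, hy, h⟩ := BTwo.Avg.avg (X := K) (P := T ⊓ K) (Y := N) (D := ⊥) inf_le_right hodd bot_le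
      (fun x hx y hy => (mem_normalizer_iff.1 (D.HH_norm_N 0 (hKH hx)) y).1 hy)
      (fun x _ y hy => by rw [mem_bot] at hy ⊢; rw [hy]; group)
      (fun x _ y hy => by rw [mem_bot] at hy ⊢; rw [hy]; group)
      (fun y hy => by rw [mem_bot, ← pow_two]; exact (eab_iff.1 (D.N_eab 0)).2 y hy) (c := u) hcX
      (fun x hx => by
        rw [mem_bot]
        refine D.U_inf_N_nr hnr ?_ (hcX x hx.2)
        have e : u⁻¹ * x * u * x⁻¹ = u⁻¹ * (x * u * x⁻¹) := by group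
        rw [e]
        exact mul_mem (inv_mem hu) ((mem_normalizer_iff.1 (hTU hx.1) u).1 hu))
    refine ⟨y, hy, mem_centralizer_iff.2 fun x hx => ?_⟩
    have h1 := h x hx
    rw [mem_bot] at h1
    calc x * (u * y) = (u * y) * ((u * y)⁻¹ * x * (u * y) * x⁻¹) * x := by group
      _ = u * y * x := by rw [h1, mul_one]
  have huniq : ∀ u y y' : G, y ∈ N → y' ∈ N → u * y ∈ centralizer (K : Set G) → u * y' ∈ centralizer (K : Set G) →
      y = y' := by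
    intro u y y' hy hy' h1 h2
    have h3 : y⁻¹ * y' ∈ centralizer (K : Set G) := by
      have := mul_mem (inv_mem h1) h2
      have e : (u * y)⁻¹ * (u * y') = y⁻¹ * y' := by group
      rwa [e] at this
    exact inv_mul_eq_one.1 (hCK _ (mul_mem (inv_mem hy) hy') h3)
  -- `y(u) ∈ Z 1`
  have hZ1 : ∀ u ∈ U 0, ∀ y ∈ N, u * y ∈ centralizer (K : Set G) → y ∈ Z 1 := by
    intro u hu y hy h
    refine D.fix_nr hnr hy fun b hb => ?_
    have hbH := D.B_le_HH 0 hb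
    have h1 : b * (u * y) * b⁻¹ ∈ centralizer (K : Set G) :=
      (mem_normalizer_iff.1 (NO3L.LemP.normalizer_le_normalizer_cent K (hKn hbH)) _).1 h
    have hz : b * u * b⁻¹ * u⁻¹ ∈ Z 0 := D.com 0 b hb u hu
    have hzK : b * u * b⁻¹ * u⁻¹ ∈ centralizer (K : Set G) := (comm_symm D.KC_le) hz
    have h2 : (b * u * b⁻¹ * u⁻¹)⁻¹ * (b * (u * y) * b⁻¹) ∈ centralizer (K : Set G) := mul_mem (inv_mem hzK) h1
    have e : (b * u * b⁻¹ * u⁻¹)⁻¹ * (b * (u * y) * b⁻¹) = u * (b * y * b⁻¹) := by group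
    rw [e] at h2
    have h3 := huniq u y _ hy (D.B_norm_N 0 hb hy) h h2
    calc b * y = b * y * b⁻¹ * b := by group
      _ = y * b := by rw [← h3]
  -- multiplicative
  have hmul : ∀ u ∈ U 0, ∀ u' ∈ U 0, ∀ y ∈ N, ∀ y' ∈ N, u * y ∈ centralizer (K : Set G) →
      u' * y' ∈ centralizer (K : Set G) → (u * u') * (y * y') ∈ centralizer (K : Set G) := by
    intro u hu u' hu' y hy y' hy' h h'
    have e1 : y * u' = u' * y := (mem_centralizer_iff.1 (hXX (hUX hu')) y (hNX hy))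
    have e : (u * u') * (y * y') = (u * y) * (u' * y') := by
      calc (u * u') * (y * y') = u * (u' * y) * y' := by group
        _ = u * (y * u') * y' := by rw [e1]
        _ = _ := by group
    rw [e]
    exact mul_mem h h'
  -- constant on `U 0 - Z 0`
  have hconst : ∀ u ∈ U 0, u ∉ Z 0 → ∀ u' ∈ U 0, u' ∉ Z 0 → ∀ y ∈ N, u * y ∈ centralizer (K : Set G) →
      u' * y ∈ centralizer (K : Set G) := by
    intro u hu huZ u' hu' huZ' y hy h
    obtain ⟨g, hgc, hgZ, -, rfl⟩ := D.exists_mv_to' (i := 0) (j := 1) (by decide) hu huZ hu' huZ'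
    have hgH : g ∈ HH (Z 0) := ChoiceBase.mem_normalizer_iff_cj.2 hgZ
    have h1 : g * (u * y) * g⁻¹ ∈ centralizer (K : Set G) :=
      (mem_normalizer_iff.1 (NO3L.LemP.normalizer_le_normalizer_cent K (hKn hgH)) _).1 h
    have h2 : y * g = g * y := mem_centralizer_iff.1 hgc y (D.ZU' 1 (hZ1 u hu y hy h))
    have e : g * (u * y) * g⁻¹ = g * u * g⁻¹ * y := by
      calc g * (u * y) * g⁻¹ = g * u * g⁻¹ * (g * y) * g⁻¹ := by group
        _ = g * u * g⁻¹ * (y * g) * g⁻¹ := by rw [h2]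
        _ = _ := by group
    rwa [e] at h1
  -- `y(u) = 1`
  have hone : ∀ u ∈ U 0, u ∉ Z 0 → u ∈ centralizer (K : Set G) := by
    intro u hu huZ
    obtain ⟨y, hy, h⟩ := hR1 u hu
    obtain ⟨u', hu', huZ', huu⟩ : ∃ u' ∈ U 0, u' ∉ Z 0 ∧ u * u' ∉ Z 0 := by
      by_contra hcon
      push Not at hcon
      classical
      let f : U 0 → Z 0 × Bool := fun x => if hx : (x : G) ∈ Z 0 then (⟨x, hx⟩, true) else
        (⟨u * x, hcon x x.2 hx⟩, false)
      have hf : Function.Injective f := by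
        intro x x' e
        by_cases hx : (x : G) ∈ Z 0 <;> by_cases hx' : (x' : G) ∈ Z 0
        · simp only [f, hx, hx', dif_pos, Prod.mk.injEq, Subtype.mk.injEq, and_true] at e
          exact Subtype.ext e
        · simp [f, hx, hx'] at e
        · simp [f, hx, hx'] at e
        · simp only [f, hx, hx', dif_neg, not_false_eq_true, Prod.mk.injEq, Subtype.mk.injEq, and_true] at e
          exact Subtype.ext (mul_left_cancel e)
      have h1 := Nat.card_le_card_of_injective f hf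
      rw [Nat.card_prod, D.cardU, D.cardZ, Nat.card_eq_fintype_card (α := Bool), Fintype.card_bool] at h1
      nlinarith
    have h1 := hconst u hu huZ u' hu' huZ' y hy h
    have h2 := hmul u hu u' hu' y hy y hy h h1
    have h3 : y * y = 1 := by rw [← pow_two]; exact (eab_iff.1 (D.N_eab 0)).2 y hy
    rw [h3] at h2
    have h4 := hconst u hu huZ (u * u') (mul_mem hu hu') huu y hy h
    have h5 : y = 1 := huniq (u * u') y 1 hy (one_mem _) h4 h2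
    rwa [h5, mul_one] at h
  -- so `K` centralises `U 0`
  refine comm_symm fun u hu => ?_
  by_cases huZ : u ∈ Z 0
  · exact (comm_symm D.KC_le) huZ
  · exact hone u hu huZ

/-- **THEOREM C without radical.** -/
theorem thmC2_nr (hq : 2 < q) (hnr : ¬ Z 0 ≤ NN Z (Z 0)) (hT : SylU0 Z U) (hdone : DoneQ Z U) :
    ThmC2 Z (XW Z U) := by
  have key : ∀ A : Subgroup G, IsPGroup 2 A → A ≤ centralizer (Z 0 : Set G) →
      (∀ x ∈ XW Z U (Z 0), ∀ g ∈ A, x * g * x⁻¹ * g⁻¹ ∈ NN Z (Z 0)) → A ≤ centralizer (NN Z (Z 0) : Set G) := by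
    intro A hA hAc hAx
    by_contra hmv
    obtain ⟨g, hg, hgN⟩ := SetLike.not_le_iff_exists.1 hmv
    have hgK : g ∈ D.KC := ⟨hAc hg, fun x hx => hAx x hx g hg⟩
    have hg2 : IsPGroup 2 (zpowers g) := hA.to_le ((zpowers_le).2 hg)
    refine hdone D.KC D.KC_le D.HH_norm_KC ⟨g, hgK, hg2, hgN⟩ ?_
    exact (D.KC_cent hq hnr hT fun h => hgN (h hgK)).trans (centralizer_le_normalizer _)
  rintro _ ⟨k, rfl⟩ A hA hAc hAx
  have h1 : MulAut.conj k⁻¹ • A ≤ centralizer (NN Z (Z 0) : Set G) := by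
    refine key _ (hA.map _) ?_ ?_
    · have h2 := conj_le_centralizer (g := k⁻¹) hAc
      rwa [inv_conj_conj] at h2
    · rintro x hx _ ⟨g, hg, rfl⟩
      have hx' : k * x * k⁻¹ ∈ XW Z U (MulAut.conj k • Z 0) := by
        rw [XW_conj]
        exact ⟨x, hx, rfl⟩
      have h3 := hAx _ hx' g hg
      rw [NN_conj, mem_conj] at h3
      change x * (k⁻¹ * g * k⁻¹⁻¹) * x⁻¹ * (k⁻¹ * g * k⁻¹⁻¹)⁻¹ ∈ NN Z (Z 0)
      have e : x * (k⁻¹ * g * k⁻¹⁻¹) * x⁻¹ * (k⁻¹ * g * k⁻¹⁻¹)⁻¹ =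
          k⁻¹ * (k * x * k⁻¹ * g * (k * x * k⁻¹)⁻¹ * g⁻¹) * k := by group
      rw [e]
      exact h3
  rw [NN_conj]
  have h2 := conj_le_centralizer (g := k) h1
  rwa [conj_inv_conj] at h2

/-- `OneB` from THEOREM C -/
theorem oneB_of_thmC2 (hNO : NoDQ Z) (hG : ThmC2 Z (XW Z U)) : OneB Z U := by
  intro i A hA hc
  obtain ⟨hex, -, -⟩ := D.exact_AA hNO i hA
  have hAO := hA.2.1
  have hXX := (eab_iff.1 (D.XW_eab i)).1
  have hNX : NN Z (Z i) ≤ XW Z U (Z i) := le_sup_left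
  have h1 := relIndex_le_of_AA (D.XW_eab i) ((D.XW_le_Q i).trans (D.Q_le_O i)) hA
  have h2 : (centralizer (XW Z U (Z i) : Set G)).relIndex A ≤ (centralizer (NN Z (Z i) : Set G)).relIndex A := by
    rw [← Subgroup.inf_relIndex_left, ← Subgroup.inf_relIndex_left (H := A) (K := centralizer (NN Z (Z i) : Set G))]
    exact Subgroup.relIndex_le_of_le_left (le_inf inf_le_left hc) Subgroup.index_ne_zero_of_finite
  have h3 := TCQ.R.OneA.sup_of_relIndex hNX ((h1.trans h2).trans hex.le)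
  refine hG (Z i) (D.pt i) A (D.B2.to_le (hAO.trans D.O_le_B)) (hAO.trans (D.O_le_B.trans (D.B_le.trans (D.D_le_cent i))))
    fun x hx g hg => ?_
  obtain ⟨n, hn, c, hc', rfl⟩ := OM.PG.Peel.exists_mul_of_comm (V := NN Z (Z i)) (D := XW Z U (Z i) ⊓ centralizer (A : Set G))
    (hNX.trans (hXX.trans (centralizer_le inf_le_left))) (h3 hx)
  have e1 : c * g = g * c := (mem_centralizer_iff.1 hc'.2 g hg).symm
  have e2 : n * c * g * (n * c)⁻¹ * g⁻¹ = n * (g * n⁻¹ * g⁻¹) := by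
    calc n * c * g * (n * c)⁻¹ * g⁻¹ = n * (c * g) * c⁻¹ * n⁻¹ * g⁻¹ := by group
      _ = n * (g * c) * c⁻¹ * n⁻¹ * g⁻¹ := by rw [e1]
      _ = _ := by group
  rw [e2]
  exact mul_mem hn (D.B_norm_N i (D.O_le_B (hAO hg)) (inv_mem hn))

/-- `TA'` from THEOREM C -/
theorem ta'_of_thmC2 (hNO : NoP Z) (hG : ThmC2 Z (XW Z U)) : TwoI.TA' Z (XW Z U) := fun d a b h _ =>
  ExactQ.ta_of D.toPP D.xf D.nobX D.tip hNO hG d a b h

end FQ

end Cfsg.Agent.Omega.NO3S.EThree
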