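import Cfsg.Agent.Omega.NO3S.EThree.V7
import Cfsg.Agent.Omega.NO3S.EThree.ThmCNr
import Cfsg.Agent.Omega.NO3S.EThree.NrOneQ
import Cfsg.Agent.Omega.NO3S.EThree.DoneU
import Cfsg.Agent.Omega.NO3S.EThree.RegX

/-!
# Row (7), no radical: `NrIn`

* `UIn K` : UNI, weak form, for the data `MQ`;
* `MQ.nbQ` : `N_G(Z 0) ∩ N_G(T) ≤ N_G(Z 1)` for 2-groups `T ≥ B`; `MQ.done`, `MQ.l0` : STEP F and LEMMA 0;
* **`nrIn_of : UIn K → NrIn K`**.
-/

set_option autoImplicit false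
set_option linter.unusedSectionVars false

namespace Cfsg.Agent.Omega.NO3S.EThree.Row7

open Subgroup Cfsg Cfsg.Agent.ZN.ChoiceBase
open Cfsg.Agent.Omega.OM
open Cfsg.Agent.Omega.NO3S.EThree
open Cfsg.Agent.Omega.OM.PG.Peel (XW)
open Cfsg.Agent.Omega.NO3S.EThree.Frame
open Cfsg.Agent.Omega.MinPar (NonLoc)
open Cfsg.Agent.Omega.Frame (Cls)
open Cfsg.Agent.Omega.Node.MultiOf
open scoped Pointwise

universe u

variable {G : Type u} [Group G]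

/-- UNI, weak form, for the data of row (7). -/
def UIn (K : Cls.{u}) : Prop :=
  ∀ (G : Type u) [Group G] [Finite G], K G → ∀ (S : Sylow 2 G) (P K' B ZJ : Subgroup G)
    (L W Z C : Fin 2 → Subgroup G) (q : ℕ), MQ S P K' B ZJ L W Z C q → DoneU.Uni0 Z W B

namespace MQ

variable [Finite G] {S : Sylow 2 G} {P K' B ZJ : Subgroup G} {L W Z C : Fin 2 → Subgroup G} {q : ℕ}

theorem fq (h : MQ S P K' B ZJ L W Z C q) : FQ Z W B q := FQ.of_bg h.bg (h.ti 0) h.nonloc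

theorem nbQ (h : MQ S P K' B ZJ L W Z C q) : DoneU.NbQ Z B := by
  refine DoneU.nbQ_of h.bg.wc ?_
  rintro g ⟨hg0, hgB⟩
  obtain ⟨σ, hσ⟩ := h.bg.perm_W hgB
  have h0 : cj g (Z 0) = Z 0 := mem_normalizer_iff_cj.1 hg0
  have hσ0 : σ 0 = 0 := h.bg.Z_inj ((hσ 0).2.symm.trans h0)
  have hσ1 : σ 1 = 1 := by
    rcases fin2 (σ 1) with h1 | h1
    · exact absurd (σ.injective (h1.trans hσ0.symm)) (by decide)
    · exact h1
  refine mem_normalizer_iff_cj.2 ?_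
  rw [(hσ 1).2, hσ1]

theorem sylU0 (h : MQ S P K' B ZJ L W Z C q) : SylU0 Z W :=
  ⟨(S : Subgroup G) ⊓ normalizer (Z 0 : Set G), h.bg.syl 0, by
    rw [h.bg.inf_normalizer 0]; exact inf_le_right⟩

theorem regX (h : MQ S P K' B ZJ L W Z C q) : PG.PcQ.RegX Z (XW Z W) := by
  have h2 : 2 < q := lt_of_lt_of_le (by decide) h.hq
  have D : FQ ![Z 0, Z 1] ![W 0, W 1] B q := by
    rw [vec2, vec2]
    exact h.fq
  have h1 := h.bg.regX h2 D
  rwa [vec2, vec2] at h1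

/-- **LEMMA 0.** -/
theorem l0 (h : MQ S P K' B ZJ L W Z C q) (hU : DoneU.Uni0 Z W B) : PG.PcQ.L0 Z := DoneU.l0 h.fq hU h.nbQ

/-- **STEP F.** -/
theorem done (h : MQ S P K' B ZJ L W Z C q) (hU : DoneU.Uni0 Z W B) : DoneQ Z W :=
  fun _ h1 h2 h3 => DoneU.done h.fq hU h.nbQ ⟨h1, h2, h3⟩

end MQ

/-- **No radical: `NrIn` from UNI.** -/
theorem nrIn_of {K : Cls.{u}} (hU : UIn K) : NrIn K := by
  intro G _ _ hG S P K' B ZJ L W Z C q h hnr
  have h2 : 2 < q := lt_of_lt_of_le (by decide) h.hq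
  have D := h.fq
  refine ⟨D.thmC2_nr h2 hnr h.sylU0 (h.done (hU G hG S P K' B ZJ L W Z C q h)), ?_⟩
  exact NrOne.nr_one D h2 h.regX hnr (D.adj (i := 1) (j := 0) (by decide))

end Cfsg.Agent.Omega.NO3S.EThree.Row7
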