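import Cfsg.Agent.Omega.OM.PG.PcQ
import Cfsg.Agent.Omega.NO3S.EThree.NrGeo

/-!
# (E), `k = 2`, no radical, `[W_1, N_2] ≠ 1` is impossible ((NR1); helper997 #19952 (3), in the form of bb #23661)

`NrH Z U` : partner points and lines, t.i. points, `[N_a, N_u] = 1` for `a ~ u`, `N_1` is irreducible for `N_G(Z 0)`,
an `N(Z 0) ∩ N(Z 1)`-invariant subgroup `≠ 1` of `N_1` meets `Z 1` (this makes the non-perp graph connected, LEMMA 0 is
not needed), `RegX`, the points cover `U 0`, `|U 0| = |Z 0|²`.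

* `NrH.nd` : the geometry of `N_a`, if `X_c` moves `N_a` (`a ~ c`);
* `NrH.mem_X` : `c^⊥ ≤ X_c`;
* `NrH.two_common` : two common neighbours `c ≠ r` of `a`, `b` imply `[N_a, N_b] = 1`;
* **`NrH.nr_one`** : `X_u` centralises `N_a` for `a ~ u`.
-/

set_option autoImplicit false
set_option linter.unusedSectionVars false

namespace Cfsg.Agent.Omega.NO3S.EThree.NrOne

open Subgroup Cfsg
open Cfsg.Agent.ZN Cfsg.Agent.Omega.OM.PG Cfsg.Agent.Omega.OM.PG.Peel Cfsg.Agent.Omega.OM.PG.PeelQ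
open Cfsg.Agent.Omega.OM.PG.PcQ (RegX not_adj_self)
open Cfsg.Agent.Omega.NO3S.EThree Cfsg.Agent.Omega.NO3S.EThree.ExactA
open Cfsg.Agent.Omega.NoFF.Basic (comm_symm conj_conj conj_le_iff)
open Cfsg.Agent.Omega.OmThm.Grp (GD Mv)
open Cfsg.Agent.Omega.NO3S.EThree.NrGeo (ND)
open scoped Pointwise

universe u

variable {G : Type u} [Group G]

/-- **The hypotheses of (NR1).** -/
structure NrH (Z U : Fin 2 → Subgroup G) : Prop where
  P : PP Z U
  F : XF Z (XW Z U)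
  ti : TIp Z
  reg : RegX Z (XW Z U)
  q3 : 3 ≤ Nat.card (Z 0)
  h01 : Z 0 ≠ Z 1
  com : ∀ a u : Subgroup G, Adj Z a u → Com Z a u
  irr : ∀ K : Subgroup G, K ≤ NN Z (Z 0) → HH (Z 0) ≤ normalizer (K : Set G) → K = ⊥ ∨ NN Z (Z 0) ≤ K
  fx : ∀ K : Subgroup G, K ≤ NN Z (Z 0) → HH (Z 0) ⊓ HH (Z 1) ≤ normalizer (K : Set G) → K ≠ ⊥ →
    ∃ x ∈ K, x ∈ Z 1 ∧ x ≠ 1
  pts : ∀ x ∈ U 0, x ≠ 1 → ∃ p, IsPt Z p ∧ p ≤ U 0 ∧ x ∈ p
  cardU : Nat.card (U 0) = Nat.card (Z 0) * Nat.card (Z 0)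
  UN : U 1 ≤ NN Z (Z 0)

namespace NrH

variable {Z U : Fin 2 → Subgroup G} (D : NrH Z U)
include D

theorem pt0 : IsPt Z (Z 0) := ⟨1, by rw [map_one, one_smul]⟩

theorem adj01 : Adj Z (Z 0) (Z 1) := ⟨1, by rw [map_one, one_smul], by rw [map_one, one_smul]⟩

theorem card_pt {a : Subgroup G} (ha : IsPt Z a) : Nat.card a = Nat.card (Z 0) := by
  obtain ⟨k, rfl⟩ := ha
  exact ZN.ChoiceBase.card_cj k _

theorem ti' {a b : Subgroup G} (ha : IsPt Z a) (hb : IsPt Z b) {v : G} (h1 : v ∈ a) (h2 : v ∈ b) (hv : v ≠ 1) :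
    a = b := by
  by_contra hne
  exact hv (ti_one D.ti ha hb hne h1 h2)

theorem NQ {a c : Subgroup G} (h : Adj Z a c) : NN Z a ≤ QQ c :=
  D.P.f3 (D.P.adj_symm h) (D.P.NN_le_QQ h.pt) (D.com _ _ h)

theorem NN_cent {a c : Subgroup G} (h : Adj Z a c) {b : Subgroup G} (h' : Adj Z b c) :
    NN Z a ≤ centralizer (b : Set G) := (D.NQ h).trans (D.P.QQ_le_cent_of_adj h')

/-- `N_a` centralises `c`, `a ~ c` -/
theorem NN_cent' {a c : Subgroup G} (h : Adj Z a c) : NN Z a ≤ centralizer (c : Set G) :=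
  (D.P.NN_comm h.pt).trans (centralizer_le h.le_NN)

theorem NN_com {a : Subgroup G} (ha : IsPt Z a) {x y : G} (hx : x ∈ NN Z a) (hy : y ∈ NN Z a) : x * y = y * x :=
  mem_centralizer_iff.1 (D.P.NN_comm ha hy) x hx

theorem cent_of {c : Subgroup G} (hc : IsPt Z c) {x y : G} (hx : x ∈ XW Z U c) (hy : y ∈ XW Z U c) : x * y = y * x :=
  mem_centralizer_iff.1 ((eab_iff.1 (D.F.eab c hc)).1 hy) x hx

/-- the line `U 1` -/
theorem line1 {p : Subgroup G} (hp : IsPt Z p) (h : p ≤ U 1) : Adj Z (Z 0) p ∧ LnOn Z U p (U 1) := by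
  obtain ⟨s, hs0, hs1, hs2, hs3⟩ := D.P.swap
  obtain ⟨k, rfl⟩ := hp
  have h1 : MulAut.conj (s⁻¹ * k) • Z 0 ≤ U 0 := by
    have := conj_le_iff (g := s⁻¹) |>.2 h
    rwa [conj_conj, ← hs2, inv_conj_conj] at this
  obtain ⟨l, hl0, hl1, hl2, hl3⟩ := D.P.tr _ h1
  have e : MulAut.conj k • Z 0 = MulAut.conj (s * l) • Z 0 := by
    rw [← conj_conj, hl0, conj_conj, mul_inv_cancel_left]
  refine ⟨D.P.adj_symm ⟨s * l, e, ?_⟩, s * l, e, ?_⟩
  · rw [← conj_conj, hl1, hs1]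
  · rw [← conj_conj, hl2, hs2]

/-- the line on `c` in `N_a` -/
theorem exists_line {a c : Subgroup G} (h : Adj Z a c) : ∃ V : Subgroup G, LnOn Z U c V ∧ c ≤ V ∧ V ≤ NN Z a ∧
    Nat.card V = Nat.card (Z 0) * Nat.card (Z 0) ∧ (∀ v ∈ V, v ≠ 1 → ∃ s, Adj Z a s ∧ s ≤ V ∧ v ∈ s) ∧
    ∀ s, IsPt Z s → s ≤ V → Adj Z a s ∧ LnOn Z U s V := by
  obtain ⟨s, hs0, hs1, hs2, hs3⟩ := D.P.swap
  have hpts : ∀ v ∈ U 1, v ≠ 1 → ∃ p, IsPt Z p ∧ p ≤ U 1 ∧ v ∈ p := by
    intro v hv hv1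
    rw [← hs2] at hv
    obtain ⟨x, hx, rfl⟩ := hv
    have hx1 : x ≠ 1 := by
      rintro rfl
      exact hv1 (by simp)
    obtain ⟨p, hp, hpU, hxp⟩ := D.pts x hx hx1
    refine ⟨MulAut.conj s • p, hp.conj s, ?_, ⟨x, hxp, rfl⟩⟩
    rw [← hs2]
    exact conj_le_iff.2 hpU
  obtain ⟨k, rfl, rfl⟩ := h
  refine ⟨MulAut.conj k • U 1, ⟨k * s, ?_, ?_⟩, ?_, ?_, ?_, ?_, ?_⟩
  · rw [← conj_conj, hs0]
  · rw [← conj_conj, hs2]
  · refine conj_le_iff.2 ?_
    rw [← hs0, ← hs2]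
    exact conj_le_iff.2 D.P.ZU
  · rw [NN_conj]
    exact conj_le_iff.2 D.UN
  · rw [← hs2, conj_conj]
    exact (ZN.ChoiceBase.card_cj _ _).trans D.cardU
  · rintro _ ⟨x, hx, rfl⟩ hv1
    have hx1 : x ≠ 1 := by
      rintro rfl
      exact hv1 (by simp)
    obtain ⟨p, hp, hpU, hxp⟩ := hpts x hx hx1
    exact ⟨MulAut.conj k • p, (D.line1 hp hpU).1.conj k, conj_le_iff.2 hpU, ⟨x, hxp, rfl⟩⟩
  · intro p hp hpV
    have h1 : MulAut.conj k⁻¹ • p ≤ U 1 := by
      have := conj_le_iff (g := k⁻¹) |>.2 hpV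
      rwa [inv_conj_conj] at this
    obtain ⟨h2, h3⟩ := D.line1 (hp.conj k⁻¹) h1
    have h4 := h2.conj k
    have h5 := h3.conj k
    rw [conj_inv_conj] at h4 h5
    exact ⟨h4, h5⟩

/-- moved: `X_c` moves `N_a` for some `a ~ c` -/
theorem mov_all {a c a' c' : Subgroup G} (h : Adj Z a c) (h' : Adj Z a' c')
    (hm : ¬ XW Z U c ≤ centralizer (NN Z a : Set G)) : ¬ XW Z U c' ≤ centralizer (NN Z a' : Set G) := by
  obtain ⟨k, rfl, rfl⟩ := h
  obtain ⟨k', rfl, rfl⟩ := h'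
  intro h1
  apply hm
  have h2 := Cfsg.Agent.Omega.NoFF.Basic.conj_le_centralizer (g := k * k'⁻¹) h1
  have e1 : ∀ A : Subgroup G, MulAut.conj (k * k'⁻¹) • (MulAut.conj k' • A) = MulAut.conj k • A := fun A => by
    rw [conj_conj, inv_mul_cancel_right]
  rwa [← XW_conj, ← NN_conj, e1, e1] at h2

theorem YY_conj (k : G) {a : Subgroup G} (ha : IsPt Z a) :
    YY Z (XW Z U) (MulAut.conj k • a) = MulAut.conj k • YY Z (XW Z U) a := by
  have key : ∀ (k : G) {a : Subgroup G}, IsPt Z a → MulAut.conj k • YY Z (XW Z U) a ≤ YY Z (XW Z U) (MulAut.conj k • a) := by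
    intro k a ha
    have h1 : YY Z (XW Z U) a ≤ MulAut.conj k⁻¹ • YY Z (XW Z U) (MulAut.conj k • a) := by
      refine iSup_le fun p => ?_
      have h2 : XW Z U (MulAut.conj k • (p : Subgroup G)) ≤ YY Z (XW Z U) (MulAut.conj k • a) :=
        le_iSup (fun p : {p : Subgroup G // Adj Z (MulAut.conj k • a) p} => XW Z U (p : Subgroup G))
          ⟨_, p.2.conj k⟩
      have h3 := conj_le_iff (g := k⁻¹) |>.2 h2
      rwa [XW_conj, inv_conj_conj] at h3
    have h3 := conj_le_iff (g := k) |>.2 h1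
    rwa [conj_inv_conj] at h3
  refine le_antisymm ?_ (key k ha)
  have h1 := key k⁻¹ (ha.conj k)
  rw [inv_conj_conj] at h1
  have h3 := conj_le_iff (g := k) |>.2 h1
  rwa [conj_inv_conj] at h3

theorem le_YY {a p : Subgroup G} (h : Adj Z a p) : XW Z U p ≤ YY Z (XW Z U) a :=
  le_iSup (fun p : {p : Subgroup G // Adj Z a p} => XW Z U (p : Subgroup G)) ⟨p, h⟩

theorem X_cent {a c : Subgroup G} (h : Adj Z a c) : XW Z U c ≤ centralizer (a : Set G) :=
  (D.F.XQ c (D.P.adj_pt h)).trans (D.P.QQ_le_cent_of_adj h)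

theorem YY_cent (a : Subgroup G) : YY Z (XW Z U) a ≤ centralizer (a : Set G) := iSup_le fun p => D.X_cent p.2

theorem mv' {a p : Subgroup G} {w : G} (hp : Adj Z a p) (hw : w ∈ XW Z U p) {x : Subgroup G} (hx : Adj Z a x) :
    Adj Z a (MulAut.conj w • x) := by
  have h1 := Adj.conj hx w
  rwa [Cfsg.Agent.Omega.NOThreeL.Pair.conj_eq_of_mem (centralizer_le_normalizer _ (D.X_cent hp hw))] at h1

/-- the base case of the geometry -/
theorem gd {a : Subgroup G} (ha : IsPt Z a) : GD (NN Z a) {p | Adj Z a p} (XW Z U) (Nat.card (Z 0)) where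
  comm := fun x hx y hy => D.NN_com ha hx hy
  sq := fun x hx => by
    have h := (eab_iff.1 (NN_eab D.P ha)).2 x hx
    rwa [pow_two] at h
  hq := D.q3
  le := fun p hp => Adj.le_NN hp
  card := fun p hp => D.card_pt (D.P.adj_pt hp)
  ti := fun p hp x hx v hvp hvx hv1 => D.ti' (D.P.adj_pt hp) (D.P.adj_pt hx) hvp hvx hv1
  XN := fun p hp w hw v hv => D.F.com p (D.P.adj_pt hp) w hw v (D.NQ hp hv)
  Xp := fun p hp w hw v hv => D.cent_of (D.P.adj_pt hp) hw (D.F.aX p (D.P.adj_pt hp) hv)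
  mv := fun p hp w hw x hx => D.mv' hp hw hx
  Xc := fun p hp w hw x hx => D.F.conj w x (D.P.adj_pt hx)
  reg := by
    intro x hx w hw b hb hne z hz
    obtain ⟨w', hw', h1, h2⟩ := D.reg x (D.P.adj_pt hx) w hw b (D.NQ hx hb) hne z hz
    exact ⟨w', hw', h1, fun v hv => h2 v (D.NQ hx hv)⟩
  cardT := by
    obtain ⟨j, rfl⟩ := ha
    have key : ∀ p, Adj Z (MulAut.conj j • Z 0) p →
        (centralizer (NN Z (MulAut.conj j • Z 0) : Set G)).relIndex (XW Z U p) =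
        (centralizer (NN Z (Z 0) : Set G)).relIndex (XW Z U (Z 1)) := by
      rintro _ ⟨k, hk, rfl⟩
      rw [XW_conj, hk, NN_conj]
      have e2 : centralizer ((MulAut.conj k • NN Z (Z 0) : Subgroup G) : Set G) =
          MulAut.conj k • centralizer (NN Z (Z 0) : Set G) := (ZN.ChoiceBase.cj_centralizer k _).symm
      rw [e2, relIndex_pointwise_smul]
    intro p hp x hx
    rw [key p hp, key x hx]
  span := le_rfl

/-- no vector `≠ 1` of `N_1` is centralised by all `X_p` -/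
theorem nk0 {a c : Subgroup G} (h : Adj Z a c) (hm : ¬ XW Z U c ≤ centralizer (NN Z a : Set G)) {v : G}
    (hv : v ∈ NN Z (Z 0)) (hkill : ∀ p, Adj Z (Z 0) p → ∀ g ∈ XW Z U p, g * v = v * g) : v = 1 := by
  have hm0 := D.mov_all h D.adj01 hm
  have h1 : HH (Z 0) ≤ normalizer ((NN Z (Z 0) ⊓ centralizer (YY Z (XW Z U) (Z 0) : Set G) : Subgroup G) : Set G) := by
    refine NO3L.LemP.le_normalizer_inf (PP.HH_le_NN _) ?_
    refine le_trans ?_ (NO3L.LemP.normalizer_le_normalizer_cent (YY Z (XW Z U) (Z 0)))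
    intro g hg
    refine ChoiceBase.mem_normalizer_iff_cj.2 ?_
    have h2 := D.YY_conj g D.pt0
    rw [Cfsg.Agent.Omega.NOThreeL.Pair.conj_eq_of_mem hg] at h2
    exact h2.symm
  have h2 : NN Z (Z 0) ⊓ centralizer (YY Z (XW Z U) (Z 0) : Set G) = ⊥ := by
    rcases D.irr _ inf_le_left h1 with h3 | h3
    · exact h3
    · exfalso
      exact hm0 ((D.le_YY D.adj01).trans (comm_symm (h3.trans inf_le_right)))
  have h3 : v ∈ NN Z (Z 0) ⊓ centralizer (YY Z (XW Z U) (Z 0) : Set G) := by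
    refine ⟨hv, ?_⟩
    have h5 : YY Z (XW Z U) (Z 0) ≤ centralizer ({v} : Set G) :=
      iSup_le fun p g hg => mem_centralizer_singleton_iff.2 (hkill p p.2 g hg)
    exact mem_centralizer_iff.2 fun y hy => mem_centralizer_singleton_iff.1 (h5 hy)
  rw [h2, mem_bot] at h3
  exact h3

/-- `X p` centralises a vector `≠ 1` of `x` : it centralises `x` -/
theorem one0 {a p x : Subgroup G} (hp : Adj Z a p) (hx : Adj Z a x) {v : G} (hv : v ∈ x) (hv1 : v ≠ 1)
    (h : ∀ w ∈ XW Z U p, w * v = v * w) : XW Z U p ≤ centralizer (x : Set G) := by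
  intro w hw
  have hpp := D.P.adj_pt hp
  have hxp := D.P.adj_pt hx
  have h1 : MulAut.conj w • x = x := by
    refine D.ti' (hxp.conj w) hxp (v := v) ⟨v, hv, ?_⟩ hv hv1
    change w * v * w⁻¹ = v
    rw [h w hw, mul_inv_cancel_right]
  refine mem_centralizer_iff.2 fun u hu => ?_
  by_contra hne
  have h2 : w * u * w⁻¹ ∈ x := h1 ▸ (⟨u, hu, rfl⟩ : w * u * w⁻¹ ∈ MulAut.conj w • x)
  have h3 : w * u * w⁻¹ * u⁻¹ ≠ 1 := by
    intro e
    rw [mul_inv_eq_one, mul_inv_eq_iff_eq_mul] at e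
    exact hne e.symm
  have h4 := D.ti' hpp hxp (D.F.com p hpp w hw u (D.NQ hp (hx.le_NN hu))) (mul_mem h2 (inv_mem hu)) h3
  subst h4
  exact hne (D.cent_of hpp hw (D.F.aX _ hpp hu)).symm

/-- one step of the symmetrised non-perp relation on the points of `N_a` -/
def St (Z U : Fin 2 → Subgroup G) (a x y : Subgroup G) : Prop :=
  x ∈ {p | Adj Z a p} ∧ y ∈ {p | Adj Z a p} ∧ (Mv (XW Z U) x y ∨ Mv (XW Z U) y x)

theorem st_conj {a x y : Subgroup G} (g : G) (h : St Z U a x y) :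
    St Z U (MulAut.conj g • a) (MulAut.conj g • x) (MulAut.conj g • y) := by
  obtain ⟨h1, h2, h3⟩ := h
  have key : ∀ {x y : Subgroup G}, Adj Z a x → Mv (XW Z U) x y → Mv (XW Z U) (MulAut.conj g • x) (MulAut.conj g • y) := by
    intro x y hx hm hle
    refine hm fun w hw => ?_
    have h4 : g * w * g⁻¹ ∈ XW Z U (MulAut.conj g • x) := by
      rw [XW_conj]
      exact ⟨w, hw, rfl⟩
    exact (mem_cent_conj (g := g)).1 (hle h4)
  exact ⟨Adj.conj h1 g, Adj.conj h2 g, h3.imp (key h1) (key h2)⟩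

omit D in
theorem st_symm {a x y : Subgroup G} (h : St Z U a x y) : St Z U a y x := ⟨h.2.1, h.1, h.2.2.symm⟩

theorem rt_conj {a x y : Subgroup G} (g : G) (h : Relation.ReflTransGen (St Z U a) x y) :
    Relation.ReflTransGen (St Z U (MulAut.conj g • a)) (MulAut.conj g • x) (MulAut.conj g • y) := by
  induction h with
  | refl => exact Relation.ReflTransGen.refl
  | tail _ h2 ih => exact ih.tail (D.st_conj g h2)

/-- **the non-perp graph on the points of `N_1` is connected** (no vector of `N_1 - Z 1` is fixed by `N(Z 0) ∩ N(Z 1)`) -/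
theorem conn0 {a c : Subgroup G} (h : Adj Z a c) (hm : ¬ XW Z U c ≤ centralizer (NN Z a : Set G)) {x : Subgroup G}
    (hx : Adj Z (Z 0) x) : Relation.ReflTransGen (St Z U (Z 0)) (Z 1) x := by
  by_contra hcon
  set M : Subgroup G := sSup {y | Adj Z (Z 0) y ∧ ¬ Relation.ReflTransGen (St Z U (Z 0)) (Z 1) y} with hM
  have hxM : x ≤ M := le_sSup ⟨hx, hcon⟩
  have hne : M ≠ ⊥ := by
    intro e
    rw [e] at hxM
    have h1 := D.card_pt (D.P.adj_pt hx)
    rw [le_bot_iff.1 hxM, Subgroup.card_bot] at h1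
    have := D.q3
    omega
  have hMn : HH (Z 0) ⊓ HH (Z 1) ≤ normalizer (M : Set G) := by
    have key : ∀ g ∈ HH (Z 0) ⊓ HH (Z 1), MulAut.conj g • M ≤ M := by
      intro g hg
      have hg0 : MulAut.conj g • Z 0 = Z 0 := Cfsg.Agent.Omega.NOThreeL.Pair.conj_eq_of_mem hg.1
      have hg1 : MulAut.conj g • Z 1 = Z 1 := Cfsg.Agent.Omega.NOThreeL.Pair.conj_eq_of_mem hg.2
      have hgi0 : MulAut.conj g⁻¹ • Z 0 = Z 0 := Cfsg.Agent.Omega.NOThreeL.Pair.conj_eq_of_mem (inv_mem hg.1)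
      have hgi1 : MulAut.conj g⁻¹ • Z 1 = Z 1 := Cfsg.Agent.Omega.NOThreeL.Pair.conj_eq_of_mem (inv_mem hg.2)
      have h1 : M ≤ MulAut.conj g⁻¹ • M := by
        refine sSup_le ?_
        rintro y ⟨hy, hyc⟩
        have h2 : MulAut.conj g • y ≤ M := by
          refine le_sSup ⟨?_, fun h3 => hyc ?_⟩
          · have := Adj.conj hy g
            rwa [hg0] at this
          · have h4 := D.rt_conj g⁻¹ h3
            rwa [hgi0, hgi1, inv_conj_conj] at h4
        have h3 := conj_le_iff (g := g⁻¹) |>.2 h2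
        rwa [inv_conj_conj] at h3
      have h3 := conj_le_iff (g := g) |>.2 h1
      rwa [conj_inv_conj] at h3
    intro g hg
    refine ChoiceBase.mem_normalizer_iff_cj.2 (le_antisymm (key g hg) ?_)
    have h1 := conj_le_iff (g := g) |>.2 (key g⁻¹ (inv_mem hg))
    rwa [conj_inv_conj] at h1
  obtain ⟨t, htM, ht, ht1⟩ := D.fx M (sSup_le fun y hy => Adj.le_NN hy.1) hMn hne
  -- all `X_p` centralise `Z 1`
  have hall : ∀ p, Adj Z (Z 0) p → XW Z U p ≤ centralizer (Z 1 : Set G) := by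
    intro p hp
    by_cases hc : Relation.ReflTransGen (St Z U (Z 0)) (Z 1) p
    · refine D.one0 hp D.adj01 ht ht1 fun w hw => ?_
      have h1 : M ≤ centralizer (XW Z U p : Set G) := by
        refine sSup_le ?_
        rintro y ⟨hy, hyc⟩
        refine comm_symm ?_
        by_contra h2
        exact hyc (hc.tail ⟨hp, hy, Or.inl h2⟩)
      exact mem_centralizer_iff.1 (h1 htM) w hw
    · by_contra h2
      exact hc (Relation.ReflTransGen.single ⟨D.adj01, hp, Or.inr h2⟩)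
  exact ht1 (D.nk0 h hm (D.adj01.le_NN ht) fun p hp g hg => (mem_centralizer_iff.1 (hall p hp hg) t ht).symm)

theorem conn {a c : Subgroup G} (h : Adj Z a c) (hm : ¬ XW Z U c ≤ centralizer (NN Z a : Set G)) {p x : Subgroup G}
    (hp : Adj Z a p) (hx : Adj Z a x) : Relation.ReflTransGen (St Z U a) p x := by
  have hsym : ∀ {x y : Subgroup G}, Relation.ReflTransGen (St Z U a) x y → Relation.ReflTransGen (St Z U a) y x := by
    intro x y h
    induction h with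
    | refl => exact Relation.ReflTransGen.refl
    | tail _ h2 ih => exact Relation.ReflTransGen.head (st_symm h2) ih
  obtain ⟨k, hk⟩ := h.pt
  have key : ∀ {y : Subgroup G}, Adj Z a y → Relation.ReflTransGen (St Z U a) (MulAut.conj k • Z 1) y := by
    intro y hy
    have hy' : Adj Z (Z 0) (MulAut.conj k⁻¹ • y) := by
      have := Adj.conj hy k⁻¹
      rwa [hk, inv_conj_conj] at this
    have h1 := D.rt_conj k (D.conn0 h hm hy')
    rwa [← hk, conj_inv_conj] at h1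
  exact (hsym (key hp)).trans (key hx)

variable [Finite G]

/-- **The geometry of `N_a`.** -/
theorem nd {a c : Subgroup G} (h : Adj Z a c) (hm : ¬ XW Z U c ≤ centralizer (NN Z a : Set G)) :
    ND (NN Z a) {p | Adj Z a p} (XW Z U) (Nat.card (Z 0)) where
  toGD := D.gd h.pt
  nk := by
    obtain ⟨k, hk⟩ := h.pt
    intro v hv hkill
    rw [hk, NN_conj] at hv
    obtain ⟨v₀, hv₀, rfl⟩ := hv
    have h3 : v₀ = 1 := by
      refine D.nk0 h hm hv₀ fun p hp g hg => ?_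
      have h6 := hkill (MulAut.conj k • p) (by rw [hk]; exact hp.conj k) (MulAut.conj k g)
        (by rw [XW_conj]; exact ⟨g, hg, rfl⟩)
      change MulAut.conj k g * MulAut.conj k v₀ = MulAut.conj k v₀ * MulAut.conj k g at h6
      rw [← map_mul, ← map_mul] at h6
      exact (MulAut.conj k).injective h6
    rw [h3]
    simp
  line := by
    intro p hp
    obtain ⟨V, hV, hpV, hVN, hc, hcov, hpts⟩ := D.exists_line hp
    refine ⟨V, hpV, hVN, hc.le, fun v hv hv1 => ?_, fun s hs hsV => ?_, ?_⟩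
    · obtain ⟨s, h1, h2, h3⟩ := hcov v hv hv1
      exact ⟨s, h1, h2, h3⟩
    · obtain ⟨-, h2⟩ := hpts s (D.P.adj_pt hs) hsV
      exact fun w hw => mem_centralizer_iff.2 fun v hv =>
        D.cent_of (D.P.adj_pt hs) (ln_le_XW h2 hv) hw
    · -- a second point
      obtain ⟨v, hv, hvp⟩ : ∃ v ∈ V, v ∉ p := by
        by_contra hcon
        push Not at hcon
        have h1 : V = p := le_antisymm hcon hpV
        rw [h1, D.card_pt (D.P.adj_pt hp)] at hc
        have h2 := D.q3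
        nlinarith
      obtain ⟨s, h1, h2, h3⟩ := hcov v hv fun e => hvp (e ▸ one_mem _)
      exact ⟨s, h1, h2, fun e => hvp (e ▸ h3)⟩
  ex := ⟨c, h⟩
  conn := fun p hp x hx => D.conn h hm hp hx

end NrH

end Cfsg.Agent.Omega.NO3S.EThree.NrOne
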