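import Cfsg.Agent.Omega.NO3S.EThree.NrOne

/-!
# (E), `k = 2`, no radical, `[W_1, N_2] ≠ 1` is impossible: the end of (NR1)

* `NrH.pt_le_X`, `NrH.mem_X` : `c^⊥ ≤ X_c`;
* `NrH.two_common` : two common neighbours `c ≠ r` of `a`, `b` imply `[N_a, N_b] = 1`;
* **`NrH.nr_one`** : `X_u` centralises `N_a` for `a ~ u`.
-/

set_option autoImplicit false
set_option linter.unusedSectionVars false

namespace Cfsg.Agent.Omega.NO3S.EThree.NrOne

open Subgroup Cfsg
open Cfsg.Agent.ZN Cfsg.Agent.Omega.OM.PG Cfsg.Agent.Omega.OM.PG.Peel Cfsg.Agent.Omega.OM.PG.PeelQ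
open Cfsg.Agent.Omega.OM.PG.PcQ (RegX not_adj_self)
open Cfsg.Agent.Omega.NO3S.EThree Cfsg.Agent.Omega.NO3S.EThree.ExactA
open Cfsg.Agent.Omega.NoFF.Basic (comm_symm conj_conj conj_le_iff)
open Cfsg.Agent.Omega.NOThreeL.Pair (conj_eq_of_mem)
open Cfsg.Agent.Omega.OmThm.Grp (GD Mv)
open Cfsg.Agent.Omega.NO3S.EThree.NrGeo (ND)
open scoped Pointwise

universe u

variable {G : Type u} [Group G] [Finite G]

namespace NrH

variable {Z U : Fin 2 → Subgroup G} (D : NrH Z U)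
include D

/-- the points of `c^⊥` lie in `X_c` -/
theorem pt_le_X {a c x : Subgroup G} (h : Adj Z a c) (hm : ¬ XW Z U c ≤ centralizer (NN Z a : Set G)) (hx : Adj Z a x)
    (hcx : XW Z U c ≤ centralizer (x : Set G)) : x ≤ XW Z U c := by
  have hc := D.P.adj_pt h
  by_cases hne : c = x
  · rw [← hne]
    exact D.F.aX c hc
  obtain ⟨V, hV, hcV, hVN, hVc, hcov, hpts⟩ := D.exists_line h
  obtain ⟨v, hv, hvc⟩ : ∃ v ∈ V, v ∉ c := by
    by_contra hcon
    push Not at hcon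
    have h1 : V = c := le_antisymm hcon hcV
    rw [h1, D.card_pt hc] at hVc
    have h2 := D.q3
    nlinarith
  obtain ⟨r, hr, hrV, hvr⟩ := hcov v hv fun e => hvc (e ▸ one_mem _)
  have hrc : c ≠ r := fun e => hvc (e ▸ hvr)
  have hVX := ln_le_XW hV
  have hcr : XW Z U c ≤ centralizer (r : Set G) := fun w hw =>
    mem_centralizer_iff.2 fun v hv => D.cent_of hc (hVX (hrV hv)) hw
  obtain ⟨g, hgc, hgr, -⟩ := (D.nd h hm).trans (c := c) (y := r) (p := x) h hr hx hcr hcx hrc hne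
  have hgcc : MulAut.conj g • c = c := conj_eq_of_mem (centralizer_le_normalizer _ hgc)
  have hV' : LnOn Z U c (MulAut.conj g • V) := by
    have := hV.conj g
    rwa [hgcc] at this
  rw [← hgr]
  exact (conj_le_iff.2 hrV).trans (ln_le_XW hV')

/-- the vectors of `c^⊥` lie in `X_c` -/
theorem mem_X {b c : Subgroup G} (h : Adj Z b c) (hm : ¬ XW Z U c ≤ centralizer (NN Z b : Set G)) {m : G}
    (hmN : m ∈ NN Z b) (hc : ∀ w ∈ XW Z U c, w * m = m * w) : m ∈ XW Z U c := by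
  by_cases hm1 : m = 1
  · rw [hm1]
    exact one_mem _
  obtain ⟨p, hp, hmp⟩ := (D.nd h hm).vect hmN hm1
  exact D.pt_le_X h hm hp ((D.nd h hm).one h hp hmp hm1 hc) hmp

omit [Finite G] in
theorem gm_mem {a c : Subgroup G} (h : Adj Z a c) {g m : G} (hg : g ∈ NN Z a) (hm : m ∈ XW Z U c) :
    g * m * g⁻¹ * m⁻¹ ∈ c := by
  have h1 := inv_mem (D.F.com c (D.P.adj_pt h) m hm g (D.NQ h hg))
  have e : (m * g * m⁻¹ * g⁻¹)⁻¹ = g * m * g⁻¹ * m⁻¹ := by group
  rwa [e] at h1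

omit [Finite G] in
theorem fix {a b c : Subgroup G} (hac : Adj Z a c) (hbc : Adj Z b c) {g : G} (hg : g ∈ NN Z a) :
    MulAut.conj g • b = b := conj_eq_of_mem (centralizer_le_normalizer _ (D.NN_cent hac hbc hg))

/-- (G4) -/
theorem g4 {a b c r x : Subgroup G} (hac : Adj Z a c) (hbc : Adj Z b c) (har : Adj Z a r) (hbr : Adj Z b r)
    (hm : ¬ XW Z U c ≤ centralizer (NN Z b : Set G)) (hcr : XW Z U c ≤ centralizer (r : Set G)) (hx : Adj Z b x)
    (hxc : XW Z U c ≤ centralizer (x : Set G)) (hxr : ¬ XW Z U r ≤ centralizer (x : Set G)) {g x₀ : G}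
    (hg : g ∈ NN Z a) (hx₀ : x₀ ∈ x) (hx1 : x₀ ≠ 1) (hgx : g * x₀ = x₀ * g) : g ∈ centralizer (NN Z b : Set G) := by
  have E := D.nd hbc hm
  have hmr : ¬ XW Z U r ≤ centralizer (NN Z b : Set G) := D.mov_all hbc hbr hm
  have hgm : ∀ s, Adj Z b s → Adj Z b (MulAut.conj g • s) := by
    intro s hs
    have := hs.conj g
    rwa [D.fix hac hbc hg] at this
  have hcx : c ≠ x := by
    rintro rfl
    exact hxr (E.sym hbc hbr hcr)
  -- `g` centralises `x`
  have hxX : x ≤ XW Z U c := D.pt_le_X hbc hm hx hxc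
  have hgx' : MulAut.conj g • x = x := by
    refine D.ti' (D.P.adj_pt (hgm x hx)) (D.P.adj_pt hx) (v := x₀) ⟨x₀, hx₀, ?_⟩ hx₀ hx1
    change g * x₀ * g⁻¹ = x₀
    rw [hgx, mul_inv_cancel_right]
  have hgxx : ∀ v ∈ x, g * v = v * g := by
    intro v hv
    by_contra hne
    have h1 := D.gm_mem hac hg (hxX hv)
    have h2 : g * v * g⁻¹ ∈ x := hgx' ▸ (⟨v, hv, rfl⟩ : g * v * g⁻¹ ∈ MulAut.conj g • x)
    refine hcx (D.ti' (D.P.adj_pt hac) (D.P.adj_pt hx) h1 (mul_mem h2 (inv_mem hv)) fun e => hne ?_)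
    rwa [mul_inv_eq_one, mul_inv_eq_iff_eq_mul] at e
  -- `[g, N_b] ≤ r`
  have key : ∀ m ∈ NN Z b, ∃ x' ∈ x, ∀ w ∈ XW Z U r, w * (m * x'⁻¹) = (m * x'⁻¹) * w := fun m hm => E.ix hbr hx hxr hm
  have hgr : ∀ m ∈ NN Z b, g * m * g⁻¹ * m⁻¹ ∈ r := by
    intro m hmN
    obtain ⟨x', hx', h1⟩ := key m hmN
    have h2 : m * x'⁻¹ ∈ XW Z U r := D.mem_X hbr hmr (mul_mem hmN (inv_mem (hx.le_NN hx'))) h1
    have h3 := D.gm_mem har hg h2
    have e : g * (m * x'⁻¹) * g⁻¹ * (m * x'⁻¹)⁻¹ = g * m * g⁻¹ * m⁻¹ := by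
      have h4 := hgxx x' hx'
      have h5 : x'⁻¹ * g⁻¹ = g⁻¹ * x'⁻¹ := by
        rw [← mul_inv_rev, ← mul_inv_rev, h4]
      calc g * (m * x'⁻¹) * g⁻¹ * (m * x'⁻¹)⁻¹ = g * m * (x'⁻¹ * g⁻¹) * (x' * m⁻¹) := by group
        _ = _ := by rw [h5]; group
    rwa [e] at h3
  have htv : ∀ s, Adj Z b s → XW Z U r ≤ centralizer (s : Set G) → ∀ v ∈ s, g * v = v * g := by
    intro s hs hrs
    exact E.tv hbr hs (fun v hv => (mem_centralizer_iff.1 (D.NN_cent' har hg) v hv).symm) hgr hgm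
      (fun s hs => D.F.conj g s (D.P.adj_pt hs)) hrs
  refine mem_centralizer_iff.2 fun m hmN => ?_
  obtain ⟨x', hx', h1⟩ := key m hmN
  have h4 : g * (m * x'⁻¹) = (m * x'⁻¹) * g := by
    by_cases h5 : m * x'⁻¹ = 1
    · rw [h5, one_mul, mul_one]
    · obtain ⟨s, hs, hms⟩ := E.vect (mul_mem hmN (inv_mem (hx.le_NN hx'))) h5
      exact htv s hs (E.one hbr hs hms h5 h1) _ hms
  calc m * g = (m * x'⁻¹) * (x' * g) := by group
    _ = (m * x'⁻¹) * (g * x') := by rw [hgxx x' hx']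
    _ = (g * (m * x'⁻¹)) * x' := by rw [h4]; group
    _ = g * m := by group

/-- **two common neighbours** -/
theorem two_common {a b c r : Subgroup G} (hac : Adj Z a c) (hbc : Adj Z b c) (har : Adj Z a r) (hbr : Adj Z b r)
    (hne : c ≠ r) (hm : ¬ XW Z U c ≤ centralizer (NN Z b : Set G)) : Com Z a b := by
  have E := D.nd hbc hm
  have hmr : ¬ XW Z U r ≤ centralizer (NN Z b : Set G) := D.mov_all hbc hbr hm
  have hma : ¬ XW Z U c ≤ centralizer (NN Z a : Set G) := D.mov_all hbc hac hm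
  have Ea := D.nd hac hma
  have hcp := D.P.adj_pt hac
  have hrp := D.P.adj_pt har
  by_cases hcr : XW Z U c ≤ centralizer (r : Set G)
  swap
  · intro g hg
    refine mem_centralizer_iff.2 fun m hmN => ?_
    obtain ⟨x, hx, h1⟩ := E.ix hbc hbr hcr hmN
    have hrc : ¬ XW Z U r ≤ centralizer (c : Set G) := fun h => hcr (E.sym hbr hbc h)
    have hm1N : m * x⁻¹ ∈ NN Z b := mul_mem hmN (inv_mem (hbr.le_NN hx))
    obtain ⟨y, hy, h2⟩ := E.ix hbr hbc hrc hm1N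
    have hm' : m * x⁻¹ * y⁻¹ ∈ NN Z b := mul_mem hm1N (inv_mem (hbc.le_NN hy))
    have h3 : ∀ w ∈ XW Z U c, w * (m * x⁻¹ * y⁻¹) = (m * x⁻¹ * y⁻¹) * w := by
      intro w hw
      have h5 : w * y⁻¹ = y⁻¹ * w := D.cent_of hcp hw (inv_mem (D.F.aX c hcp hy))
      calc w * (m * x⁻¹ * y⁻¹) = w * (m * x⁻¹) * y⁻¹ := by group
        _ = m * x⁻¹ * (w * y⁻¹) := by rw [h1 w hw]; group
        _ = _ := by rw [h5]; group
    have h4 := D.mem_X hbc hm hm' h3
    have h5 := D.mem_X hbr hmr hm' h2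
    have h6 := ti_one D.ti hcp hrp hne (D.gm_mem hac hg h4) (D.gm_mem har hg h5)
    rw [mul_inv_eq_one, mul_inv_eq_iff_eq_mul] at h6
    have h7 : g * y = y * g := (mem_centralizer_iff.1 (D.NN_cent' hac hg) y hy).symm
    have h8 : g * x = x * g := (mem_centralizer_iff.1 (D.NN_cent' har hg) x hx).symm
    calc m * g = (m * x⁻¹ * y⁻¹) * (y * (x * g)) := by group
      _ = (m * x⁻¹ * y⁻¹) * (y * g * x) := by rw [← h8]; group
      _ = ((m * x⁻¹ * y⁻¹) * g) * (y * x) := by rw [← h7]; group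
      _ = g * m := by rw [← h6]; group
  · by_contra hcon
    obtain ⟨g, hg, hgN⟩ := SetLike.not_le_iff_exists.1 hcon
    have hrc : XW Z U r ≤ centralizer (c : Set G) := E.sym hbc hbr hcr
    obtain ⟨x, hx, hxc, hxr⟩ := E.sep hbc hbr hne
    obtain ⟨y, hy, hyr, hyc⟩ := E.sep hbr hbc hne.symm
    obtain ⟨x', hx', hxc', hxr'⟩ := Ea.sep hac har hne
    obtain ⟨z, hz, hz1⟩ := Ea.exists_v hx'
    have hzX : z ∈ XW Z U c := D.pt_le_X hac hma hx' hxc' hz
    have hxX : x ≤ XW Z U c := D.pt_le_X hbc hm hx hxc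
    have hyX : y ≤ XW Z U r := D.pt_le_X hbr hmr hy hyr
    have hN : ∀ v : x × y, (v.1 : G) * (v.2 : G) ∈ NN Z b := fun v => mul_mem (hx.le_NN v.1.2) (hy.le_NN v.2.2)
    let f : x × y → c := fun v => ⟨((v.1 : G) * (v.2 : G)) * z * ((v.1 : G) * (v.2 : G))⁻¹ * z⁻¹,
      D.gm_mem hbc (hN v) hzX⟩
    have hf : Function.Injective f := by
      rintro ⟨v, w⟩ ⟨v', w'⟩ e
      have e1 : ((v : G) * (w : G)) * z * ((v : G) * (w : G))⁻¹ * z⁻¹ =
          ((v' : G) * (w' : G)) * z * ((v' : G) * (w' : G))⁻¹ * z⁻¹ := congrArg Subtype.val e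
      have e2 := mul_right_cancel e1
      set n := ((v : G) * (w : G)) with hn
      set n' := ((v' : G) * (w' : G)) with hn'
      have e3 : (n⁻¹ * n') * z = z * (n⁻¹ * n') := by
        calc (n⁻¹ * n') * z = n⁻¹ * (n' * z * n'⁻¹) * n' := by group
          _ = z * (n⁻¹ * n') := by rw [← e2]; group
      have hnN : n⁻¹ * n' ∈ NN Z b := mul_mem (inv_mem (hN (v, w))) (hN (v', w'))
      have h1 : n⁻¹ * n' ∈ centralizer (NN Z a : Set G) :=
        D.g4 hbc hac hbr har hma hcr hx' hxc' hxr' hnN hz hz1 e3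
      have h2 : g * (n⁻¹ * n') = (n⁻¹ * n') * g := mem_centralizer_iff.1 h1 g hg
      set p := (v : G)⁻¹ * (v' : G) with hp
      set s := (w : G)⁻¹ * (w' : G) with hs
      have hpx : p ∈ x := mul_mem (inv_mem v.2) v'.2
      have hsy : s ∈ y := mul_mem (inv_mem w.2) w'.2
      have hps : n⁻¹ * n' = p * s := by
        rw [hn, hn', hp, hs]
        have h3 := D.NN_com hbc.pt (inv_mem (hy.le_NN w.2)) (mul_mem (inv_mem (hx.le_NN v.2)) (hx.le_NN v'.2))
        calc ((v : G) * (w : G))⁻¹ * ((v' : G) * (w' : G)) = ((w : G)⁻¹ * ((v : G)⁻¹ * (v' : G))) * (w' : G) := by group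
          _ = _ := by rw [h3]; group
      rw [hps] at h2
      have h4 : g * p * g⁻¹ * p⁻¹ ∈ c := D.gm_mem hac hg (hxX hpx)
      have h5 : g * s * g⁻¹ * s⁻¹ ∈ r := D.gm_mem har hg (hyX hsy)
      have h6 : g * p * g⁻¹ * p⁻¹ = (g * s * g⁻¹ * s⁻¹)⁻¹ := by
        have h7 := D.NN_com hbc.pt (hx.le_NN hpx) (hbr.le_NN (inv_mem h5))
        have h8 : (g * p * g⁻¹ * p⁻¹) * p = (g * s * g⁻¹ * s⁻¹)⁻¹ * p := by
          rw [← h7]
          calc (g * p * g⁻¹ * p⁻¹) * p = (g * (p * s)) * (g * s)⁻¹ := by group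
            _ = (p * s * g) * (g * s)⁻¹ := by rw [h2]
            _ = _ := by group
        exact mul_right_cancel h8
      have h7 : g * p * g⁻¹ * p⁻¹ = 1 := ti_one D.ti hcp hrp hne h4 (h6 ▸ inv_mem h5)
      have h8 : g * s * g⁻¹ * s⁻¹ = 1 := by
        rw [h7] at h6
        exact inv_eq_one.1 h6.symm
      rw [mul_inv_eq_one, mul_inv_eq_iff_eq_mul] at h7 h8
      have hp1 : p = 1 := by
        by_contra hp1
        exact hgN (D.g4 hac hbc har hbr hm hcr hx hxc hxr hg hpx hp1 h7)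
      have hs1 : s = 1 := by
        by_contra hs1
        exact hgN (D.g4 har hbr hac hbc hmr hrc hy hyr hyc hg hsy hs1 h8)
      exact Prod.ext (Subtype.ext (inv_mul_eq_one.1 hp1)) (Subtype.ext (inv_mul_eq_one.1 hs1))
    have h1 := Nat.card_le_card_of_injective f hf
    rw [Nat.card_prod, D.card_pt (D.P.adj_pt hx), D.card_pt (D.P.adj_pt hy), D.card_pt hcp] at h1
    have h2 := D.q3
    nlinarith

/-- **(NR1)** -/
theorem nr_one {a c : Subgroup G} (h : Adj Z a c) : XW Z U c ≤ centralizer (NN Z a : Set G) := by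
  by_contra hm
  obtain ⟨l, hl, hlN⟩ : ∃ l, LnOn Z U c l ∧ ¬ l ≤ centralizer (NN Z a : Set G) := by
    by_contra hcon
    push Not at hcon
    exact hm (sup_le (comm_symm (D.com _ _ h)) (iSup_le fun l => hcon l l.2))
  have hlX := ln_le_XW hl
  obtain ⟨k, hk0, hk1⟩ := hl
  -- `b`
  have hbc : Adj Z (MulAut.conj k • Z 1) c := by
    rw [hk0]
    exact D.P.adj_symm (D.adj01.conj k)
  have hlb : l ≤ NN Z (MulAut.conj k • Z 1) := by
    rw [hk1, NN_conj]
    refine conj_le_iff.2 ?_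
    obtain ⟨s, hs0, hs1, hs2, hs3⟩ := D.P.swap
    rw [← hs0, ← hs3, NN_conj]
    exact conj_le_iff.2 D.UN
  set b := MulAut.conj k • Z 1 with hb
  have hmb : ¬ XW Z U c ≤ centralizer (NN Z b : Set G) := D.mov_all h hbc hm
  have E := D.nd hbc hmb
  have Ea := D.nd h hm
  obtain ⟨v, hv, hvN⟩ := SetLike.not_le_iff_exists.1 hlN
  obtain ⟨g, hg, hgv⟩ : ∃ g ∈ NN Z a, g * v ≠ v * g := by
    by_contra hcon
    push Not at hcon
    exact hvN (mem_centralizer_iff.2 hcon)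
  have hncom : ¬ Com Z a b := fun h1 => hgv (mem_centralizer_iff.1 (h1 hg) v (hlb hv)).symm
  have hin : ∀ m ∈ NN Z b, g * m * g⁻¹ * m⁻¹ ∈ c := by
    intro m hmN
    by_cases h1 : g * m * g⁻¹ * m⁻¹ = 1
    · rw [h1]
      exact one_mem _
    have h2 : g * m * g⁻¹ * m⁻¹ ∈ NN Z b := by
      refine mul_mem ?_ (inv_mem hmN)
      exact (mem_normalizer_iff.1 (PP.HH_le_NN b (centralizer_le_normalizer _ (D.NN_cent h hbc hg))) m).1 hmN
    have h3 : g * m * g⁻¹ * m⁻¹ ∈ NN Z a := by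
      have h4 := (mem_normalizer_iff.1 (PP.HH_le_NN a (centralizer_le_normalizer _ (D.NN_cent hbc h hmN))) g⁻¹).1
        (inv_mem hg)
      have e : g * m * g⁻¹ * m⁻¹ = g * (m * g⁻¹ * m⁻¹) := by group
      rw [e]
      exact mul_mem hg h4
    obtain ⟨p, hp, hmp⟩ := E.vect h2 h1
    obtain ⟨p', hp', hmp'⟩ := Ea.vect h3 h1
    have e : p = p' := D.ti' (D.P.adj_pt hp) (D.P.adj_pt hp') hmp hmp' h1
    subst e
    by_cases hpc : c = p
    · rw [hpc]
      exact hmp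
    · exact absurd (D.two_common h hbc hp' hp hpc hmb) hncom
  have hv1 : v ≠ 1 := by
    rintro rfl
    exact hgv (by rw [mul_one, one_mul])
  obtain ⟨s, hs, hvs⟩ := E.vect (hlb hv) hv1
  have hcs : XW Z U c ≤ centralizer (s : Set G) :=
    E.one hbc hs hvs hv1 fun w hw => D.cent_of (D.P.adj_pt h) hw (hlX hv)
  refine hgv (E.tv hbc hs (fun v hv => (mem_centralizer_iff.1 (D.NN_cent' h hg) v hv).symm) hin ?_
    (fun s hs => D.F.conj g s (D.P.adj_pt hs)) hcs v hvs)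
  intro s hs
  have := Adj.conj hs g
  rwa [D.fix h hbc hg] at this

end NrH

end Cfsg.Agent.Omega.NO3S.EThree.NrOne
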