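import Cfsg.Agent.Omega.OM.PG.PeelQ

/-!
# (E), no radical, (NR2), all `q` (helper997 #19092 COROLLARY 2, helper169 #19960, helper384 `PeelQ`)

`PP Z U`, `XF Z X` (`X_a = W_a N_a`).  No radical: `N_a ∩ N_c = 1` for `a ~ c` (`NoRadN`); (NR2) = (II.A'):
`[X_a, N_u] = 1` for `a ~ u` (`Flt`).

* `comm_one`, `comm_two`: `X_a`, `X_b` commute at distance `1`, `2` (THEOREM C and `(NO)` twice);
* `nrTwo`: contradiction (`PeelQ.false_of_three`).  No swap beyond `PP`, no torus, no Thompson subgroup, any `|Z 0|`.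
-/

set_option autoImplicit false
set_option linter.unusedSectionVars false

namespace Cfsg.Agent.Omega.NO3S.EThree.NrTwo

open Subgroup Cfsg Cfsg.Agent.ZN Cfsg.Agent.Omega.MinPar
open Cfsg.Agent.Omega.OM.PG Cfsg.Agent.Omega.OM.PG.Peel Cfsg.Agent.Omega.OM.PG.PeelQ
open Cfsg.Agent.Omega.NO3S.EThree.ExactA
open Cfsg.Agent.Omega.NoFF.Basic (conj_conj mem_conj conj_le_iff conj_le_centralizer comm_symm comm_mono)
open scoped Pointwise

universe u

variable {G : Type u} [Group G]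

/-- No radical: `N_a ∩ N_c = 1` for `a ~ c`. -/
def NoRadN (Z : Fin 2 → Subgroup G) : Prop := ∀ a c : Subgroup G, Adj Z a c → NN Z a ⊓ NN Z c = ⊥

/-- (II.A'): `[X_a, N_u] = 1` for `a ~ u`. -/
def Flt (Z : Fin 2 → Subgroup G) (X : Subgroup G → Subgroup G) : Prop :=
  ∀ a u : Subgroup G, Adj Z a u → X a ≤ centralizer (NN Z u : Set G)

section basics

variable {Z U : Fin 2 → Subgroup G} (P : PP Z U)

include P in
theorem ne_of_adj (hNN : NoRadN Z) {a c : Subgroup G} (h : Adj Z a c) : a ≠ c := by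
  rintro rfl
  have h1 := hNN a a h
  rw [inf_idem] at h1
  have h2 : a = ⊥ := le_bot_iff.1 (h.le_NN.trans h1.le)
  obtain ⟨k, hk, -⟩ := h
  apply P.ne
  have h3 : MulAut.conj k • Z 0 ≤ MulAut.conj k • (⊥ : Subgroup G) := by rw [← hk, h2]; exact bot_le
  exact le_bot_iff.1 (conj_le_iff.1 h3)

end basics

/-- `[x, y] = 1` from `[x, y] ∈ a ∩ b = 1` -/
theorem comm_of_mem {a b : Subgroup G} (h : a ⊓ b = ⊥) {x y : G} (h1 : x * y * x⁻¹ * y⁻¹ ∈ a)
    (h2 : y * x * y⁻¹ * x⁻¹ ∈ b) : x * y = y * x := by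
  have h3 : x * y * x⁻¹ * y⁻¹ ∈ b := by
    have h4 := inv_mem h2
    have e : (y * x * y⁻¹ * x⁻¹)⁻¹ = x * y * x⁻¹ * y⁻¹ := by group
    rwa [e] at h4
  have h5 : x * y * x⁻¹ * y⁻¹ ∈ a ⊓ b := ⟨h1, h3⟩
  rw [h, mem_bot] at h5
  calc x * y = (x * y * x⁻¹ * y⁻¹) * (y * x) := by group
    _ = y * x := by rw [h5, one_mul]

section main

variable [Finite G] {Z U : Fin 2 → Subgroup G} (P : PP Z U) {X : Subgroup G → Subgroup G} (F : XF Z X)
include P F

omit [Finite G] in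
/-- `X_a ≤ Q_u` for `a ~ u` -/
theorem X_le (hA : Flt Z X) {a u : Subgroup G} (h : Adj Z a u) : X a ≤ QQ u :=
  P.f3 (P.adj_symm h) (F.XQ a h.pt) (hA a u h)

omit [Finite G] in
/-- `X_a`, `X_b` commute if `X_a ≤ Q_b`, `X_b ≤ Q_a` -/
theorem comm_of_le (hti : TIp Z) {a b : Subgroup G} (ha : IsPt Z a) (hb : IsPt Z b) (h1 : X a ≤ QQ b)
    (h2 : X b ≤ QQ a) : X a ≤ centralizer (X b : Set G) := by
  by_cases hab : a = b
  · subst hab
    exact (eab_iff.1 (F.eab a ha)).1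
  · intro x hx
    refine mem_centralizer_iff.2 fun y hy => ?_
    exact (comm_of_mem (hti a b ha hb hab) (F.com a ha x hx y (h2 hy)) (F.com b hb y hy x (h1 hx))).symm

omit [Finite G] in
theorem comm_one (hti : TIp Z) (hA : Flt Z X) {a u : Subgroup G} (h : Adj Z a u) :
    X a ≤ centralizer (X u : Set G) :=
  comm_of_le P F hti h.pt (P.adj_pt h) (X_le P F hA h) (X_le P F hA (P.adj_symm h))

omit [Finite G] in
/-- a subgroup `E ≤ N_a` inside `Q_b` centralises `X_b`, `a ~ c ~ b` -/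
theorem cent_of (hA : Flt Z X) (hNN : NoRadN Z) {a c b E : Subgroup G} (hac : Adj Z a c) (hcb : Adj Z c b)
    (hE : E ≤ NN Z a) (hEQ : E ≤ QQ b) : E ≤ centralizer (X b : Set G) := by
  have hb : IsPt Z b := P.adj_pt hcb
  intro e he
  refine mem_centralizer_iff.2 fun x hx => ?_
  have h1 : x * e * x⁻¹ * e⁻¹ ∈ b := F.com b hb x hx e (hEQ he)
  have hxa : x ∈ HH a := P.QQ_le_HH hac (X_le P F hA (P.adj_symm hcb) hx)
  have h2 : x * e * x⁻¹ * e⁻¹ ∈ NN Z a :=
    mul_mem ((mem_normalizer_iff.1 (PP.HH_le_NN a hxa) _).1 (hE he)) (inv_mem (hE he))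
  have h3 : x * e * x⁻¹ * e⁻¹ ∈ NN Z a ⊓ NN Z c := ⟨h2, hcb.le_NN h1⟩
  rw [hNN a c hac, mem_bot] at h3
  calc x * e = (x * e * x⁻¹ * e⁻¹) * (e * x) := by group
    _ = e * x := by rw [h3, one_mul]

/-- `|X : C_X(A)| ≤ |N : C_N(A)|`, `N ≤ X` abelian: `X = N C_X(A)`. -/
theorem le_sup_of_rel {X' N' A : Subgroup G} (hNX : N' ≤ X')
    (h : (centralizer (A : Set G)).relIndex X' ≤ (centralizer (A : Set G)).relIndex N') :
    X' ≤ N' ⊔ (X' ⊓ centralizer (A : Set G)) := by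
  set D := X' ⊓ centralizer (A : Set G) with hD
  have f1 : D.relIndex X' = (centralizer (A : Set G)).relIndex X' := inf_relIndex_left _ _
  have f3 : D.relIndex N' = (centralizer (A : Set G)).relIndex N' := by
    rw [← inf_relIndex_right D, ← inf_relIndex_right (centralizer (A : Set G)), hD, inf_comm X', inf_assoc,
      inf_eq_right.2 hNX]
  have f6 := relIndex_mul_relIndex D (N' ⊔ D) X' le_sup_right (sup_le hNX inf_le_left)
  have f7 : D.relIndex N' ≤ D.relIndex (N' ⊔ D) := relIndex_le_of_le_right le_sup_left index_ne_zero_of_finite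
  have f8 := rel_pos D (N' ⊔ D)
  have f9 : (N' ⊔ D).relIndex X' ≤ 1 := by
    have f10 : D.relIndex (N' ⊔ D) * (N' ⊔ D).relIndex X' ≤ D.relIndex (N' ⊔ D) * 1 := by
      rw [f6, mul_one, f1]
      exact h.trans (f3 ▸ f7)
    exact Nat.le_of_mul_le_mul_left f10 f8
  have f11 := rel_pos (N' ⊔ D) X'
  exact relIndex_eq_one.1 (by omega)

/-- **COROLLARY 2 of #19092**: `N_a`, `N_b` commute at distance two. -/
theorem com_two (hNO : NoP Z) (hG : ThmC2 Z X) (hA : Flt Z X) (hNN : NoRadN Z) {a c b : Subgroup G}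
    (hac : Adj Z a c) (hcb : Adj Z c b) : Com Z a b := by
  by_contra hne
  have ha : IsPt Z a := hac.pt
  have hb : IsPt Z b := P.adj_pt hcb
  have hbc : Adj Z b c := P.adj_symm hcb
  have hca : Adj Z c a := P.adj_symm hac
  have hXbQ : X b ≤ QQ c := X_le P F hA hbc
  have hNaQ : NN Z a ≤ QQ c := (F.NX a ha).trans (X_le P F hA hac)
  have hNaE : IsElementaryAbelian 2 (NN Z a) := eab_mono (F.eab a ha) (F.NX a ha)
  -- `C_{N_a}(N_b)` centralises `X_b`
  have hE : NN Z a ⊓ centralizer (NN Z b : Set G) ≤ centralizer (X b : Set G) :=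
    cent_of P F hA hNN hac hcb inf_le_left (P.f3 hbc (inf_le_left.trans hNaQ) inf_le_right)
  have h1 : (centralizer (NN Z a : Set G)).relIndex (X b) ≤ (centralizer (X b : Set G)).relIndex (NN Z a) :=
    hNO c a hca (X b) (F.eab b hb) hXbQ
  have h2 : (centralizer (X b : Set G)).relIndex (NN Z a) ≤ (centralizer (NN Z b : Set G)).relIndex (NN Z a) := by
    have h3 := relIndex_dvd_of_le_left (NN Z a) hE
    rw [inf_relIndex_left] at h3
    exact Nat.le_of_dvd (rel_pos _ _) h3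
  have h3 : (centralizer (NN Z b : Set G)).relIndex (NN Z a) ≤ (centralizer (NN Z a : Set G)).relIndex (NN Z b) :=
    hNO c b hcb (NN Z a) hNaE hNaQ
  have h4 := le_sup_of_rel P F (F.NX b hb) (h1.trans (h2.trans h3))
  apply hne
  refine hG b hb (NN Z a) ((MinSimple.VModule.o2_isPGroup _).to_le hNaQ)
    (hNaQ.trans (P.QQ_le_cent_of_adj hbc)) fun x hx g hg => ?_
  have hgb : g ∈ HH b := P.QQ_le_HH hbc (hNaQ hg)
  obtain ⟨n, hn, y, hy, rfl⟩ := exists_mul_of_comm (V := NN Z b) (D := X b ⊓ centralizer (NN Z a : Set G))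
    ((F.NX b hb).trans ((eab_iff.1 (F.eab b hb)).1.trans (centralizer_le inf_le_left))) (h4 hx)
  have e1 : g * y = y * g := mem_centralizer_iff.1 hy.2 g hg
  have e2 : n * y * g * (n * y)⁻¹ * g⁻¹ = n * (g * n⁻¹ * g⁻¹) := by
    calc n * y * g * (n * y)⁻¹ * g⁻¹ = n * (y * g) * y⁻¹ * n⁻¹ * g⁻¹ := by group
      _ = n * (g * y) * y⁻¹ * n⁻¹ * g⁻¹ := by rw [e1]
      _ = _ := by group
  rw [e2]
  exact mul_mem hn ((mem_normalizer_iff.1 (PP.HH_le_NN b hgb) _).1 (inv_mem hn))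

/-- `X_b ≤ Q_a` at distance two -/
theorem X_le_two (hNO : NoP Z) (hG : ThmC2 Z X) (hA : Flt Z X) (hNN : NoRadN Z) {a c b : Subgroup G}
    (hac : Adj Z a c) (hcb : Adj Z c b) : X b ≤ QQ a := by
  have hcom := com_two P F hNO hG hA hNN hac hcb
  have hNaQ : NN Z a ≤ QQ c := (F.NX a hac.pt).trans (X_le P F hA hac)
  have h1 : NN Z a ≤ QQ b := P.f3 (P.adj_symm hcb) hNaQ hcom
  exact P.f3 hac (X_le P F hA (P.adj_symm hcb)) (comm_symm (cent_of P F hA hNN hac hcb le_rfl h1))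

theorem comm_two (hti : TIp Z) (hNO : NoP Z) (hG : ThmC2 Z X) (hA : Flt Z X) (hNN : NoRadN Z)
    {a c b : Subgroup G} (hac : Adj Z a c) (hcb : Adj Z c b) : X a ≤ centralizer (X b : Set G) :=
  comm_of_le P F hti hac.pt (P.adj_pt hcb) (X_le_two P F hNO hG hA hNN (P.adj_symm hcb) (P.adj_symm hac))
    (X_le_two P F hNO hG hA hNN hac hcb)

/-- all `X_a`, `X_b` at distance at most two commute -/
theorem comm_le_two (hti : TIp Z) (hNO : NoP Z) (hG : ThmC2 Z X) (hA : Flt Z X) (hNN : NoRadN Z) :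
    ∀ m ≤ 2, ∀ a b : Subgroup G, Pth Z m a b → X a ≤ centralizer (X b : Set G) := by
  intro m hm a b h
  interval_cases m
  · cases h with
    | zero h0 => exact (eab_iff.1 (F.eab _ h0)).1
  · cases h with
    | succ h1 h2 =>
      cases h1 with
      | zero _ => exact comm_one P F hti hA h2
  · cases h with
    | succ h1 h2 =>
      cases h1 with
      | succ h3 h4 =>
        cases h3 with
        | zero _ => exact comm_two P F hti hNO hG hA hNN h4 h2

/-- **(NR2)**, all `q`. -/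
theorem nrTwo (hN : NobX Z X) (hNO : NoP Z) (hG : ThmC2 Z X) (hti : TIp Z) (hfx : FixN Z) (hNN : NoRadN Z)
    (hA : Flt Z X) : False :=
  have hX := comm_le_two P F hti hNO hG hA hNN
  PeelQ.false_of_three P F hX hN hNO (tb_of P F hX hN hNO hG) hti (jj_ne P) hfx

end main

end Cfsg.Agent.Omega.NO3S.EThree.NrTwo
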