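import Cfsg.Agent.Omega.NO3S.EThree.NoQOf

/-!
# NO-3S, case (E), `k = 2`, all `q`, every level: the line `U i` (frame fields of THEOREM N, #23934 (c))

`E = N_G(U i)`, `b = Z i`, `S = B ∩ C(U i)`.

* `FQ.exists_cj` : a vector of `U i - Z i` is `(b l) z (b l)⁻¹` with `b ∈ B`; `FQ.cov`, `FQ.ptsW`;
* `FQ.lin` : an element of `N(U i)` trivial on `Z i` and `U i / Z i` acts on `U i` like an element of `B` (TI);
* `FQ.exists_lin` : `K` normalised by `B`, `K ≤ C(Z i)`, `K ∩ N(U i)` moves `U i` ⇒ an element of `K` acts on `U i` like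
  an element of `B` which moves `U i`;
* `BgQ.root_of` : then `K` induces the full root group.
-/

set_option autoImplicit false
set_option linter.unusedSectionVars false

namespace Cfsg.Agent.Omega.NO3S.EThree

open Subgroup Cfsg Cfsg.Agent.ZN.ChoiceBase
open Cfsg.Agent.ZN (zc zl o2)
open Cfsg.Agent.ZN.ChoiceSit (Syl syl_not_dvd)
open Cfsg.Agent.Omega.OM Cfsg.Agent.Omega.OM.Uni
open Cfsg.Agent.Omega.OM.PG
open Cfsg.Agent.Omega.MinPar (NonLoc)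
open Cfsg.Agent.Omega.NO3S (HypJ HypN Hyp)
open Cfsg.Agent.Omega.NO3S.EThree.Frame
open Cfsg.Agent.Omega.NO3S.EThree.ExactA (NoP eab_iff)
open scoped Pointwise

universe u

variable {G : Type u} [Group G]

namespace FQ

variable [Finite G] {Z U : Fin 2 → Subgroup G} {B : Subgroup G} {q : ℕ} (D : FQ Z U B q)
include D

theorem Uc (i : Fin 2) {x y : G} (hx : x ∈ U i) (hy : y ∈ U i) : x * y = y * x :=
  (mem_centralizer_iff.1 ((eab_iff.1 (D.eU i)).1 hy) x hx)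

theorem Z_bot (i : Fin 2) : Z i ≠ ⊥ := by
  intro e
  obtain ⟨k, hk⟩ := D.pt i
  apply D.ne
  have h5 := congrArg (cj k⁻¹) (hk.symm.trans e)
  have h6 : cj k⁻¹ (MulAut.conj k • Z 0) = Z 0 := cj_inv_cj k (Z 0)
  rw [h6] at h5
  rw [h5]
  exact map_bot _

/-- TI for the point `Z i` and an element -/
theorem ti_mem {i : Fin 2} {g x : G} (hx : x ∈ Z i) (hx1 : x ≠ 1) (h : g * x * g⁻¹ ∈ Z i) : g ∈ normalizer (Z i : Set G) := by
  rw [mem_normalizer_iff_cj]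
  exact D.ti _ _ ((D.pt i).conj g) (D.pt i) (g * x * g⁻¹) ⟨x, hx, rfl⟩ h fun e => hx1 (conj_eq_one_iff.1 e)

/-- vectors outside `Z i` -/
theorem exists_cj {i j : Fin 2} (hij : i ≠ j) {l : G} (h1 : MulAut.conj l • U i = U i)
    (h2 : MulAut.conj l • Z i ⊓ Z i = ⊥) {v : G} (hv : v ∈ U i) (hvZ : v ∉ Z i) :
    ∃ b ∈ B, b ∈ centralizer (U j : Set G) ∧ ∃ z ∈ Z i, z ≠ 1 ∧ v = (b * l) * z * (b * l)⁻¹ := by
  have h3 := D.sup_eq h1 h2
  have hle : cj l (Z i) ≤ U i := by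
    have : cj l (Z i) ≤ cj l (U i) := cj_mono l (D.ZU' i)
    exact this.trans_eq h1
  rw [← h3] at hv
  have hn : MulAut.conj l • Z i ≤ normalizer (Z i : Set G) := fun x hx =>
    centralizer_le_normalizer _ (mem_centralizer_iff.2 fun y hy => D.Uc i (D.ZU' i hy) (hle hx))
  obtain ⟨y, hy, x, hx, rfl⟩ := OM.KTwo.exists_mul_of_mem_sup hn hv
  have hxU : x ∈ U i := hle hx
  have hxZ : x ∉ Z i := fun h => hvZ (mul_mem hy h)
  obtain ⟨b, hb, hbj, e⟩ := D.root i j hij x hxU hxZ y hy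
  obtain ⟨z, hz, rfl⟩ := hx
  refine ⟨b, hb, hbj, z, hz, ?_, ?_⟩
  · rintro rfl
    apply hxZ
    simp
  · have e1 : b * (l * z * l⁻¹) * b⁻¹ = y * (l * z * l⁻¹) := mul_inv_eq_iff_eq_mul.1 e
    calc y * (MulAut.conj l) z = y * (l * z * l⁻¹) := rfl
      _ = b * (l * z * l⁻¹) * b⁻¹ := e1.symm
      _ = (b * l) * z * (b * l)⁻¹ := by group

theorem cov {i j : Fin 2} (hij : i ≠ j) {v : G} (hv : v ∈ U i) :
    ∃ e ∈ normalizer (U i : Set G), ∃ x ∈ Z i, v = e * x * e⁻¹ := by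
  by_cases hvZ : v ∈ Z i
  · exact ⟨1, one_mem _, v, hvZ, by group⟩
  obtain ⟨l, h1, h2, -⟩ := D.mvl i j hij
  obtain ⟨b, hb, -, z, hz, -, e⟩ := D.exists_cj hij h1 h2 hv hvZ
  exact ⟨b * l, mul_mem (D.B_le_NU i hb) (mem_normalizer_iff_cj.2 h1), z, hz, e⟩

theorem ptsW {i j : Fin 2} (hij : i ≠ j) {e : G} (he : e ∈ normalizer (U i : Set G)) :
    ∃ g ∈ normalizer (U i : Set G), g ∈ normalizer ((B ⊓ centralizer (U i : Set G) : Subgroup G) : Set G) ∧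
      g⁻¹ * e ∈ normalizer (Z i : Set G) := by
  by_cases heZ : e ∈ normalizer (Z i : Set G)
  · exact ⟨1, one_mem _, one_mem _, by simpa using heZ⟩
  obtain ⟨l, h1, h2, -, h4, -⟩ := D.mvl i j hij
  obtain ⟨z, hz, hz1⟩ := exists_ne_one' (D.Z_bot i)
  have hv : e * z * e⁻¹ ∈ U i := (mem_normalizer_iff.1 he z).1 (D.ZU' i hz)
  have hvZ : e * z * e⁻¹ ∉ Z i := fun h => heZ (D.ti_mem hz hz1 h)
  obtain ⟨b, hb, -, z', hz', hz1', e1⟩ := D.exists_cj hij h1 h2 hv hvZ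
  refine ⟨b * l, mul_mem (D.B_le_NU i hb) (mem_normalizer_iff_cj.2 h1), ?_, ?_⟩
  · refine mul_mem ?_ (mem_normalizer_iff_cj.2 h4)
    have h5 : B ≤ normalizer (centralizer (U i : Set G) : Set G) := by
      refine (D.B_le_NU i).trans ?_
      exact Cfsg.Agent.Omega.NO3L.LemP.normalizer_le_normalizer_cent _
    exact Cfsg.Agent.Omega.NO3L.LemP.le_normalizer_inf Subgroup.le_normalizer h5 hb
  · refine D.ti_mem hz hz1 ?_
    have e2 : (b * l)⁻¹ * e * z * ((b * l)⁻¹ * e)⁻¹ = (b * l)⁻¹ * (e * z * e⁻¹) * (b * l) := by group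
    rw [e2, e1]
    have e3 : (b * l)⁻¹ * (b * l * z' * (b * l)⁻¹) * (b * l) = z' := by group
    rw [e3]
    exact hz'

/-- **Linearity from TI**: an element of `N(U i)` trivial on `Z i` and on `U i / Z i` acts on `U i` like an element of
`B`. -/
theorem lin {i j : Fin 2} (hij : i ≠ j) {g : G} (hgU : g ∈ normalizer (U i : Set G))
    (hgZ : g ∈ centralizer (Z i : Set G)) (hg : ∀ v ∈ U i, g * v * g⁻¹ * v⁻¹ ∈ Z i) :
    ∃ b ∈ B, b ∈ centralizer (U j : Set G) ∧ ∀ v ∈ U i, g * v * g⁻¹ = b * v * b⁻¹ := by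
  obtain ⟨l, h1, h2, -⟩ := D.mvl i j hij
  have h3 := D.sup_eq h1 h2
  have hle : cj l (Z i) ≤ U i := by
    have : cj l (Z i) ≤ cj l (U i) := cj_mono l (D.ZU' i)
    exact this.trans_eq h1
  obtain ⟨z, hz, hz1⟩ := exists_ne_one' (D.Z_bot i)
  set v₀ := l * z * l⁻¹ with hv₀
  have hv0 : v₀ ∈ U i := hle ⟨z, hz, rfl⟩
  have hv0Z : v₀ ∉ Z i := fun h => by
    have h4 : v₀ ∈ MulAut.conj l • Z i ⊓ Z i := mem_inf.2 ⟨⟨z, hz, rfl⟩, h⟩
    rw [h2, mem_bot] at h4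
    exact hz1 (conj_eq_one_iff.1 h4)
  obtain ⟨b, hb, hbj, e⟩ := D.root i j hij v₀ hv0 hv0Z _ (hg v₀ hv0)
  have e0 : b * v₀ * b⁻¹ = g * v₀ * g⁻¹ := mul_right_cancel e
  -- `k = b⁻¹ g` fixes `v₀`, so normalises the point `Z i ^ l`
  set k := b⁻¹ * g with hk
  have hkv : k * v₀ * k⁻¹ = v₀ := by
    have e1 : k * v₀ * k⁻¹ = b⁻¹ * (g * v₀ * g⁻¹) * b := by rw [hk]; group
    rw [e1, ← e0]; group
  have hkP : cj k (cj l (Z i)) = cj l (Z i) :=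
    D.ti _ _ (((D.pt i).conj l).conj k) ((D.pt i).conj l) v₀ ⟨v₀, ⟨z, hz, rfl⟩, hkv⟩ ⟨z, hz, rfl⟩
      fun e => hz1 (conj_eq_one_iff.1 e)
  have hkx : ∀ v ∈ U i, k * v * k⁻¹ * v⁻¹ ∈ Z i := by
    intro v hv
    have h4 : g * v * g⁻¹ ∈ U i := (mem_normalizer_iff.1 hgU v).1 hv
    have h5 := D.com i b⁻¹ (inv_mem hb) _ h4
    have e1 : k * v * k⁻¹ * v⁻¹ = (b⁻¹ * (g * v * g⁻¹) * b⁻¹⁻¹ * (g * v * g⁻¹)⁻¹) * (g * v * g⁻¹ * v⁻¹) := by
      rw [hk]; group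
    rw [e1]
    exact mul_mem h5 (hg v hv)
  have hkZ : ∀ v ∈ Z i, k * v * k⁻¹ = v := by
    intro v hv
    have h4 := mem_centralizer_iff.1 hgZ v hv
    have h5 := D.cBZ i (inv_mem hb) hv
    have e1 : k * v * k⁻¹ = b⁻¹ * (g * v * g⁻¹) * b := by rw [hk]; group
    rw [e1, ← h4, mul_inv_cancel_right, h5]; group
  have hkl : ∀ v ∈ cj l (Z i), k * v * k⁻¹ = v := by
    intro v hv
    have h4 : k * v * k⁻¹ ∈ cj l (Z i) := by
      rw [← hkP]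
      exact ⟨v, hv, rfl⟩
    have h5 : k * v * k⁻¹ * v⁻¹ ∈ MulAut.conj l • Z i ⊓ Z i :=
      mem_inf.2 ⟨mul_mem h4 (inv_mem hv), hkx v (hle hv)⟩
    rw [h2, mem_bot, mul_inv_eq_one] at h5
    exact h5
  refine ⟨b, hb, hbj, fun v hv => ?_⟩
  have hkv' : k * v * k⁻¹ = v := by
    rw [← h3] at hv
    have h6 : Z i ⊔ MulAut.conj l • Z i ≤ centralizer ({k} : Set G) := by
      refine sup_le (fun x hx => ?_) fun x hx => ?_
      · rw [mem_centralizer_singleton_iff]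
        exact (mul_inv_eq_iff_eq_mul.1 (hkZ x hx)).symm
      · rw [mem_centralizer_singleton_iff]
        exact (mul_inv_eq_iff_eq_mul.1 (hkl x hx)).symm
    have h7 := mem_centralizer_singleton_iff.1 (h6 hv)
    rw [← h7]; group
  have e1 : g * v * g⁻¹ = b * (k * v * k⁻¹) * b⁻¹ := by rw [hk]; group
  rw [e1, hkv']

/-- `K` moves `U i` ⇒ some element of `K` acts on `U i` like an element of `B - C(U i)`. -/
theorem exists_lin {i j : Fin 2} (hij : i ≠ j) {K : Subgroup G} (hKB : B ≤ normalizer (K : Set G))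
    (hKZ : K ≤ centralizer (Z i : Set G)) {s : G} (hs : s ∈ K) (hsU : s ∈ normalizer (U i : Set G))
    (hsc : s ∉ centralizer (U i : Set G)) :
    ∃ s₁ ∈ K, s₁ ∈ normalizer (U i : Set G) ∧ ∃ b ∈ B, b ∉ centralizer (U i : Set G) ∧
      ∀ v ∈ U i, s₁ * v * s₁⁻¹ = b * v * b⁻¹ := by
  have hsU' : ∀ v ∈ U i, s * v * s⁻¹ ∈ U i := fun v hv => (mem_normalizer_iff.1 hsU v).1 hv
  by_cases hlin : ∀ v ∈ U i, s * v * s⁻¹ * v⁻¹ ∈ Z i
  · obtain ⟨b, hb, -, e⟩ := D.lin hij hsU (hKZ hs) hlin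
    refine ⟨s, hs, hsU, b, hb, fun hbc => hsc (mem_centralizer_iff.2 fun v hv => ?_), e⟩
    have h1 := e v hv
    have h2 := mem_centralizer_iff.1 hbc v hv
    rw [← h2, mul_inv_cancel_right] at h1
    exact (mul_inv_eq_iff_eq_mul.1 h1).symm
  · push Not at hlin
    obtain ⟨v, hv, hvZ⟩ := hlin
    -- some `[b, s]` moves `U i`
    obtain ⟨x, hx, hxZ⟩ := D.exists_ne_Z i
    obtain ⟨z, hz, hz1⟩ := exists_ne_one' (D.Z_bot i)
    obtain ⟨b, hb, -, e⟩ := D.root i j hij x hx hxZ z hz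
    have hbc : b ∉ centralizer (U i : Set G) := fun h => hz1 (by
      rw [← e, ← mem_centralizer_iff.1 h x hx]; group)
    have hbU := D.B_le_NU i hb
    have h1 : b * s * b⁻¹ * s⁻¹ ∈ K := mul_mem ((mem_normalizer_iff.1 (hKB hb) s).1 hs) (inv_mem hs)
    have h2 : b * s * b⁻¹ * s⁻¹ ∈ normalizer (U i : Set G) :=
      mul_mem (mul_mem (mul_mem hbU hsU) (inv_mem hbU)) (inv_mem hsU)
    have h3 : ∀ w ∈ U i, (b * s * b⁻¹ * s⁻¹) * w * (b * s * b⁻¹ * s⁻¹)⁻¹ * w⁻¹ ∈ Z i := by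
      intro w hw
      -- `w₁ = s⁻¹ w s`
      have hw1 : s⁻¹ * w * s ∈ U i := (mem_normalizer_iff''.1 hsU w).1 hw
      have h4 := D.com i b⁻¹ (inv_mem hb) _ hw1
      set c := b⁻¹ * (s⁻¹ * w * s) * b⁻¹⁻¹ * (s⁻¹ * w * s)⁻¹ with hc
      have hcs : s * c * s⁻¹ = c := by
        rw [← mem_centralizer_iff.1 (hKZ hs) c h4, mul_inv_cancel_right]
      have h5 := D.com i b hb w hw
      have e1 : (b * s * b⁻¹ * s⁻¹) * w * (b * s * b⁻¹ * s⁻¹)⁻¹ * w⁻¹ =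
          b * (s * c * s⁻¹) * b⁻¹ * (b * w * b⁻¹ * w⁻¹) := by rw [hc]; group
      rw [e1, hcs, D.cBZ i hb h4, mul_inv_cancel_right]
      exact mul_mem h4 h5
    obtain ⟨b', hb', -, e'⟩ := D.lin hij h2 (hKZ h1) h3
    refine ⟨_, h1, h2, b', hb', fun hbc' => ?_, e'⟩
    -- then `[b, v ^ s v⁻¹] = 1`
    apply hvZ
    by_contra hne
    apply hbc
    refine D.free i b hb (s * v * s⁻¹ * v⁻¹) (mul_mem (hsU' v hv) (inv_mem hv)) hne ?_
    have h6 : ∀ w ∈ U i, (b * s * b⁻¹ * s⁻¹) * w * (b * s * b⁻¹ * s⁻¹)⁻¹ = w := by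
      intro w hw
      rw [e' w hw, ← mem_centralizer_iff.1 hbc' w hw, mul_inv_cancel_right]
    -- `b (s v s⁻¹) b⁻¹ = s (b v b⁻¹) s⁻¹`
    have h7 : b * (s * v * s⁻¹) * b⁻¹ = s * (b * v * b⁻¹) * s⁻¹ := by
      have h8 := h6 (s * (b * v * b⁻¹) * s⁻¹) (hsU' _ ((mem_normalizer_iff.1 hbU v).1 hv))
      rw [← h8]; group
    have h9 := D.com i b hb v hv
    have h10 : s * (b * v * b⁻¹ * v⁻¹) * s⁻¹ = b * v * b⁻¹ * v⁻¹ := by
      rw [← mem_centralizer_iff.1 (hKZ hs) _ h9, mul_inv_cancel_right]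
    have e1 : b * (s * v * s⁻¹ * v⁻¹) * b⁻¹ = (b * (s * v * s⁻¹) * b⁻¹) * (b * v * b⁻¹)⁻¹ := by group
    have e2 : s * (b * v * b⁻¹) * s⁻¹ = (s * (b * v * b⁻¹ * v⁻¹) * s⁻¹) * (s * v * s⁻¹) := by group
    have h11 : b * (s * v * s⁻¹ * v⁻¹) * b⁻¹ = s * v * s⁻¹ * v⁻¹ := by
      rw [e1, h7, e2, h10]
      have hcm : (b * v * b⁻¹ * v⁻¹) * (s * v * s⁻¹) = (s * v * s⁻¹) * (b * v * b⁻¹ * v⁻¹) :=
        D.Uc i (D.ZU' i h9) (hsU' v hv)
      have hcm2 : v * (b * v * b⁻¹)⁻¹ = (b * v * b⁻¹)⁻¹ * v :=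
        D.Uc i hv (inv_mem ((mem_normalizer_iff.1 hbU v).1 hv))
      rw [hcm]
      calc s * v * s⁻¹ * (b * v * b⁻¹ * v⁻¹) * (b * v * b⁻¹)⁻¹
          = s * v * s⁻¹ * v⁻¹ * ((v * (b * v * b⁻¹) * v⁻¹) * (b * v * b⁻¹)⁻¹) := by group
        _ = s * v * s⁻¹ * v⁻¹ := by
          rw [D.Uc i hv ((mem_normalizer_iff.1 hbU v).1 hv)]; group
    exact mul_inv_eq_iff_eq_mul.1 h11

end FQ

namespace BgQ

/-- the torus relation: `h` normalises `W`, `Z`, `[b, w^h] = [b, w]^(h⁻¹)` -/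
structure Rel (B W Z : Subgroup G) (h : G) : Prop where
  nW : h ∈ normalizer (W : Set G)
  nZ : h ∈ normalizer (Z : Set G)
  rel : ∀ b ∈ B, ∀ w ∈ W, b * (h * w * h⁻¹) * b⁻¹ * (h * w * h⁻¹)⁻¹ = h⁻¹ * (b * w * b⁻¹ * w⁻¹) * h

theorem Rel.pow {B W Z : Subgroup G} {h : G} (hh : Rel B W Z h) (m : ℕ) : Rel B W Z (h ^ m) := by
  induction m with
  | zero => exact ⟨by simp, by simp, fun b _ w _ => by simp⟩
  | succ m ih =>
    refine ⟨pow_mem hh.nW _, pow_mem hh.nZ _, fun b hb w hw => ?_⟩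
    have h1 : h ^ m * w * (h ^ m)⁻¹ ∈ W := (mem_normalizer_iff.1 ih.nW w).1 hw
    have h2 := hh.rel b hb _ h1
    have h3 := ih.rel b hb w hw
    have e1 : h ^ (m + 1) * w * (h ^ (m + 1))⁻¹ = h * (h ^ m * w * (h ^ m)⁻¹) * h⁻¹ := by
      rw [pow_succ']; group
    have e2 : (h ^ (m + 1))⁻¹ * (b * w * b⁻¹ * w⁻¹) * h ^ (m + 1) =
        h⁻¹ * ((h ^ m)⁻¹ * (b * w * b⁻¹ * w⁻¹) * h ^ m) * h := by
      rw [pow_succ]; group
    rw [e1, e2, h2, h3]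

variable [Finite G] {S : Sylow 2 G} {P B ZJ : Subgroup G} {L W Z C : Fin 2 → Subgroup G} {q : ℕ}
  (h : Bg S P B ZJ L W Z C q)
include h

theorem comm_congr {i : Fin 2} {b x y : G} (hb : b ∈ B) (hx : x ∈ Z i) (hy : y ∈ W i) :
    b * (x * y) * b⁻¹ * (x * y)⁻¹ = b * y * b⁻¹ * y⁻¹ := by
  have h1 := (h.fr.blk i).cZ b hb x hx
  have h2 := (h.fr.blk i).com b hb y hy
  have h3 : x * (b * y * b⁻¹ * y⁻¹) = (b * y * b⁻¹ * y⁻¹) * x :=
    h.fr.Vc (h.fr.ZV i hx) (h.fr.ZV i h2)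
  calc b * (x * y) * b⁻¹ * (x * y)⁻¹ = (b * x) * (y * b⁻¹ * y⁻¹) * x⁻¹ := by group
    _ = x * (b * y * b⁻¹ * y⁻¹) * x⁻¹ := by rw [h1]; group
    _ = b * y * b⁻¹ * y⁻¹ := by rw [h3, mul_inv_cancel_right]

/-- a torus element which fixes one vector of `Z i` centralises `Z i` -/
theorem fix_one {i : Fin 2} {g z₀ : G} (hg : Rel B (W i) (Z i) g) (hz₀ : z₀ ∈ Z i) (hz1 : z₀ ≠ 1)
    (hfix : g⁻¹ * z₀ * g = z₀) {z : G} (hz : z ∈ Z i) : g⁻¹ * z * g = z := by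
  obtain ⟨v, hv, hvZ⟩ : ∃ v ∈ W i, v ∉ Z i := by
    obtain ⟨b, hb, w, hw, hne⟩ := (h.fr.blk i).ne
    exact ⟨w, hw, fun hc => hne ((h.fr.blk i).cZ b hb w hc)⟩
  obtain ⟨b₀, hb₀, -, e₀⟩ := h.root i v hv hvZ z₀ hz₀
  obtain ⟨b, hb, -, e⟩ := h.root i v hv hvZ z hz
  have hgv : g * v * g⁻¹ ∈ W i := (mem_normalizer_iff.1 hg.nW v).1 hv
  have h1 := hg.rel b₀ hb₀ v hv
  rw [e₀, hfix, ← e₀] at h1
  -- `x = v^g v⁻¹ ∈ Z i`
  set x := g * v * g⁻¹ * v⁻¹ with hx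
  have hxW : x ∈ W i := mul_mem hgv (inv_mem hv)
  have hxv : g * v * g⁻¹ = x * v := by rw [hx]; group
  have hxZ : x ∈ Z i := by
    by_contra hxZ
    have h2 : b₀ * x = x * b₀ := by
      rw [hxv] at h1
      have c1 : x * v = v * x := h.fr.Vc (h.fr.WV i hxW) (h.fr.WV i hv)
      have h3 : b₀ * (x * v) * b₀⁻¹ * (x * v)⁻¹ = (b₀ * x * b₀⁻¹ * x⁻¹) * (b₀ * v * b₀⁻¹ * v⁻¹) := by
        have h4 := (h.fr.blk i).com b₀ hb₀ v hv
        have h5 : x⁻¹ * (b₀ * v * b₀⁻¹ * v⁻¹) = (b₀ * v * b₀⁻¹ * v⁻¹) * x⁻¹ :=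
          h.fr.Vc (h.fr.WV i (inv_mem hxW)) (h.fr.ZV i h4)
        calc b₀ * (x * v) * b₀⁻¹ * (x * v)⁻¹ = b₀ * x * b₀⁻¹ * ((b₀ * v * b₀⁻¹ * v⁻¹) * x⁻¹) := by group
          _ = b₀ * x * b₀⁻¹ * (x⁻¹ * (b₀ * v * b₀⁻¹ * v⁻¹)) := by rw [h5]
          _ = _ := by group
      rw [h3] at h1
      have h6 : b₀ * x * b₀⁻¹ * x⁻¹ = 1 := by
        have := mul_right_cancel (h1.trans (one_mul _).symm)
        exact this
      exact mul_inv_eq_iff_eq_mul.1 (mul_inv_eq_one.1 h6)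
    have h3 := (h.fr.blk i).free b₀ hb₀ x hxW hxZ h2 v hv
    apply hz1
    rw [← e₀, h3]; group
  have h2 := hg.rel b hb v hv
  rw [hxv, comm_congr h hb hxZ hv, e] at h2
  exact h2.symm

/-- the torus relation with a prescribed action on `Z i` -/
theorem torR {i j : Fin 2} (hij : i ≠ j) {z z' : G} (hz : z ∈ Z i) (hz1 : z ≠ 1) (hz' : z' ∈ Z i) (hz1' : z' ≠ 1) :
    ∃ t : G, Rel B (W i) (Z i) t ∧ t ∈ centralizer (W j : Set G) ∧ t⁻¹ * z * t = z' := by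
  rcases Nat.lt_or_ge 2 q with hq | hq
  · obtain ⟨v, hv, hvZ⟩ : ∃ v ∈ W i, v ∉ Z i := by
      obtain ⟨b, hb, w, hw, hne⟩ := (h.fr.blk i).ne
      exact ⟨w, hw, fun hc => hne ((h.fr.blk i).cZ b hb w hc)⟩
    obtain ⟨b, hb, -, e⟩ := h.root i v hv hvZ z hz
    -- `[b, v'] = z'`
    have hsurj : ∃ v' ∈ W i, v' ∉ Z i ∧ b * v' * b⁻¹ * v'⁻¹ = z' := by
      have hbW : ∀ w ∈ W i, b * w * b⁻¹ * w⁻¹ ∈ Z i := fun w hw => (h.fr.blk i).com b hb w hw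
      have hcomm : ∀ x ∈ W i, ∀ y ∈ W i, x * y = y * x := fun x hx y hy => h.fr.Vc (h.fr.WV i hx) (h.fr.WV i hy)
      let f : W i →* Z i :=
        { toFun := fun w => ⟨b * w * b⁻¹ * (w : G)⁻¹, hbW w w.2⟩
          map_one' := Subtype.ext (by simp)
          map_mul' := fun x y => Subtype.ext (by
            change b * ((x : G) * y) * b⁻¹ * ((x : G) * y)⁻¹ = b * x * b⁻¹ * (x : G)⁻¹ * (b * y * b⁻¹ * (y : G)⁻¹)
            have h1 := hcomm (x : G)⁻¹ (inv_mem x.2) (b * y * b⁻¹ * (y : G)⁻¹) ((h.fr.blk i).ZV (hbW y y.2))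
            calc b * ((x : G) * y) * b⁻¹ * ((x : G) * y)⁻¹
                = b * x * b⁻¹ * ((b * y * b⁻¹ * (y : G)⁻¹) * (x : G)⁻¹) := by group
              _ = b * x * b⁻¹ * ((x : G)⁻¹ * (b * y * b⁻¹ * (y : G)⁻¹)) := by rw [h1]
              _ = _ := by group) }
      have hker : f.ker = (Z i).subgroupOf (W i) := by
        ext x
        rw [MonoidHom.mem_ker, mem_subgroupOf]
        constructor
        · intro hx
          by_contra hxZ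
          have h1 : b * (x : G) * b⁻¹ * (x : G)⁻¹ = 1 := congrArg Subtype.val hx
          have h2 : b * (x : G) = x * b := by
            have := mul_inv_eq_one.1 h1
            exact mul_inv_eq_iff_eq_mul.1 this
          have h3 := (h.fr.blk i).free b hb x x.2 hxZ h2 v hv
          apply hz1
          rw [← e, h3]; group
        · intro hx
          refine Subtype.ext ?_
          change b * (x : G) * b⁻¹ * (x : G)⁻¹ = 1
          rw [(h.fr.blk i).cZ b hb x hx]; group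
      have hcard : Nat.card f.range = Nat.card (Z i) := by
        have h1 := Subgroup.card_mul_index f.ker
        rw [Subgroup.index_ker] at h1
        rw [hker, Nat.card_congr (Subgroup.subgroupOfEquivOfLe (h.fr.blk i).ZV).toEquiv, (h.fr.blk i).card,
          h.fr.cardZ i] at h1
        rw [h.fr.cardZ i]
        exact Nat.eq_of_mul_eq_mul_left (by have := (h.fr.blk i).one; omega) h1
      have htop : f.range = ⊤ := Subgroup.eq_top_of_card_eq _ hcard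
      have hz'' : (⟨z', hz'⟩ : Z i) ∈ f.range := by rw [htop]; exact mem_top _
      obtain ⟨x, hx⟩ := hz''
      have hx' : b * (x : G) * b⁻¹ * (x : G)⁻¹ = z' := congrArg Subtype.val hx
      refine ⟨x, x.2, fun hc => hz1' ?_, hx'⟩
      rw [← hx', (h.fr.blk i).cZ b hb x hc]; group
    obtain ⟨v', hv', hvZ', e'⟩ := hsurj
    obtain ⟨t, htP, htC, htZ, ht, htv, -⟩ := (h.scal hq i).ex v hv hvZ v' hv' hvZ'
    have h1 := ht b hb v hv
    have h2 : t * v * t⁻¹ = (v'⁻¹ * (t * v * t⁻¹)) * v' := by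
      have h3 : t * v * t⁻¹ ∈ W i := by
        have h4 := h.fix htP htC i
        rw [← h4]
        exact ⟨v, hv, rfl⟩
      have h5 : v'⁻¹ * (t * v * t⁻¹) = (t * v * t⁻¹) * v'⁻¹ :=
        h.fr.Vc (h.fr.WV i (inv_mem hv')) (h.fr.WV i h3)
      rw [h5]; group
    rw [h2, comm_congr h hb htv hv', e', e] at h1
    refine ⟨t, ⟨mem_normalizer_iff_cj.2 (h.fix htP htC i), htZ, ht⟩, ?_, h1.symm⟩
    rw [← C_eq_W h hij]
    exact htC
  · have hq2 : q = 2 := le_antisymm hq (h.fr.blk i).one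
    have h2 : Nat.card (Z i) = 2 := by rw [h.fr.cardZ i, hq2]
    obtain ⟨c, hc, hcu⟩ := (Nat.card_eq_two_iff' (1 : Z i)).1 h2
    have hall : ∀ x ∈ Z i, x ≠ 1 → x = (c : G) := fun x hx e =>
      congrArg Subtype.val (hcu ⟨x, hx⟩ fun e' => e (congrArg Subtype.val e'))
    exact ⟨1, ⟨one_mem _, one_mem _, fun b _ w _ => by simp⟩, one_mem _, by
      rw [hall z hz hz1, hall z' hz' hz1']; group⟩

/-- the square root of a torus element on `Z i` -/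
theorem torS {i : Fin 2} {t : G} (ht : Rel B (W i) (Z i) t) :
    ∃ k : ℕ, ∀ z ∈ Z i, (t ^ k)⁻¹ * ((t ^ k)⁻¹ * z * t ^ k) * t ^ k = t⁻¹ * z * t := by
  have : Fact (Nat.Prime 2) := ⟨Nat.prime_two⟩
  obtain ⟨a, m, hm, ho⟩ := Nat.exists_eq_two_pow_mul_odd (orderOf_pos t).ne'
  -- `g = t ^ m` is a 2-element
  have hg := ht.pow m
  have hg2 : IsPGroup 2 (zpowers (t ^ m)) := by
    have h1 : (t ^ m) ^ 2 ^ a = 1 := by
      rw [← pow_mul, mul_comm, ← ho, pow_orderOf_eq_one]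
    intro x
    obtain ⟨x, hx⟩ := x
    obtain ⟨n, rfl⟩ := mem_zpowers_iff.1 hx
    refine ⟨a, Subtype.ext ?_⟩
    change ((t ^ m) ^ n) ^ 2 ^ a = 1
    rw [← zpow_natCast, ← zpow_mul, mul_comm, zpow_mul, zpow_natCast, h1, one_zpow]
  have hgn : zpowers (t ^ m) ≤ normalizer (Z i : Set G) := by
    rw [zpowers_le]; exact hg.nZ
  have hbot : ∀ X : Subgroup G, X ≤ normalizer ((⊥ : Subgroup G) : Set G) := fun X => by
    rw [normalizer_eq_top]; exact le_top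
  obtain ⟨z₀, hz₀, hz1, hfix⟩ := IId.SideOf.exists_fixed_mod (A := ⊥) (B := Z i) (T := zpowers (t ^ m))
      (fun hc => h.Z_ne i (le_bot_iff.1 hc)) (hbot _) (h.Z_two i) hg2 (hbot _) hgn
  rw [mem_bot] at hz1
  have hfix' : (t ^ m)⁻¹ * z₀ * t ^ m = z₀ := by
    have h1 := hfix (t ^ m)⁻¹ (inv_mem (mem_zpowers _))
    rw [mem_bot, inv_inv, mul_inv_eq_one] at h1
    exact h1
  obtain ⟨k, hk⟩ := hm
  refine ⟨k + 1, fun z hz => ?_⟩
  have hz' : t⁻¹ * z * t ∈ Z i := (mem_normalizer_iff''.1 ht.nZ z).1 hz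
  have h3 := fix_one h hg hz₀ hz1 hfix' hz'
  rw [← h3]
  have e1 : t ^ m = t ^ k * t ^ k * t := by
    rw [hk, two_mul, pow_succ, pow_add]
  rw [e1, pow_succ]
  have c2 : t ^ k * t * (t ^ k * t) = t * (t ^ k * t ^ k * t) := by
    rw [← pow_succ, ← pow_add, ← pow_add, ← pow_succ, ← pow_succ']
    congr 1
    omega
  calc (t ^ k * t)⁻¹ * ((t ^ k * t)⁻¹ * z * (t ^ k * t)) * (t ^ k * t)
      = (t ^ k * t * (t ^ k * t))⁻¹ * z * (t ^ k * t * (t ^ k * t)) := by group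
    _ = (t * (t ^ k * t ^ k * t))⁻¹ * z * (t * (t ^ k * t ^ k * t)) := by rw [c2]
    _ = _ := by group

/-- **`K` induces the full root group.** -/
theorem root_of (hTI : TI (Z 0)) (hnl : NonLoc (normalizer (Z 0 : Set G)) (normalizer (Z 1 : Set G)))
    {i j : Fin 2} (hij : i ≠ j) {K : Subgroup G} (hKn : HH (Z i) ≤ normalizer (K : Set G))
    (hKZ : K ≤ centralizer (Z i : Set G))
    (hs : ∃ s ∈ K, s ∈ normalizer (W i : Set G) ∧ s ∉ centralizer (W i : Set G)) :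
    ∀ v ∈ W i, v ∉ Z i → ∀ z ∈ Z i, ∃ s ∈ K, s ∈ normalizer (W i : Set G) ∧ s * v * s⁻¹ * v⁻¹ = z := by
  have D := FQ.of_bg h hTI hnl
  intro v hv hvZ z hz
  by_cases hz1 : z = 1
  · exact ⟨1, one_mem _, one_mem _, by rw [hz1]; group⟩
  obtain ⟨s, hsK, hsW, hsc⟩ := hs
  obtain ⟨s₁, hs₁, hs₁W, b, hb, hbc, e⟩ := D.exists_lin hij ((D.B_le_HH i).trans hKn) hKZ hsK hsW hsc
  have hzv : b * v * b⁻¹ * v⁻¹ ∈ Z i := D.com i b hb v hv
  have hzv1 : b * v * b⁻¹ * v⁻¹ ≠ 1 := fun h1 =>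
    hbc (D.free i b hb v hv hvZ (mul_inv_eq_iff_eq_mul.1 (mul_inv_eq_one.1 h1)))
  obtain ⟨t, ht, -, et⟩ := torR h hij hzv hzv1 hz hz1
  obtain ⟨k, hk⟩ := torS h ht
  have hk' := ht.pow k
  set g := t ^ k with hg
  refine ⟨g⁻¹ * s₁ * g, (mem_normalizer_iff''.1 (hKn hk'.nZ) s₁).1 hs₁,
    mul_mem (mul_mem (inv_mem hk'.nW) hs₁W) hk'.nW, ?_⟩
  have hgv : g * v * g⁻¹ ∈ W i := (mem_normalizer_iff.1 hk'.nW v).1 hv
  have e1 : g⁻¹ * s₁ * g * v * (g⁻¹ * s₁ * g)⁻¹ * v⁻¹ =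
      g⁻¹ * ((s₁ * (g * v * g⁻¹) * s₁⁻¹) * (g * v * g⁻¹)⁻¹) * g := by group
  rw [e1, e _ hgv, hk'.rel b hb v hv, hk _ hzv, et]

end BgQ

end Cfsg.Agent.Omega.NO3S.EThree
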