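import Cfsg.Agent.Omega.NO3S.EThree.FrameB
import Cfsg.Agent.Omega.OM.PG.Exact
import Cfsg.Agent.Omega.ML.Final

/-!
# The plug of `OM/PG/Peel` and `OM/PG/Exact` into the frame of NO-3S, case (E), `q = 2`

Over `EThree.Frame.Bs` (`q = 2`) and a partner pair `Pa`:
* `Bs.noP` : `(NO)` for `Q_a` on `N_u`, from `ML.Final.MLK`;
* `Bs.XW_le`, `Bs.XW_eab` : `X_a = W_a N_a ≤ O₂(N_G(Z i))` is elementary abelian;
* `Bs.far` : `Peel.far`; `Bs.dist_one` : `PG.dist_one`.
-/

set_option autoImplicit false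
set_option linter.unusedSectionVars false

namespace Cfsg.Agent.Omega.NO3S.EThree.Frame

open Subgroup Cfsg Cfsg.Agent.ZN.ChoiceBase
open Cfsg.Agent.ZN (jj zj bau zc zl o2)
open Cfsg.Agent.ZN.ChoiceSit (Syl exists_syl syl_conj syl_not_dvd)
open Cfsg.Agent.Omega.OM Cfsg.Agent.Omega.OM.Uni
open Cfsg.Agent.Omega.OM.PG
open Cfsg.Agent.Omega.NO3S.EThree.ExactA (NoP eab_iff)
open Cfsg.Agent.Omega.MinPar (NonLoc)
open Cfsg.Agent.Omega.NoFF.Basic (conj_conj)
open scoped Pointwise commutatorElement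

universe u

variable {G : Type u} [Group G]

namespace Bs

section A

variable [Finite G] {S : Sylow 2 G} {P : Subgroup G} {ι : Type} {L W Z C A : ι → Subgroup G} {m : ℕ}
  (h : Bs S P L W Z C A 2 m) {i j : ι} {s : G} (p : Pa (S : Subgroup G) W i j s)

include h

/-- `|Z i| = 2` is central in its normaliser. -/
theorem Z_cent {i : ι} {g z : G} (hg : g ∈ normalizer (Z i : Set G)) (hz : z ∈ Z i) : g * z * g⁻¹ = z := by
  have h2 : Nat.card (Z i) = 2 := h.fr.cardZ i
  obtain ⟨c, hc, hcu⟩ := (Nat.card_eq_two_iff' (1 : Z i)).1 h2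
  have hall : ∀ x ∈ Z i, x ≠ 1 → x = (c : G) := fun x hx e =>
    congrArg Subtype.val (hcu ⟨x, hx⟩ fun e' => e (congrArg Subtype.val e'))
  by_cases hz1 : z = 1
  · rw [hz1, mul_one, mul_inv_cancel]
  · have h3 : g * z * g⁻¹ ∈ Z i := (mem_normalizer_iff.1 hg z).1 hz
    rw [hall _ h3 (fun e => hz1 (conj_eq_one_iff.1 e)), hall z hz hz1]

theorem ne_top (hnl : NonLoc (normalizer (Z i : Set G)) (normalizer (Z j : Set G))) :
    normalizer (Z j : Set G) ≠ ⊤ := fun e =>
  h.Z_ne j (hnl (Z j) (h.Z_two j) (e ▸ le_top) le_rfl)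

include p

/-- `(NO)` for `Q_1` on `N_2` -/
theorem noP0 [Finite ι] (hML : ML.Final.MLK.{u, u})
    (hnl : NonLoc (normalizer (Z i : Set G)) (normalizer (Z j : Set G))) {B : Subgroup G}
    (hB : IsElementaryAbelian 2 B) (hBQ : B ≤ o2 (normalizer (Z i : Set G))) :
    (centralizer (NN ![Z i, Z j] (Z j) : Set G)).relIndex B ≤
      (centralizer (B : Set G)).relIndex (NN ![Z i, Z j] (Z j)) := by
  have PP' := h.toPP p (TI.of_card (h.fr.cardZ i)) hnl
  set Z' : Fin 2 → Subgroup G := ![Z i, Z j] with hZ'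
  have hA : Adj Z' (Z i) (Z j) := ⟨1, by rw [map_one, one_smul]; rfl, by rw [map_one, one_smul]; rfl⟩
  have hA' : Adj Z' (Z j) (Z i) := PP'.adj_symm hA
  have hjp : IsPt Z' (Z j) := hA'.pt
  set N : Subgroup G := NN Z' (Z j) with hN
  obtain ⟨z, hz, hz1⟩ : ∃ x ∈ Z i, x ≠ 1 := by
    by_contra hcon
    push Not at hcon
    exact h.Z_ne i ((eq_bot_iff_forall _).2 hcon)
  have hZz : ∀ x ∈ Z i, x = 1 ∨ x = z := by
    intro x hx
    have h2 : Nat.card (Z i) = 2 := h.fr.cardZ i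
    obtain ⟨c, hc, hcu⟩ := (Nat.card_eq_two_iff' (1 : Z i)).1 h2
    have hall : ∀ x ∈ Z i, x ≠ 1 → x = (c : G) := fun x hx e =>
      congrArg Subtype.val (hcu ⟨x, hx⟩ fun e' => e (congrArg Subtype.val e'))
    by_cases hx1 : x = 1
    · exact Or.inl hx1
    · exact Or.inr ((hall x hx hx1).trans (hall z hz hz1).symm)
  have hnormz : ∀ g : G, g * z * g⁻¹ = z → g ∈ normalizer (Z i : Set G) := by
    intro g hg
    refine centralizer_le_normalizer _ (mem_centralizer_iff.2 fun x hx => ?_)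
    rcases hZz x hx with rfl | rfl
    · rw [one_mul, mul_one]
    · calc x * g = (g * x * g⁻¹) * g := by rw [hg]
        _ = g * x := by group
  have hNab : N ≤ centralizer (N : Set G) := PP'.NN_comm hjp
  have hNQ : N ≤ centralizer (o2 (normalizer (Z j : Set G)) : Set G) := by
    rw [le_centralizer_iff]
    exact PP'.QQ_le_cent hjp
  have hNsq : ∀ x ∈ N, x ^ 2 = 1 := by
    refine NoFF.Lines.Geo.sq_of_comm hNab (ι := {u : Subgroup G // Adj Z' (Z j) u})
      (B := fun u => (u : Subgroup G)) (fun u => u.2.le_NN) ?_ fun u => PP'.ZsqConj (PP'.adj_pt u.2)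
    exact sSup_le fun u hu => le_iSup (fun u : {u : Subgroup G // Adj Z' (Z j) u} => (u : Subgroup G)) ⟨u, hu⟩
  have hbot : normalizer ((⊥ : Subgroup G) : Set G) = ⊤ := normalizer_eq_top _
  have key := hML.grp (h.hyp.ctx.kproper _ (h.ne_top hnl))
    (C := normalizer (Z j : Set G)) (W := N) (Y := ⊥)
    (T := (S : Subgroup G) ⊓ normalizer (Z j : Set G)) (Q := o2 (normalizer (Z i : Set G))) (A := B) (w := z)
    { nW := PG.PP.HH_le_NN (Z j)
      nY := by rw [hbot]; exact le_top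
      YW := bot_le
      WY := by rw [hbot]; exact le_top
      sq := fun x hx => by rw [← pow_two, hNsq x hx]; exact one_mem _
      mem := hA'.le_NN hz
      gen := by
        intro Y hzY _ hCY
        have hiY : Z i ≤ Y := fun x hx => by
          rcases hZz x hx with rfl | rfl
          · exact one_mem _
          · exact hzY
        refine sSup_le ?_
        rintro u ⟨k, hk, rfl⟩
        obtain ⟨t, ht0, ht1, -, -⟩ := PP'.swap
        have e1 : MulAut.conj k • Z' 1 = MulAut.conj (k * t) • Z i := by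
          rw [← conj_conj]
          exact congrArg _ ht0.symm
        have e2 : MulAut.conj (k * t) • Z j = Z j := by
          rw [← conj_conj]
          exact (congrArg (fun X => MulAut.conj k • X) ht1).trans hk.symm
        have h3 : k * t ∈ normalizer (Z j : Set G) := mem_normalizer_iff_cj.2 e2
        rw [e1]
        have h4 := cj_mono (k * t) hiY
        rwa [cj_eq_of_mem_normalizer (hCY h3)] at h4
      TC := inf_le_right
      two := S.isPGroup'.to_le inf_le_left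
      odd := syl_not_dvd (h.syl j)
      fixT := fun t ht => by
        rw [h.T_eq p] at ht
        rw [h.Z_cent ht.2 hz, mul_inv_cancel]
        exact one_mem _
      QC := PP'.QQ_le_HH hA'
      Q2 := MinSimple.VModule.o2_isPGroup _
      fixQ := fun q hq => by
        rw [h.Z_cent (MinSimple.VModule.o2_le _ hq) hz, mul_inv_cancel]
        exact one_mem _
      nrmQ := fun g _ hg q hq => by
        have h1 : g * z * g⁻¹ = z := mul_inv_eq_one.1 (mem_bot.1 hg)
        exact (mem_normalizer_iff.1 (MinSimple.VModule.le_normalizer_o2 _ (hnormz g h1)) q).1 hq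
      AQ := hBQ
      Asq := fun a ha x hx => by
        have h1 : a ^ 2 = 1 := hB.2 a ha
        have e : a * (a * x * a⁻¹) * a⁻¹ * x⁻¹ = (a ^ 2) * x * (a ^ 2)⁻¹ * x⁻¹ := by simp [pow_two, mul_assoc]
        rw [e, h1]
        simp }
    (KA := B ⊓ centralizer (N : Set G)) (CW := N ⊓ centralizer (B : Set G))
    (fun a => by
      rw [mem_inf, mem_centralizer_iff]
      refine and_congr_right fun _ => forall₂_congr fun x _ => ?_
      rw [mem_bot, mul_inv_eq_one, mul_inv_eq_iff_eq_mul]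
      exact eq_comm)
    (fun x => by
      rw [mem_inf, mem_centralizer_iff]
      refine and_congr_right fun _ => forall₂_congr fun a _ => ?_
      rw [mem_bot, mul_inv_eq_one, mul_inv_eq_iff_eq_mul])
  rwa [inf_relIndex_left, inf_relIndex_left] at key

/-- **`(NO)` over the frame.** -/
theorem noP [Finite ι] (hML : ML.Final.MLK.{u, u})
    (hnl : NonLoc (normalizer (Z i : Set G)) (normalizer (Z j : Set G))) : NoP ![Z i, Z j] := by
  rintro _ _ ⟨k, rfl, rfl⟩ B hB hBQ
  obtain ⟨B₀, rfl⟩ : ∃ B₀ : Subgroup G, B = MulAut.conj k • B₀ := ⟨MulAut.conj k⁻¹ • B, by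
    rw [conj_inv_conj]⟩
  have hB0 : IsElementaryAbelian 2 B₀ := by
    have h1 := Peel.eab_conj hB k⁻¹
    rwa [inv_conj_conj] at h1
  have hBQ0 : B₀ ≤ o2 (normalizer (Z i : Set G)) := by
    rw [QQ_conj] at hBQ
    exact (Cfsg.Agent.Omega.NoFF.Basic.conj_le_iff).1 hBQ
  have key := h.noP0 p hML hnl hB0 hBQ0
  rw [NN_conj]
  have e1 : centralizer ((MulAut.conj k • NN ![Z i, Z j] (![Z i, Z j] 1) : Subgroup G) : Set G) =
      MulAut.conj k • centralizer (NN ![Z i, Z j] (![Z i, Z j] 1) : Set G) :=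
    (cj_centralizer k _).symm
  have e2 : centralizer ((MulAut.conj k • B₀ : Subgroup G) : Set G) = MulAut.conj k • centralizer (B₀ : Set G) :=
    (cj_centralizer k _).symm
  rw [e1, e2, relIndex_pointwise_smul, relIndex_pointwise_smul]
  exact key

/-- `X_1 = W_1 N_1` lies in `⟨V_P ^ N_G(Z i)⟩`. -/
theorem XW_le_V [Finite ι] : Peel.XW ![Z i, Z j] ![W i, W j] (Z i) ≤
    ⨆ k : normalizer (Z i : Set G), cj (k : G) (zl (S : Subgroup G) P) := by
  refine sup_le (sSup_le ?_) (iSup_le ?_)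
  · rintro u ⟨k, hk, rfl⟩
    have hk' : k ∈ normalizer (Z i : Set G) := mem_normalizer_iff_cj.2 hk.symm
    exact (cj_mono k (h.fr.ZV j |> fun h1 => h1)).trans
      (le_iSup (fun k : normalizer (Z i : Set G) => cj (k : G) (zl (S : Subgroup G) P)) ⟨k, hk'⟩)
  · rintro ⟨l, k, hk, rfl⟩
    have hk' : k ∈ normalizer (Z i : Set G) := mem_normalizer_iff_cj.2 hk.symm
    exact (cj_mono k (h.fr.WV i)).trans
      (le_iSup (fun k : normalizer (Z i : Set G) => cj (k : G) (zl (S : Subgroup G) P)) ⟨k, hk'⟩)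

theorem XW_le [Finite ι] : Peel.XW ![Z i, Z j] ![W i, W j] (Z i) ≤ QQ (Z i) := by
  refine (h.XW_le_V p).trans (iSup_le fun k => ?_)
  have h1 := cj_mono (k : G) (h.V_le i)
  rwa [cj_eq_of_mem_normalizer (MinSimple.VModule.le_normalizer_o2 _ k.2)] at h1

theorem XW_eab [Finite ι] : IsElementaryAbelian 2 (Peel.XW ![Z i, Z j] ![W i, W j] (Z i)) := by
  rw [eab_iff]
  set M : Subgroup G := ⨆ k : normalizer (Z i : Set G), cj (k : G) (zl (S : Subgroup G) P) with hM
  have hab : M ≤ centralizer (M : Set G) := by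
    refine iSup_le fun k => ?_
    rw [le_centralizer_iff]
    refine iSup_le fun l => ?_
    exact h.comm i l.2 k.2
  have hX := h.XW_le_V p
  refine ⟨hX.trans (hab.trans (centralizer_le hX)), fun x hx => ?_⟩
  refine NoFF.Lines.Geo.sq_of_comm hab (ι := normalizer (Z i : Set G))
    (B := fun k => cj (k : G) (zl (S : Subgroup G) P))
    (fun k => le_iSup (fun k : normalizer (Z i : Set G) => cj (k : G) (zl (S : Subgroup G) P)) k) le_rfl ?_ x (hX hx)
  rintro k _ ⟨v, hv, rfl⟩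
  change ((k : G) * v * (k : G)⁻¹) ^ 2 = 1
  rw [conj_pow, SQ1.Bau.elem_sq h.fr.el v hv, mul_one, mul_inv_cancel]

/-- **`Peel.far` over the frame.** -/
theorem far [Finite ι] (hML : ML.Final.MLK.{u, u})
    (hnl : NonLoc (normalizer (Z i : Set G)) (normalizer (Z j : Set G)))
    (hG : Peel.ThmG ![Z i, Z j] (Peel.XW ![Z i, Z j] ![W i, W j])) :
    ∃ d a b, d ≤ 1 ∧ CX ![Z i, Z j] (Peel.XW ![Z i, Z j] ![W i, W j]) d a b := by
  obtain ⟨d, a, b, hd, h1, h2, h3⟩ := Peel.far (h.toPP p (TI.of_card (h.fr.cardZ i)) hnl) (h.XW_eab p) (h.XW_le p)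
    (h.fr.cardZ i) (h.noP p hML hnl) hG
  exact ⟨d, a, b, hd, h1, h2, h3⟩

/-- **The reduction over the frame** for every critical pair. -/
theorem red [Finite ι] (hML : ML.Final.MLK.{u, u})
    (hnl : NonLoc (normalizer (Z i : Set G)) (normalizer (Z j : Set G)))
    (hG : Peel.ThmG ![Z i, Z j] (Peel.XW ![Z i, Z j] ![W i, W j])) {d : ℕ} {a b : Subgroup G}
    (hc : CX ![Z i, Z j] (Peel.XW ![Z i, Z j] ![W i, W j]) d a b) :
    a ≤ NN ![Z i, Z j] b ∧ ∃ x ∈ Peel.XW ![Z i, Z j] ![W i, W j] a,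
      ∃ y ∈ NN ![Z i, Z j] b ⊓ centralizer (NN ![Z i, Z j] a : Set G), ⁅x, y⁆ ≠ 1 ∧ ∀ g ∈ a, g = 1 ∨ g = ⁅x, y⁆ := by
  have PP' := h.toPP p (TI.of_card (h.fr.cardZ i)) hnl
  exact hc.red PP' (Peel.xf PP' (h.XW_eab p) (h.XW_le p)) (h.fr.cardZ i) (h.noP p hML hnl) hG

/-- **No radical: the pair `(Z i, Z j)` is critical.** -/
theorem dist_one [Finite ι] (hML : ML.Final.MLK.{u, u})
    (hnl : NonLoc (normalizer (Z i : Set G)) (normalizer (Z j : Set G)))
    (hG : Peel.ThmG ![Z i, Z j] (Peel.XW ![Z i, Z j] ![W i, W j]))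
    (hdis : NN ![Z i, Z j] (Z i) ⊓ NN ![Z i, Z j] (Z j) = ⊥) :
    CX ![Z i, Z j] (Peel.XW ![Z i, Z j] ![W i, W j]) 0 (Z i) (Z j) :=
  PG.dist_one (h.toPP p (TI.of_card (h.fr.cardZ i)) hnl) (h.XW_eab p) (h.XW_le p) (h.fr.cardZ i)
    (h.noP p hML hnl) hG hdis

end A

end Bs

end Cfsg.Agent.Omega.NO3S.EThree.Frame
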