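import Cfsg.Agent.Omega.NO3S.EThree.PtGeo

/-!
# The additive quotient of an abelian subgroup

`Qt N a M π` : `π : G → M` is on the abelian subgroup `N` a homomorphism onto the additive group `M` with kernel `a`;
`exists_qt`, `Qt.im` (image of a subgroup), `Qt.exists_act` (automorphism of `M` induced by an element of `G`),
`Qt.exists_sum` (an orbit product).
-/

set_option autoImplicit false
set_option linter.unusedSectionVars false

namespace Cfsg.Agent.Omega.NO3S.EThree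

open Subgroup
open scoped Pointwise

universe u

variable {G : Type u} [Group G]

theorem mem_cjs {t x : G} {A : Subgroup G} : x ∈ MulAut.conj t • A ↔ t⁻¹ * x * t ∈ A := by
  rw [Subgroup.mem_pointwise_smul_iff_inv_smul_mem, ← map_inv, MulAut.smul_def, MulAut.conj_apply, inv_inv]

/-- `π` is on `N` a homomorphism onto `M` with kernel `a`. -/
structure Qt (N a : Subgroup G) (M : Type u) [AddCommGroup M] (π : G → M) : Prop where
  mul : ∀ x ∈ N, ∀ y ∈ N, π (x * y) = π x + π y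
  ker : ∀ x ∈ N, π x = 0 ↔ x ∈ a
  surj : ∀ m, ∃ x ∈ N, π x = m

theorem exists_qt (N a : Subgroup G) (hab : ∀ x ∈ N, ∀ y ∈ N, x * y = y * x) :
    ∃ (M : Type u) (_ : AddCommGroup M) (π : G → M), Qt N a M π := by
  classical
  let _ : CommGroup N := { (inferInstance : Group N) with
    mul_comm := fun x y => Subtype.ext (hab x x.2 y y.2) }
  let K : Subgroup N := a.subgroupOf N
  refine ⟨Additive (N ⧸ K), inferInstance, fun g => if h : g ∈ N then
    Additive.ofMul ((⟨g, h⟩ : N) : N ⧸ K) else 0, ?_, ?_, ?_⟩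
  · intro x hx y hy
    rw [dif_pos (mul_mem hx hy), dif_pos hx, dif_pos hy]
    rfl
  · intro x hx
    rw [dif_pos hx]
    have h1 : (((⟨x, hx⟩ : N) : N ⧸ K) = 1) ↔ (⟨x, hx⟩ : N) ∈ K := QuotientGroup.eq_one_iff _
    exact h1
  · intro m
    obtain ⟨x, hx⟩ := QuotientGroup.mk_surjective (s := K) (Additive.toMul m)
    refine ⟨x, x.2, ?_⟩
    rw [dif_pos x.2]
    exact hx

namespace Qt

variable {N a : Subgroup G} {M : Type u} [AddCommGroup M] {π : G → M} (q : Qt N a M π)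
include q

theorem one : π 1 = 0 := (q.ker 1 (one_mem _)).2 (one_mem _)

theorem inv {x : G} (hx : x ∈ N) : π x⁻¹ = -π x := by
  have h1 := q.mul x hx x⁻¹ (inv_mem hx)
  rw [mul_inv_cancel, q.one] at h1
  exact (neg_eq_of_add_eq_zero_right h1.symm).symm

theorem eq_iff {x y : G} (hx : x ∈ N) (hy : y ∈ N) : π x = π y ↔ x⁻¹ * y ∈ a := by
  rw [← q.ker _ (mul_mem (inv_mem hx) hy), q.mul _ (inv_mem hx) _ hy, q.inv hx]
  constructor
  · intro h; rw [h]; abel
  · intro h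
    have : π x = π x + (-π x + π y) := by rw [h, add_zero]
    rw [this]; abel

/-- The image of a subgroup. -/
def im (A : Subgroup G) : AddSubgroup M where
  carrier := {m | ∃ x ∈ A, x ∈ N ∧ π x = m}
  zero_mem' := ⟨1, one_mem _, one_mem _, q.one⟩
  add_mem' := by
    rintro _ _ ⟨x, hx, hxN, rfl⟩ ⟨y, hy, hyN, rfl⟩
    exact ⟨x * y, mul_mem hx hy, mul_mem hxN hyN, q.mul x hxN y hyN⟩
  neg_mem' := by
    rintro _ ⟨x, hx, hxN, rfl⟩
    exact ⟨x⁻¹, inv_mem hx, inv_mem hxN, q.inv hxN⟩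

theorem mem_im {A : Subgroup G} {m : M} : m ∈ q.im A ↔ ∃ x ∈ A, x ∈ N ∧ π x = m := Iff.rfl

theorem im_mono {A B : Subgroup G} (h : A ≤ B) : q.im A ≤ q.im B := by
  rintro _ ⟨x, hx, hxN, rfl⟩
  exact ⟨x, h hx, hxN, rfl⟩

theorem π_mem_im {A : Subgroup G} {x : G} (hx : x ∈ A) (hxN : x ∈ N) : π x ∈ q.im A := ⟨x, hx, hxN, rfl⟩

/-- `im (A B) = im A + im B` for commuting `A`, `B ≤ N` -/
theorem im_sup {A B : Subgroup G} (hA : A ≤ N) (hB : B ≤ N)
    (hc : ∀ g ∈ A ⊔ B, ∃ α ∈ A, ∃ β ∈ B, g = α * β) : q.im (A ⊔ B) = q.im A ⊔ q.im B := by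
  apply le_antisymm
  · rintro _ ⟨x, hx, hxN, rfl⟩
    obtain ⟨α, hα, β, hβ, rfl⟩ := hc x hx
    rw [q.mul α (hA hα) β (hB hβ)]
    exact add_mem (AddSubgroup.mem_sup_left (q.π_mem_im hα (hA hα)))
      (AddSubgroup.mem_sup_right (q.π_mem_im hβ (hB hβ)))
  · exact sup_le (q.im_mono le_sup_left) (q.im_mono le_sup_right)

/-- An element of `G` normalising `N` and `a` acts on `M`. -/
theorem exists_act {t : G} (hN : MulAut.conj t • N = N) (ha : MulAut.conj t • a = a) :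
    ∃ φ : M ≃+ M, ∀ x ∈ N, φ (π x) = π (t * x * t⁻¹) := by
  classical
  have hN1 : ∀ x ∈ N, t * x * t⁻¹ ∈ N := fun x hx => by
    rw [← hN]
    exact ⟨x, hx, rfl⟩
  have hN2 : ∀ x ∈ N, t⁻¹ * x * t ∈ N := fun x hx => by
    rw [← hN, mem_cjs] at hx
    exact hx
  have ha1 : ∀ x ∈ a, t * x * t⁻¹ ∈ a := fun x hx => by
    rw [← ha]
    exact ⟨x, hx, rfl⟩
  have ha2 : ∀ x ∈ a, t⁻¹ * x * t ∈ a := fun x hx => by
    rw [← ha, mem_cjs] at hx
    exact hx
  choose σ hσN hσ using q.surj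
  have k1 : ∀ x ∈ N, π (t * σ (π x) * t⁻¹) = π (t * x * t⁻¹) := by
    intro x hx
    rw [q.eq_iff (hN1 _ (hσN _)) (hN1 x hx)]
    have h1 : (σ (π x))⁻¹ * x ∈ a := (q.eq_iff (hσN _) hx).1 (hσ _)
    have := ha1 _ h1
    have e : (t * σ (π x) * t⁻¹)⁻¹ * (t * x * t⁻¹) = t * ((σ (π x))⁻¹ * x) * t⁻¹ := by group
    rwa [e]
  have k2 : ∀ x ∈ N, π (t⁻¹ * σ (π x) * t) = π (t⁻¹ * x * t) := by
    intro x hx
    rw [q.eq_iff (hN2 _ (hσN _)) (hN2 x hx)]
    have h1 : (σ (π x))⁻¹ * x ∈ a := (q.eq_iff (hσN _) hx).1 (hσ _)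
    have := ha2 _ h1
    have e : (t⁻¹ * σ (π x) * t)⁻¹ * (t⁻¹ * x * t) = t⁻¹ * ((σ (π x))⁻¹ * x) * t := by group
    rwa [e]
  let φ : M ≃+ M :=
    { toFun := fun m => π (t * σ m * t⁻¹)
      invFun := fun m => π (t⁻¹ * σ m * t)
      left_inv := by
        intro m
        change π (t⁻¹ * σ (π (t * σ m * t⁻¹)) * t) = m
        rw [k2 _ (hN1 _ (hσN _))]
        have : t⁻¹ * (t * σ m * t⁻¹) * t = σ m := by group
        rw [this, hσ]
      right_inv := by
        intro m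
        change π (t * σ (π (t⁻¹ * σ m * t)) * t⁻¹) = m
        rw [k1 _ (hN2 _ (hσN _))]
        have : t * (t⁻¹ * σ m * t) * t⁻¹ = σ m := by group
        rw [this, hσ]
      map_add' := by
        intro m m'
        have h1 : m + m' = π (σ m * σ m') := by rw [q.mul _ (hσN _) _ (hσN _), hσ, hσ]
        rw [h1, k1 _ (mul_mem (hσN _) (hσN _)), ← q.mul _ (hN1 _ (hσN _)) _ (hN1 _ (hσN _))]
        congr 1
        group }
  exact ⟨φ, k1⟩

theorem prod_list : ∀ l : List G, (∀ y ∈ l, y ∈ N) → l.prod ∈ N ∧ π l.prod = (l.map π).sum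
  | [], _ => ⟨one_mem _, by simpa using q.one⟩
  | y :: l, h => by
    obtain ⟨h1, h2⟩ := prod_list l fun z hz => h z (List.mem_cons_of_mem _ hz)
    have hy : y ∈ N := h y List.mem_cons_self
    rw [List.prod_cons, List.map_cons, List.sum_cons, ← h2]
    exact ⟨mul_mem hy h1, q.mul y hy _ h1⟩

/-- The product over a finite set. -/
theorem exists_prod (hab : ∀ x ∈ N, ∀ y ∈ N, x * y = y * x) (O : Finset G) (hO : ∀ y ∈ O, y ∈ N) :
    ∃ n ∈ N, π n = ∑ y ∈ O, π y ∧ ∀ t : G, (∀ y ∈ O, t * y * t⁻¹ ∈ O) → t * n * t⁻¹ = n := by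
  classical
  have hl : ∀ y ∈ O.toList, y ∈ N := fun y hy => hO y (Finset.mem_toList.1 hy)
  obtain ⟨h1, h2⟩ := q.prod_list O.toList hl
  refine ⟨O.toList.prod, h1, ?_, fun t ht => ?_⟩
  · rw [h2, Finset.sum_map_toList]
  · have h3 : t * O.toList.prod * t⁻¹ = (O.toList.map (MulAut.conj t)).prod := by
      rw [← MulAut.conj_apply, map_list_prod]
    have hnd : (O.toList.map (MulAut.conj t)).Nodup := (Finset.nodup_toList O).map (MulAut.conj t).injective
    have h4 : (O.toList.map (MulAut.conj t)).toFinset = O := by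
      apply Finset.eq_of_subset_of_card_le
      · intro y hy
        rw [List.mem_toFinset, List.mem_map] at hy
        obtain ⟨z, hz, rfl⟩ := hy
        exact ht z (Finset.mem_toList.1 hz)
      · rw [List.toFinset_card_of_nodup hnd, List.length_map, Finset.length_toList]
    have h5 : (O.toList.map (MulAut.conj t)).Perm O.toList := by
      refine (List.perm_ext_iff_of_nodup hnd (Finset.nodup_toList O)).2 fun y => ?_
      rw [← List.mem_toFinset, h4, Finset.mem_toList]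
    rw [h3]
    refine h5.prod_eq' ?_
    refine List.Pairwise.imp_of_mem (R := fun _ _ => True) ?_ (List.pairwise_of_forall fun _ _ => trivial)
    intro x y hx hy _
    have hx' : x ∈ N := hl x (h5.mem_iff.1 hx)
    have hy' : y ∈ N := hl y (h5.mem_iff.1 hy)
    exact hab x hx' y hy'

/-- The preimage of a subgroup. -/
def pre (C : AddSubgroup M) : Subgroup G where
  carrier := {x | x ∈ N ∧ π x ∈ C}
  one_mem' := ⟨one_mem _, by rw [q.one]; exact zero_mem _⟩
  mul_mem' := fun {x y} hx hy => ⟨mul_mem hx.1 hy.1, by rw [q.mul x hx.1 y hy.1]; exact add_mem hx.2 hy.2⟩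
  inv_mem' := fun {x} hx => ⟨inv_mem hx.1, by rw [q.inv hx.1]; exact neg_mem hx.2⟩

theorem mem_pre {C : AddSubgroup M} {x : G} : x ∈ q.pre C ↔ x ∈ N ∧ π x ∈ C := Iff.rfl

/-- A 2-group fixes a nonzero vector. -/
theorem fixed_vec [Finite G] {T : Subgroup G} (hT : IsPGroup 2 T) (hN : ∀ t ∈ T, ∀ x ∈ N, t * x * t⁻¹ ∈ N)
    (ha : ∀ t ∈ T, ∀ x ∈ a, t * x * t⁻¹ ∈ a) {C : AddSubgroup M}
    (hC : ∀ t ∈ T, ∀ x ∈ N, π x ∈ C → π (t * x * t⁻¹) ∈ C) {y : M} (hy : y ∈ C) (hy0 : y ≠ 0) (hy2 : y + y = 0) :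
    ∃ x ∈ N, π x ∈ C ∧ π x ≠ 0 ∧ ∀ t ∈ T, π (t * x * t⁻¹) = π x := by
  classical
  choose σ hσN hσ using q.surj
  have k1 : ∀ t ∈ T, ∀ x ∈ N, π (t * σ (π x) * t⁻¹) = π (t * x * t⁻¹) := by
    intro t ht x hx
    rw [q.eq_iff (hN t ht _ (hσN _)) (hN t ht x hx)]
    have h1 : (σ (π x))⁻¹ * x ∈ a := (q.eq_iff (hσN _) hx).1 (hσ _)
    have := ha t ht _ h1
    have e : (t * σ (π x) * t⁻¹)⁻¹ * (t * x * t⁻¹) = t * ((σ (π x))⁻¹ * x) * t⁻¹ := by group
    rwa [e]
  have hfin : Finite M := by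
    apply Finite.of_surjective (fun x : N => π x)
    intro m
    obtain ⟨x, hx, e⟩ := q.surj m
    exact ⟨⟨x, hx⟩, e⟩
  let act : MulAction T C :=
    { smul := fun t m => ⟨π ((t : G) * σ m * (t : G)⁻¹), hC t t.2 _ (hσN _) (by rw [hσ]; exact m.2)⟩
      one_smul := by
        intro m
        apply Subtype.ext
        change π (((1 : T) : G) * σ m * ((1 : T) : G)⁻¹) = m
        rw [OneMemClass.coe_one, inv_one, mul_one, one_mul, hσ]
      mul_smul := by
        intro s t m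
        apply Subtype.ext
        change π (((s * t : T) : G) * σ m * ((s * t : T) : G)⁻¹) =
          π ((s : G) * σ (π ((t : G) * σ m * (t : G)⁻¹)) * (s : G)⁻¹)
        rw [k1 s s.2 _ (hN t t.2 _ (hσN _))]
        congr 1
        push_cast
        group }
  have h0 : (0 : C) ∈ MulAction.fixedPoints T C := by
    intro t
    apply Subtype.ext
    change π ((t : G) * σ ((0 : C) : M) * (t : G)⁻¹) = 0
    have : ((0 : C) : M) = π 1 := by rw [q.one]; rfl
    rw [this, k1 t t.2 1 (one_mem _), mul_one, mul_inv_cancel, q.one]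
  have h2 : 2 ∣ Nat.card C := by
    have h3 : addOrderOf (⟨y, hy⟩ : C) = 2 := by
      apply addOrderOf_eq_prime
      · apply Subtype.ext
        change ((2 : ℕ) • (⟨y, hy⟩ : C) : C).1 = 0
        rw [two_nsmul]
        exact hy2
      · intro h
        exact hy0 (congrArg Subtype.val h)
    rw [← h3]
    exact addOrderOf_dvd_natCard _
  obtain ⟨b, hb, hne⟩ := hT.exists_fixed_point_of_prime_dvd_card_of_fixed_point C h2 h0
  refine ⟨σ b, hσN _, by rw [hσ]; exact b.2, fun h => hne (Subtype.ext ?_), fun t ht => ?_⟩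
  · rw [hσ] at h
    exact h.symm
  · have := congrArg Subtype.val (hb ⟨t, ht⟩)
    change π (t * σ b * t⁻¹) = b at this
    rw [this, hσ]

end Qt

end Cfsg.Agent.Omega.NO3S.EThree
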