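import Cfsg.Agent.Omega.NO3S.EThree.FrameG

/-!
# `SylU` : a Sylow 2-subgroup of `N_G(Z i)` over `B` normalises the line (input of THEOREM N #23328 / #23934 (a))
-/

set_option autoImplicit false
set_option linter.unusedSectionVars false

namespace Cfsg.Agent.Omega.NO3S.EThree

open Subgroup Cfsg Cfsg.Agent.ZN.ChoiceBase
open Cfsg.Agent.ZN.ChoiceSit (Syl)
open Cfsg.Agent.Omega.NO3S.EThree.Frame

universe u

variable {G : Type u} [Group G]

/-- `N_G(Z i)` has a Sylow 2-subgroup over `B` which normalises `U i`. -/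
def SylU {ι : Type} (Z U : ι → Subgroup G) (B : Subgroup G) : Prop :=
  ∀ i, ∃ T : Subgroup G, Syl T (normalizer (Z i : Set G)) ∧ B ≤ T ∧ T ≤ normalizer (U i : Set G)

/-- the same for every `X` with `N_S(Z i) ≤ X ≤ N_G(Z i)`, and for `C_G(Z i)` -/
theorem Bg.sylU_of_le [Finite G] {S : Sylow 2 G} {P : Subgroup G} {ι : Type} [Finite ι] {B ZJ : Subgroup G}
    {L W Z C : ι → Subgroup G} {q : ℕ} (h : Bg S P B ZJ L W Z C q) (i : ι) {X : Subgroup G}
    (h1 : (S : Subgroup G) ⊓ normalizer (Z i : Set G) ≤ X) (h2 : X ≤ normalizer (Z i : Set G)) :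
    ∃ T : Subgroup G, Syl T X ∧ B ≤ T ∧ T ≤ normalizer (W i : Set G) ∧ T ≤ (S : Subgroup G) :=
  ⟨_, h.syl_of_le i h1 h2, h.bau_le_T i, (h.inf_normalizer i).le.trans inf_le_right, inf_le_left⟩

/-- **`SylU` from `Bg`.** -/
theorem SylU.of_bg [Finite G] {S : Sylow 2 G} {P : Subgroup G} {ι : Type} [Finite ι] {B ZJ : Subgroup G}
    {L W Z C : ι → Subgroup G} {q : ℕ} (h : Bg S P B ZJ L W Z C q) : SylU Z W B := fun i =>
  ⟨_, h.syl i, h.bau_le_T i, (h.inf_normalizer i).le.trans inf_le_right⟩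

/-- Sylow 2-subgroups of a normal subgroup. -/
theorem SylU.inf_syl [Finite G] {T H N : Subgroup G} (hT : Syl T H) (hN : N ≤ H) (hn : H ≤ normalizer (N : Set G)) :
    Syl (T ⊓ N) N := by
  refine ⟨inf_le_right, hT.2.1.to_le inf_le_left, ?_⟩
  intro R hR h2 hTR
  obtain ⟨S, hS, hRS⟩ := Cfsg.Agent.ZN.ChoiceSit.exists_syl h2 (hR.trans hN)
  obtain ⟨x, hx, e⟩ := Cfsg.Agent.ZN.ChoiceSit.syl_conj hS hT
  have h1 : cj x R ≤ T ⊓ N := by
    rintro _ ⟨r, hr, rfl⟩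
    refine ⟨?_, ?_⟩
    · rw [← e]
      exact ⟨r, hRS hr, rfl⟩
    · exact (mem_normalizer_iff.1 (hn hx) r).1 (hR hr)
  have h3 := Subgroup.card_le_of_le h1
  rw [card_cj] at h3
  exact (Subgroup.eq_of_le_of_card_ge hTR h3).symm

/-- **A Sylow 2-subgroup of a normal subgroup `X` of `N_G(Z i)` with `B ≤ X` (e.g. `C_G(Z i)`) over `B`,
normalising the line.** -/
theorem SylU.of_normal [Finite G] {ι : Type} {Z U : ι → Subgroup G} {B : Subgroup G} (h : SylU Z U B) (i : ι)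
    {X : Subgroup G} (hB : B ≤ X) (hX : X ≤ normalizer (Z i : Set G))
    (hn : normalizer (Z i : Set G) ≤ normalizer (X : Set G)) :
    ∃ T : Subgroup G, Syl T X ∧ B ≤ T ∧ T ≤ normalizer (U i : Set G) := by
  obtain ⟨T, hT, hBT, hTU⟩ := h i
  exact ⟨T ⊓ X, SylU.inf_syl hT hX hn, le_inf hBT hB, inf_le_left.trans hTU⟩

/-- `X = C_G(Z i)` -/
theorem SylU.cent [Finite G] {ι : Type} {Z U : ι → Subgroup G} {B : Subgroup G} (h : SylU Z U B) (i : ι)
    (hB : B ≤ centralizer (Z i : Set G)) : ∃ T : Subgroup G, Syl T (centralizer (Z i : Set G)) ∧ B ≤ T ∧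
      T ≤ normalizer (U i : Set G) := by
  refine h.of_normal i hB (centralizer_le_normalizer _) ?_
  intro g hg
  rw [mem_normalizer_iff_cj, cj_centralizer, cj_eq_of_mem_normalizer hg]

end Cfsg.Agent.Omega.NO3S.EThree
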