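import Cfsg.Agent.Omega.NO3S.EThree.UInOf
import Cfsg.Agent.Omega.TCQ.R.LvOf
import Cfsg.Agent.Omega.TCQ.R.End
import Cfsg.Agent.Omega.TCQ.R.PlugA

/-!
# Row (7)(A): `RIn`, `VIn` from MLK

* `MQ.lvIn : LvIn Z W B` : the level inputs of THEOREM N, no hypothesis;
* **`rIn : MLK → RIn K`** : (1a), (1b) of THEOREM R;
* **`vIn : MLK → VIn K`** : `W i ≰ N_i` is impossible.
-/

set_option autoImplicit false
set_option linter.unusedSectionVars false

namespace Cfsg.Agent.Omega.NO3S.EThree.Row7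

open Subgroup Cfsg Cfsg.Agent.ZN.ChoiceBase
open Cfsg.Agent.Omega.OM
open Cfsg.Agent.Omega.NO3S.EThree
open Cfsg.Agent.Omega.NO3S.EThree.Frame
open Cfsg.Agent.Omega.Frame (Cls)
open Cfsg.Agent.Omega.Node.MultiOf
open Cfsg.Agent.Omega.TCQ.R

universe u

variable {G : Type u} [Group G]

/-- **The level inputs of THEOREM N.** -/
theorem MQ.lvIn [Finite G] {S : Sylow 2 G} {P K' B ZJ : Subgroup G} {L W Z C : Fin 2 → Subgroup G} {q : ℕ}
    (h : MQ S P K' B ZJ L W Z C q) : Plug.LvIn Z W B :=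
  Plug.LvIn.of_mul h.mul (h.ti 0) h.nonloc fun i _ h1 h2 h3 => h.doneQ i h1 h2 h3

/-- **`RIn`: (1a) and (1b).** -/
theorem rIn {K : Cls.{u}} (hML : ML.Final.MLK.{u, u}) : RIn K := by
  intro G _ _ hG S P K' B ZJ L W Z C q h hW hrad
  have D : FQ Z W B q := h.fq
  have noD := NoDQ.of_bg h.bg hML (h.ti 0) h.nonloc
  have noQ := NoQQ.of_bg h.bg hML (h.ti 0) h.nonloc
  have noP := NoP.of_bg h.bg hML (h.ti 0) h.nonloc
  refine ⟨PlugA.ta_of D.toPP (PG.Peel.xf D.toPP (D.XW_eab 0) (D.XW_le_Q 0)) noP D.tip ?_,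
    End.oneB_of D noD noQ h.lvIn hrad hW⟩
  intro A hA2 hAc hAX hmv hH
  exact End.false_of_H D noD noQ h.lvIn (hrad 0) (hW 0) hA2 hAc hAX hmv hH

/-- **Row (7), (A): `W i ≰ N_i` is impossible.** -/
theorem vIn {K : Cls.{u}} (hML : ML.Final.MLK.{u, u}) : VIn K := vIn_of hML (rIn hML) nrIn

end Cfsg.Agent.Omega.NO3S.EThree.Row7
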