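import Cfsg.Agent.Omega.NO3S.EThree.NrIn
import Cfsg.Agent.Omega.NO3S.EThree.DoneQ
import Cfsg.Agent.Omega.TCQ.R.End
import Cfsg.Agent.Omega.TCQ.R.PlugA
import Cfsg.Agent.Omega.TCQ.R.LvOf
import Cfsg.Agent.Omega.KL.QF.KIn

/-!
# Row (7) (`k = 2`, `q ≥ 4`, case (E), TI) without the level: from `Bg` to the contradiction

* `MB S P B ZJ L W Z C q` : `Bg`, `4 ≤ q`, TI, nonlocal, `UniQ` (UNI, weak form), (V!) for groups `≥ W i`, and the frame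
  `QFr` if `W 0 ≤ N_0`;
* **`MB.false : MLK → Ext → MB .. → False`.**

Used for `Mul` (the levels of `HypL`) and for `MulL` (the case (L) of GammaFF).
-/

set_option autoImplicit false
set_option linter.unusedSectionVars false

namespace Cfsg.Agent.Omega.NO3S.EThree.Row7B

open Subgroup Cfsg Cfsg.Agent.ZN.ChoiceBase
open Cfsg.Agent.ZN (jj zj bau zc zl o2)
open Cfsg.Agent.ZN.ChoiceSit (Syl)
open Cfsg.Agent.Omega.OM
open Cfsg.Agent.Omega.OM.PG.Peel (XW)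
open Cfsg.Agent.Omega.OM.PG.TwoI (TA')
open Cfsg.Agent.Omega.NO3S.EThree
open Cfsg.Agent.Omega.NO3S.EThree.Frame
open Cfsg.Agent.Omega.NO3S.EThree.Row7 (Nn vec2 vec2' fin2)
open Cfsg.Agent.Omega.MinPar (NonLoc)
open Cfsg.Agent.Omega.TCQ.R
open Cfsg.Agent.Omega.KL.QF (QFr)
open scoped Pointwise

universe u

variable {G : Type u} [Group G] [Finite G]

/-- **The data of row (7), without the level.** -/
structure MB (S : Sylow 2 G) (P B ZJ : Subgroup G) (L W Z C : Fin 2 → Subgroup G) (q : ℕ) : Prop where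
  bg : Bg S P B ZJ L W Z C q
  hq : 4 ≤ q
  ti : ∀ i, TI (Z i)
  nonloc : NonLoc (normalizer (Z 0 : Set G)) (normalizer (Z 1 : Set G))
  /-- UNI, weak form -/
  uni : UniQ Z W B
  /-- (V!) -/
  off : ∀ i, ∀ F ≤ B, B ≤ normalizer (F : Set G) → (∀ x ∈ F, ∀ y ∈ F, x * y = y * x) → (∀ x ∈ F, x ^ 2 = 1) →
    W i ≤ F → ∃ A ≤ B, ¬ A ≤ centralizer (F : Set G) ∧
      (centralizer (A : Set G)).relIndex F ≤ (centralizer (F : Set G)).relIndex A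
  /-- the frame of the branch `W i ≤ N_i` -/
  qfr : W 0 ≤ Nn Z 0 → ∃ T : Subgroup G, QFr Z W B T

namespace MB

variable {S : Sylow 2 G} {P B ZJ : Subgroup G} {L W Z C : Fin 2 → Subgroup G} {q : ℕ}
  (h : MB S P B ZJ L W Z C q)
include h

theorem fq : FQ Z W B q := FQ.of_bg h.bg (h.ti 0) h.nonloc

theorem exists_pa : ∃ s, Pa (S : Subgroup G) W 0 1 s := by
  obtain ⟨j, s, p⟩ := h.bg.exists_partner 0
  rcases fin2 j with rfl | rfl
  · exact absurd rfl p.ne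
  · exact ⟨s, p⟩

/-- the swap on `N_i` -/
theorem cj_N {s : G} (p : Pa (S : Subgroup G) W 0 1 s) : cj s (Nn Z 0) = Nn Z 1 := by
  have h1 : PG.NN Z (cj s (Z 0)) = cj s (PG.NN Z (Z 0)) := PG.NN_conj s (Z 0)
  rw [h.bg.cj_s_Z p] at h1
  exact h1.symm

theorem le_iff : W 0 ≤ Nn Z 0 ↔ W 1 ≤ Nn Z 1 := by
  obtain ⟨s, p⟩ := h.exists_pa
  have e1 := h.cj_N p
  constructor
  · intro h1
    rw [← e1, ← p.ij]
    exact cj_mono s h1
  · intro h1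
    have h2 : cj s (W 0) ≤ cj s (Nn Z 0) := by rw [e1, p.ij]; exact h1
    rwa [cj_le_iff, cj_inv_cj] at h2

theorem rad (h0 : Z 0 ≤ Nn Z 0) (i : Fin 2) : Z i ≤ Nn Z i := by
  rcases fin2 i with rfl | rfl
  · exact h0
  obtain ⟨s, p⟩ := h.exists_pa
  rw [← h.bg.cj_s_Z p, ← h.cj_N p]
  exact cj_mono s h0

/-- `1 ≠ [N_0, N_1] ≤ Z_0Z_1` is impossible. -/
theorem comm_false (com : ∀ x ∈ Nn Z 0, ∀ y ∈ Nn Z 1, x * y * x⁻¹ * y⁻¹ ∈ Z 0 ⊔ Z 1)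
    (nc : ¬ Nn Z 0 ≤ centralizer (Nn Z 1 : Set G)) : False := by
  obtain ⟨s, p⟩ := h.exists_pa
  refine h.bg.comm_false p (fun l => fin2 l) (h.ti 0) h.nonloc ?_ ?_
  · rw [vec2]
    exact com
  · rw [vec2]
    exact nc

/-- `[N_0, N_1] = 1` if `N_0 ∩ N_1 ≤ Z_0Z_1`. -/
theorem com_of_inter (hi : Nn Z 0 ⊓ Nn Z 1 ≤ Z 0 ⊔ Z 1) : Nn Z 0 ≤ centralizer (Nn Z 1 : Set G) := by
  by_contra nc
  refine h.comm_false (fun x hx y hy => hi ?_) nc
  have hPP : PG.PP Z W := h.fq.toPP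
  have a01 : PG.Adj Z (Z 0) (Z 1) := ⟨1, by rw [map_one, one_smul], by rw [map_one, one_smul]⟩
  have pt0 : PG.IsPt Z (Z 0) := ⟨1, by rw [map_one, one_smul]⟩
  have h1 : Nn Z 0 ≤ PG.HH (Z 1) := (hPP.NN_le_QQ pt0).trans (hPP.QQ_le_HH (hPP.adj_symm a01))
  have h2 : Nn Z 1 ≤ PG.HH (Z 0) := (hPP.NN_le_QQ (hPP.adj_pt a01)).trans (hPP.QQ_le_HH a01)
  refine mem_inf.2 ⟨?_, ?_⟩
  · have e : x * y * x⁻¹ * y⁻¹ = x * (y * x⁻¹ * y⁻¹) := by group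
    rw [e]
    exact mul_mem hx ((mem_normalizer_iff.1 (PG.PP.HH_le_NN (Z 0) (h2 hy)) _).1 (inv_mem hx))
  · exact mul_mem ((mem_normalizer_iff.1 (PG.PP.HH_le_NN (Z 1) (h1 hx)) _).1 hy) (inv_mem hy)

theorem sylU0 : SylU0 Z W :=
  ⟨(S : Subgroup G) ⊓ normalizer (Z 0 : Set G), h.bg.syl 0, by
    rw [h.bg.inf_normalizer 0]; exact inf_le_right⟩

theorem regX : PG.PcQ.RegX Z (XW Z W) := by
  have h2 : 2 < q := lt_of_lt_of_le (by decide) h.hq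
  have D : FQ ![Z 0, Z 1] ![W 0, W 1] B q := by
    rw [vec2, vec2]
    exact h.fq
  have h1 := h.bg.regX h2 D
  rwa [vec2, vec2] at h1

/-- **LEMMA 0.** -/
theorem l0 : PG.PcQ.L0 Z := h.fq.l0 h.bg.wc h.uni

/-- **The level inputs of THEOREM N.** -/
theorem lvIn : Plug.LvIn Z W B := by
  have D := h.fq
  have hne : ∀ i : Fin 2, ∃ j : Fin 2, i ≠ j := by decide
  refine ⟨?_, ZS.zS_two h.bg, fun i K h1 h2 h3 => D.done h.bg.wc h.uni h1 h2 h3, ?_,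
    fun i F hF => h.off i F (hF.trans D.O_le_B), ?_, ?_⟩
  · intro i
    obtain ⟨T, hT, -, hTU⟩ := SylU.of_bg h.bg i
    exact ⟨T, hT, hTU⟩
  · intro i K' hKZ hKn hs v hv hvZ z hz
    obtain ⟨j, hij⟩ := hne i
    exact BgQ.root_of h.bg (h.ti 0) h.nonloc hij hKn hKZ hs v hv hvZ z hz
  · intro i v hv
    obtain ⟨j, hij⟩ := hne i
    exact D.cov hij hv
  · intro i e he
    obtain ⟨j, hij⟩ := hne i
    exact D.ptsW hij he

/-- **(A)**: `W i ≰ N_i` is impossible. -/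
theorem false_V (hML : ML.Final.MLK.{u, u}) (hV : ∀ i, ¬ W i ≤ Nn Z i) : False := by
  have D := h.fq
  have noD := NoDQ.of_bg h.bg hML (h.ti 0) h.nonloc
  have noQ := NoQQ.of_bg h.bg hML (h.ti 0) h.nonloc
  have noP := NoP.of_bg h.bg hML (h.ti 0) h.nonloc
  have h2 : 2 < q := lt_of_lt_of_le (by decide) h.hq
  by_cases h0 : Z 0 ≤ Nn Z 0
  · have hrad := h.rad h0
    have hL := h.lvIn
    have h1b : OneB Z W := End.oneB_of D noD noQ hL hrad hV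
    have h1a : TA' Z (XW Z W) := PlugA.ta_of D.toPP D.xf noP D.tip
      fun A hA2 hAc hAX hmv hH => End.false_of_H D noD noQ hL (hrad 0) (hV 0) hA2 hAc hAX hmv hH
    exact D.false_rad noD noQ noP (CoreP.of_bg h.bg) h.com_of_inter hrad h1a h1b
  · refine D.nrTwo noP (D.thmC2_nr h2 h0 h.sylU0 fun K h3 h4 h5 => D.done h.bg.wc h.uni h3 h4 h5) h0 ?_
    exact NrOne.nr_one D h2 h.regX h0 (D.adj (i := 1) (j := 0) (by decide))

/-- **Row (7).** -/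
protected theorem false (hML : ML.Final.MLK.{u, u}) (hE : ML.Ex.Two.Ext.{u, u}) : False := by
  by_cases h0 : W 0 ≤ Nn Z 0
  · obtain ⟨T, D⟩ := h.qfr h0
    obtain ⟨s, p⟩ := h.exists_pa
    refine KL.QF.Fin.false_of_qfr h.bg p (fun l => fin2 l) h.hq hML (KL.Q.EndG.noPreG hML hE) (T := T) ?_
    rw [vec2, vec2]
    exact D
  · refine h.false_V hML fun i => ?_
    rcases fin2 i with rfl | rfl
    · exact h0
    · exact fun h1 => h0 (h.le_iff.2 h1)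

end MB

end Cfsg.Agent.Omega.NO3S.EThree.Row7B
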