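import Cfsg.Agent.Omega.NO3S.EThree.TiNegMul
import Cfsg.Agent.Omega.NO3S.EThree.Row7
import Cfsg.Agent.Omega.OM.YThm.Plug

/-!
# Row (7): `NonLocIn`, and `TiIn` at stage `-1` (THEOREM Y)

* `nonLocIn` : **`NonLocIn K`**;
* `tiY` : stage `-1`, any `k ≥ 2`, `4 ≤ q`: TI or (4F); `centY` : `C_G(z) ≤ N_G(Z i)` for `1 ≠ z ∈ Z i`, or (4F);
* `TiLev K` : TI or (4F) at the stages `n ≥ 0`, `k = 2`; `tiIn_of` : `TiLev K` gives `TiIn K`.
-/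

set_option autoImplicit false
set_option linter.unusedSectionVars false

namespace Cfsg.Agent.Omega.NO3S.EThree.TiNeg

open Subgroup Cfsg Cfsg.Agent.ZN.ChoiceBase
open Cfsg.Agent.ZN (jj zj bau zc zl o2)
open Cfsg.Agent.Omega.OM
open Cfsg.Agent.Omega.NO3S.EThree.Frame
open Cfsg.Agent.Omega.Frame (Cls)
open Cfsg.Agent.Omega.FrameNOFF (CZ)
open Cfsg.Agent.Omega.Node.MultiOf
open Cfsg.Agent.Omega.NO3S.EThree.NonLocQ
open Cfsg.Agent.Omega.NO3S.EThree.Row7 (FourF NonLocIn TiIn)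

universe u

/-- **`NonLocIn`.** -/
theorem nonLocIn (K : Cls.{u}) : NonLocIn K :=
  fun _ _ _ _ _ _ _ _ _ _ _ _ _ _ _ h hE => nonloc_mul h hE

section

variable {G : Type u} [Group G] [Finite G] {S : Sylow 2 G} {P K B ZJ : Subgroup G} {k : ℕ}
  {L W Z C : Fin k → Subgroup G} {q : ℕ}

/-- **THEOREM Y for `Mul`**, stage `-1`. -/
theorem thmY_mul (hFF : FFThm.Stmt.{u}) (h : Mul S P K B ZJ L W Z C q) (hk : 2 ≤ k) (hq : 4 ≤ q)
    (hj : ¬ jj (S : Subgroup G) ≤ o2 P) :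
    centralizer (zc (S : Subgroup G) : Set G) ≤ normalizer (zj (S : Subgroup G) : Set G) ∨ FourF B ZJ q := by
  obtain ⟨F, _, _, _, rfl, ⟨N⟩⟩ := h.nat
  have h1 := YThm.Plug.thmY ⟨h.hyp.toHypN, hj⟩ hFF hk hq N.toNatK
  cases h.stg with
  | neg _ => exact h1
  | lev n _ hn _ => exact absurd ((NO3S.Level.lev_mono (S : Subgroup G) (Nat.zero_le n)).trans hn) hj

/-- `C_G(z) ≤ N_G(Z i)` or (4F), stage `-1`. -/
theorem centY (hFF : FFThm.Stmt.{u}) (h : Mul S P K B ZJ L W Z C q) (hk : 2 ≤ k) (hq : 4 ≤ q)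
    (hj : ¬ jj (S : Subgroup G) ≤ o2 P) :
    (∀ i, ∀ z ∈ Z i, z ≠ 1 → centralizer ({z} : Set G) ≤ normalizer (Z i : Set G)) ∨ FourF B ZJ q :=
  (thmY_mul hFF h hk hq hj).imp_left fun hY _ _ hz hz1 => cent_le_neg hFF h hk hj hY hz hz1

/-- TI or (4F), stage `-1`. -/
theorem tiY (hFF : FFThm.Stmt.{u}) (h : Mul S P K B ZJ L W Z C q) (hk : 2 ≤ k) (hq : 4 ≤ q)
    (hj : ¬ jj (S : Subgroup G) ≤ o2 P) : (∀ i, TI (Z i)) ∨ FourF B ZJ q :=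
  (thmY_mul hFF h hk hq hj).imp_left fun hY i => ti_neg_of hFF h hk hj hY i

end

/-- TI or (4F) at the stages `n ≥ 0`. -/
def TiLev (K : Cls.{u}) : Prop :=
  ∀ (G : Type u) [Group G] [Finite G], K G → ∀ (S : Sylow 2 G) (P K' B ZJ : Subgroup G)
    (L W Z C : Fin 2 → Subgroup G) (q : ℕ), 4 ≤ q → jj (S : Subgroup G) ≤ o2 P → Mul S P K' B ZJ L W Z C q →
      NLoc (KZ B ZJ) → (∀ i, TI (Z i)) ∨ FourF B ZJ q

theorem tiIn_of {K : Cls.{u}} (hFF : FFThm.Stmt.{u}) (hL : TiLev K) : TiIn K := by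
  intro G _ _ hG S P K' B ZJ L W Z C q hq h hE
  by_cases hj : jj (S : Subgroup G) ≤ o2 P
  · exact hL G hG S P K' B ZJ L W Z C q hq hj h hE
  · exact tiY hFF h le_rfl hq hj

end Cfsg.Agent.Omega.NO3S.EThree.TiNeg
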