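import Cfsg.Agent.Omega.NO3S.EThree.Row7Gen
import Cfsg.Agent.Omega.NO3S.EThree.TiNegY
import Cfsg.Agent.Omega.NO3S.EThree.FourTwo.Plug
import Cfsg.Agent.Omega.KL.QF.QIn
import Cfsg.Agent.Omega.TCQ.R.OffV

/-!
# Row (7): `EOf K (k = 2 ∧ 4 ≤ q)` over `Mul` (all stages)

* `gen_mq` : `GenU`, `FixU` for `MQ`, every stage; `mb_of` : `MQ → MB`;
* `false_mq` : **`MQ` is impossible** (`MLK`, `Ext`); `vIn`, `kIn`;
* **`eOf_seven : FFThm.Stmt → MLK → Ext → EOf K (k = 2 ∧ 4 ≤ q)`.**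
-/

set_option autoImplicit false
set_option linter.unusedSectionVars false

namespace Cfsg.Agent.Omega.NO3S.EThree.Row7End

open Subgroup Cfsg Cfsg.Agent.ZN.ChoiceBase
open Cfsg.Agent.ZN (jj zj bau zc zl o2)
open Cfsg.Agent.ZN.ChoiceSit (Syl)
open Cfsg.Agent.Omega.OM
open Cfsg.Agent.Omega.OM.LevD (LB)
open Cfsg.Agent.Omega.FFThm (NatKM)
open Cfsg.Agent.Omega.FrameFF (cv)
open Cfsg.Agent.Omega.NO3S (HypJ)
open Cfsg.Agent.Omega.NO3S.Level (lev lev_mono)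
open Cfsg.Agent.Omega.NO3S.EThree
open Cfsg.Agent.Omega.NO3S.EThree.Frame
open Cfsg.Agent.Omega.NO3S.EThree.Row7
open Cfsg.Agent.Omega.NO3S.EThree.Row7B
open Cfsg.Agent.Omega.MinPar (NonLoc)
open Cfsg.Agent.Omega.Frame (Cls)
open Cfsg.Agent.Omega.Node.MultiOf
open Cfsg.Agent.MinSimple.VModule (le_normalizer_o2 o2_isPGroup)
open Cfsg.Agent.Omega.KL.QF Cfsg.Agent.Omega.KL.QF.OfBg Cfsg.Agent.Omega.KL.QF.PtV Cfsg.Agent.Omega.KL.QF.OfMul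
open scoped Pointwise

universe u

variable {G : Type u} [Group G] [Finite G] {S : Sylow 2 G} {P K' B ZJ : Subgroup G} {L W Z C : Fin 2 → Subgroup G}
  {q : ℕ}

/-- **`GenU` and `FixU`**, every stage. -/
theorem gen_mq (hFF : FFThm.Stmt.{u}) (h : MQ S P K' B ZJ L W Z C q) :
    GenU (S : Subgroup G) B ZJ W Z q 0 1 ∧ FixU (S : Subgroup G) P W Z 0 1 := by
  obtain ⟨s, p⟩ := h.exists_pa
  have hq : 2 < q := lt_of_lt_of_le (by norm_num) h.hq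
  have hs := h.mul.stg
  cases hs with
  | neg hj =>
    obtain ⟨F, _, _, _, hF, ⟨N⟩⟩ := h.mul.nat
    have hJ : HypJ S P := ⟨h.mul.hyp.toHypN, hj⟩
    obtain ⟨L', W', Z', C', A', -, -, -, -, h'⟩ := Line.exists_nat hJ le_rfl N.toNatK
    rw [hF] at h'
    exact ⟨OfNeg.genU h.bg h' hq p (fun l => fin2 l) (h.ti 0) hFF, OfNeg.fixU h.bg h' hq p.ne (h.ti 0) h.nonloc⟩
  | lev n hall hn hn1 =>
    refine ⟨genU_of h.bg p (fun l => fin2 l) (genV_lev h p hn hn1 rfl rfl), ?_⟩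
    refine fixU_of h.mul le_rfl fun m hm hK R hR hRC hne => ?_
    have hmn : m ≤ n := by
      by_contra hmn
      exact hn1 ((lev_mono (S : Subgroup G) (by omega : n + 1 ≤ m)).trans hm)
    exact (le_normalizer_o2 R).trans ((LB.lev S m).nrm _ (o2_isPGroup R)
      ((lev_mono (S : Subgroup G) hmn).trans (facts_lev h p hn hn1 rfl rfl hR hRC hne).2.2.2.1))

/-- **`MQ` gives `MB`.** -/
theorem mb_of (hFF : FFThm.Stmt.{u}) (h : MQ S P K' B ZJ L W Z C q) : MB S P B ZJ L W Z C q :=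
  MB.of_gen h.bg h.hq h.ti h.nonloc (gen_mq hFF h).1 (gen_mq hFF h).2 (TCQ.R.offV h.mul)

/-- **`MQ` is impossible.** -/
theorem false_mq (hFF : FFThm.Stmt.{u}) (hML : ML.Final.MLK.{u, u}) (hE : ML.Ex.Two.Ext.{u, u})
    (h : MQ S P K' B ZJ L W Z C q) : False := (mb_of hFF h).false hML hE

/-- **`VIn`.** -/
theorem vIn (hFF : FFThm.Stmt.{u}) (hML : ML.Final.MLK.{u, u}) (K : Cls.{u}) : VIn K :=
  fun _ _ _ _ _ _ _ _ _ _ _ _ _ _ h hV => (mb_of hFF h).false_V hML hV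

/-- **Row (7)** over `Mul`: (E) with `k = 2`, `q ≥ 4` is impossible. -/
theorem false_mul (hFF : FFThm.Stmt.{u}) (hML : ML.Final.MLK.{u, u}) (hE : ML.Ex.Two.Ext.{u, u})
    (h : Mul S P K' B ZJ L W Z C q) (hq : 4 ≤ q) (hN : NLoc (KZ B ZJ)) : False :=
  false_mq hFF hML hE ⟨h, hq, hN, FourTwo.ti_two hML hE h hq hN, NonLocQ.nonloc_mul h hN⟩

/-- **Row (7)**. -/
theorem eOf_seven (K : Cls.{u}) (hFF : FFThm.Stmt.{u}) (hML : ML.Final.MLK.{u, u}) (hE : ML.Ex.Two.Ext.{u, u}) :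
    EOf K fun k q => k = 2 ∧ 4 ≤ q := by
  rintro G _ _ - S P K' B ZJ k L W Z C q - ⟨rfl, hq⟩ hM hN
  exact (false_mul hFF hML hE hM hq hN).elim

end Cfsg.Agent.Omega.NO3S.EThree.Row7End
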