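import Cfsg.Agent.Omega.NO3S.EThree.V7
import Cfsg.Agent.Omega.NO3S.EThree.NrIn

/-!
# Row (7), frame-free: `BQ` (`Bg`, `4 ≤ q`, TI, nonlocal), for `Mul`, `MulG`, `MulL`

* `BQ.nr` : no radical: THEOREM C and (NR1) from UNI (`DoneU.Uni0`);
* `BQ.done0`, `BQ.done1` : STEP F for both points;
* **`BQ.false_of`** : `W i ≰ N_i` is impossible, from UNI and (1a), (1b) for the radical case.
-/

set_option autoImplicit false
set_option linter.unusedSectionVars false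

namespace Cfsg.Agent.Omega.NO3S.EThree.Row7

open Subgroup Cfsg Cfsg.Agent.ZN Cfsg.Agent.ZN.ChoiceBase
open Cfsg.Agent.Omega.OM
open Cfsg.Agent.Omega.NO3S.EThree
open Cfsg.Agent.Omega.OM.PG (Com)
open Cfsg.Agent.Omega.OM.PG.Peel (XW)
open Cfsg.Agent.Omega.OM.PG.TwoI (TA')
open Cfsg.Agent.Omega.NO3S.EThree.Frame
open Cfsg.Agent.Omega.MinPar (NonLoc)
open Cfsg.Agent.Omega.Node.MultiOf
open scoped Pointwise

universe u

variable {G : Type u} [Group G]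

/-- **The frame part of the data of row (7).** -/
structure BQ [Finite G] (S : Sylow 2 G) (P B ZJ : Subgroup G) (L W Z C : Fin 2 → Subgroup G) (q : ℕ) : Prop where
  bg : Bg S P B ZJ L W Z C q
  hq : 4 ≤ q
  ti : ∀ i, TI (Z i)
  nonloc : NonLoc (normalizer (Z 0 : Set G)) (normalizer (Z 1 : Set G))

theorem MQ.bq [Finite G] {S : Sylow 2 G} {P K' B ZJ : Subgroup G} {L W Z C : Fin 2 → Subgroup G} {q : ℕ}
    (h : MQ S P K' B ZJ L W Z C q) : BQ S P B ZJ L W Z C q := ⟨h.bg, h.hq, h.ti, h.nonloc⟩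

namespace BQ

variable [Finite G] {S : Sylow 2 G} {P B ZJ : Subgroup G} {L W Z C : Fin 2 → Subgroup G} {q : ℕ}
  (h : BQ S P B ZJ L W Z C q)
include h

theorem exists_pa : ∃ s, Pa (S : Subgroup G) W 0 1 s := by
  obtain ⟨j, s, p⟩ := h.bg.exists_partner 0
  rcases fin2 j with rfl | rfl
  · exact absurd rfl p.ne
  · exact ⟨s, p⟩

theorem cj_N {s : G} (p : Pa (S : Subgroup G) W 0 1 s) : cj s (Nn Z 0) = Nn Z 1 := by
  have h1 : PG.NN Z (cj s (Z 0)) = cj s (PG.NN Z (Z 0)) := PG.NN_conj s (Z 0)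
  rw [h.bg.cj_s_Z p] at h1
  exact h1.symm

theorem le_iff : W 0 ≤ Nn Z 0 ↔ W 1 ≤ Nn Z 1 := by
  obtain ⟨s, p⟩ := h.exists_pa
  have e1 := h.cj_N p
  constructor
  · intro h1
    rw [← e1, ← p.ij]
    exact cj_mono s h1
  · intro h1
    have h2 : cj s (W 0) ≤ cj s (Nn Z 0) := by rw [e1, p.ij]; exact h1
    rwa [cj_le_iff, cj_inv_cj] at h2

theorem rad (h0 : Z 0 ≤ Nn Z 0) (i : Fin 2) : Z i ≤ Nn Z i := by
  rcases fin2 i with rfl | rfl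
  · exact h0
  obtain ⟨s, p⟩ := h.exists_pa
  rw [← h.bg.cj_s_Z p, ← h.cj_N p]
  exact cj_mono s h0

theorem fq : FQ Z W B q := FQ.of_bg h.bg (h.ti 0) h.nonloc

/-- `[N_0, N_1] = 1` if `N_0 ∩ N_1 ≤ Z_0Z_1`. -/
theorem com_of_inter (hi : Nn Z 0 ⊓ Nn Z 1 ≤ Z 0 ⊔ Z 1) : Nn Z 0 ≤ centralizer (Nn Z 1 : Set G) := by
  obtain ⟨s, p⟩ := h.exists_pa
  by_contra nc
  have h1 := h.bg.not_inter_le p (fun l => fin2 l) (h.ti 0) h.nonloc (by rw [vec2]; exact nc)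
  rw [vec2] at h1
  exact h1 hi

theorem nbQ : DoneU.NbQ Z B := by
  refine DoneU.nbQ_of h.bg.wc ?_
  rintro g ⟨hg0, hgB⟩
  obtain ⟨σ, hσ⟩ := h.bg.perm_W hgB
  have h0 : cj g (Z 0) = Z 0 := mem_normalizer_iff_cj.1 hg0
  have hσ0 : σ 0 = 0 := h.bg.Z_inj ((hσ 0).2.symm.trans h0)
  have hσ1 : σ 1 = 1 := by
    rcases fin2 (σ 1) with h1 | h1
    · exact absurd (σ.injective (h1.trans hσ0.symm)) (by decide)
    · exact h1
  refine mem_normalizer_iff_cj.2 ?_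
  rw [(hσ 1).2, hσ1]

theorem sylU0 : SylU0 Z W :=
  ⟨(S : Subgroup G) ⊓ normalizer (Z 0 : Set G), h.bg.syl 0, by
    rw [h.bg.inf_normalizer 0]; exact inf_le_right⟩

theorem regX : PG.PcQ.RegX Z (XW Z W) := by
  have h2 : 2 < q := lt_of_lt_of_le (by decide) h.hq
  have D : FQ ![Z 0, Z 1] ![W 0, W 1] B q := by
    rw [vec2, vec2]
    exact h.fq
  have h1 := h.bg.regX h2 D
  rwa [vec2, vec2] at h1

/-- **LEMMA 0.** -/
theorem l0 (hU : DoneU.Uni0 Z W B) : PG.PcQ.L0 Z := DoneU.l0 h.fq hU h.nbQ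

/-- **STEP F.** -/
theorem done0 (hU : DoneU.Uni0 Z W B) {K : Subgroup G} (h1 : K ≤ centralizer (Z 0 : Set G))
    (h2 : normalizer (Z 0 : Set G) ≤ normalizer (K : Set G))
    (h3 : ∃ x ∈ K, IsPGroup 2 (zpowers x) ∧ x ∉ centralizer (Nn Z 0 : Set G)) : ¬ K ≤ normalizer (W 0 : Set G) :=
  DoneU.done h.fq hU h.nbQ ⟨h1, h2, h3⟩

/-- STEP F for both points. -/
theorem done (hU : DoneU.Uni0 Z W B) (i : Fin 2) (K : Subgroup G) (h1 : K ≤ centralizer (Z i : Set G))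
    (h2 : normalizer (Z i : Set G) ≤ normalizer (K : Set G))
    (h3 : ∃ x ∈ K, IsPGroup 2 (zpowers x) ∧ x ∉ centralizer (Nn Z i : Set G)) : ¬ K ≤ normalizer (W i : Set G) := by
  rcases fin2 i with rfl | rfl
  · exact h.done0 hU h1 h2 h3
  intro h4
  obtain ⟨s, p⟩ := h.exists_pa
  have e0 : cj s⁻¹ (Z 1) = Z 0 := by rw [← h.bg.cj_s_Z p, cj_inv_cj]
  have e1 : cj s⁻¹ (Nn Z 1) = Nn Z 0 := by rw [← h.cj_N p, cj_inv_cj]
  have e2 : cj s⁻¹ (W 1) = W 0 := by rw [← p.ij, cj_inv_cj]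
  have cN : ∀ A : Subgroup G, cj s⁻¹ (normalizer (A : Set G)) = normalizer ((cj s⁻¹ A : Subgroup G) : Set G) :=
    fun A => (Cfsg.Agent.MinSimple.CosetFam.normalizer_conj s⁻¹ A).symm
  refine h.done0 hU (K := cj s⁻¹ K) ?_ ?_ ?_ ?_
  · have h5 := cj_mono s⁻¹ h1
    rwa [cj_centralizer, e0] at h5
  · have h5 := cj_mono s⁻¹ h2
    rwa [cN, cN, e0] at h5
  · obtain ⟨x, hx, hx2, hxN⟩ := h3
    have hmem : ∀ y, s⁻¹ * y * s⁻¹⁻¹ ∈ cj s⁻¹ K ↔ y ∈ K := by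
      intro y
      rw [mem_cj]
      have e : s⁻¹⁻¹ * (s⁻¹ * y * s⁻¹⁻¹) * s⁻¹ = y := by group
      rw [e]
    refine ⟨s⁻¹ * x * s⁻¹⁻¹, (hmem x).2 hx, ?_, ?_⟩
    · have h5 : zpowers (s⁻¹ * x * s⁻¹⁻¹) = (zpowers x).map (MulAut.conj s⁻¹).toMonoidHom := by
        rw [MonoidHom.map_zpowers]
        rfl
      rw [h5]
      exact hx2.map _
    · intro h5
      apply hxN
      rw [← e1, ← cj_centralizer] at h5
      rw [mem_cj] at h5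
      have e : s⁻¹⁻¹ * (s⁻¹ * x * s⁻¹⁻¹) * s⁻¹ = x := by group
      rwa [e] at h5
  · have h5 := cj_mono s⁻¹ h4
    rwa [cN, e2] at h5

/-- **No radical.** -/
theorem nr (hU : DoneU.Uni0 Z W B) (hnr : ¬ Z 0 ≤ Nn Z 0) :
    PG.PeelQ.ThmC2 Z (XW Z W) ∧ XW Z W (Z 0) ≤ centralizer (Nn Z 1 : Set G) := by
  have h2 : 2 < q := lt_of_lt_of_le (by decide) h.hq
  exact ⟨h.fq.thmC2_nr h2 hnr h.sylU0 fun _ h1 h2 h3 => DoneU.done h.fq hU h.nbQ ⟨h1, h2, h3⟩,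
    NrOne.nr_one h.fq h2 h.regX hnr (h.fq.adj (i := 1) (j := 0) (by decide))⟩

/-- **`W i ≰ N_i` is impossible.** -/
theorem false_of (hML : ML.Final.MLK.{u, u}) (hU : DoneU.Uni0 Z W B)
    (hR : (∀ i, Z i ≤ Nn Z i) → TA' Z (XW Z W) ∧ OneB Z W) : False := by
  have D := h.fq
  by_cases h0 : Z 0 ≤ Nn Z 0
  · have hrad := h.rad h0
    obtain ⟨h1a, h1b⟩ := hR hrad
    exact D.false_rad (NoDQ.of_bg h.bg hML (h.ti 0) h.nonloc) (NoQQ.of_bg h.bg hML (h.ti 0) h.nonloc)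
      (NoP.of_bg h.bg hML (h.ti 0) h.nonloc) (CoreP.of_bg h.bg) h.com_of_inter hrad h1a h1b
  · obtain ⟨hC, hX⟩ := h.nr hU h0
    exact D.nrTwo (NoP.of_bg h.bg hML (h.ti 0) h.nonloc) hC h0 hX

end BQ

end Cfsg.Agent.Omega.NO3S.EThree.Row7
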