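import Mathlib

/-!
# NO-3S, case (E), TEXT R3 #16982 (4): symplectic spaces in characteristic 2

`B` a nondegenerate alternating form on the `F`-space `E`, `char F = 2`.

* `tvn B u a` : the transvection `x ↦ x + a B(x,u) u`;
* `Sim B φ c A` : `A` is `φ`-semilinear and `B(Ax, Ay) = c φ(B(x,y))`;
* `Sy.exists_perp`, `Sy.perp_le` : an additive subgroup invariant under the transvections with centres in `u^⊥`
  and not inside `F u` contains `u^⊥`;
* `Sy.tra` : two transvections with centres in `u^⊥ - F u` move any vector of `u^⊥ - F u` to any other;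
* `Sim.eq_tvn` : a similarity which fixes `u^⊥` pointwise is a transvection;
* `Sy.exists_list` : every linear isometry is a product of transvections.
-/

set_option autoImplicit false

namespace Cfsg.Agent.Omega.NO3S.EThree

variable {F E : Type*} [Field F] [AddCommGroup E] [Module F E]

/-- The transvection `x ↦ x + a B(x,u) u`. -/
def tvn (B : E →ₗ[F] E →ₗ[F] F) (u : E) (a : F) (x : E) : E := x + (a * B x u) • u

/-- `A` is a `φ`-semilinear similarity with factor `c`. -/
structure Sim (B : E →ₗ[F] E →ₗ[F] F) (φ : F ≃+* F) (c : F) (A : E → E) : Prop where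
  add : ∀ x y, A (x + y) = A x + A y
  smul : ∀ (a : F) x, A (a • x) = φ a • A x
  form : ∀ x y, B (A x) (A y) = c * φ (B x y)

/-- `B` is a nondegenerate alternating form (characteristic 2). -/
structure Sy (B : E →ₗ[F] E →ₗ[F] F) : Prop where
  two : (2 : F) = 0
  alt : ∀ x, B x x = 0
  nd : ∀ x, (∀ y, B x y = 0) → x = 0

namespace Sy

variable {B : E →ₗ[F] E →ₗ[F] F} (h : Sy B)

include h

theorem add_self (x : E) : x + x = 0 := by
  have : x + x = (2 : F) • x := by rw [two_smul]
  rw [this, h.two, zero_smul]

theorem add_self' (a : F) : a + a = 0 := by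
  have : a + a = (2 : F) * a := by ring
  rw [this, h.two, zero_mul]

theorem neg_eq (x : E) : -x = x := neg_eq_of_add_eq_zero_left (h.add_self x)

theorem symm (x y : E) : B x y = B y x := by
  have h1 := h.alt (x + y)
  simp only [map_add, LinearMap.add_apply, h.alt, zero_add, add_zero] at h1
  linear_combination h1 - B y x * h.two

theorem nd' (x : E) (hx : ∀ y, B y x = 0) : x = 0 := h.nd x fun y => by rw [h.symm]; exact hx y

/-- `u^⊥⊥ = F u` -/
theorem perp_perp {u x : E} (hx : ∀ y, B y u = 0 → B y x = 0) : ∃ a : F, x = a • u := by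
  by_cases hu : ∀ y, B y u = 0
  · refine ⟨0, ?_⟩
    rw [zero_smul]
    exact h.nd' x fun y => hx y (hu y)
  push Not at hu
  obtain ⟨y0, hy0⟩ := hu
  refine ⟨B y0 x / B y0 u, ?_⟩
  have h1 : x - (B y0 x / B y0 u) • u = 0 := by
    apply h.nd'
    intro y
    have h2 := hx (y - (B y u / B y0 u) • y0) (by
      rw [map_sub, LinearMap.sub_apply, map_smul, LinearMap.smul_apply, smul_eq_mul, div_mul_cancel₀ _ hy0, sub_self])
    rw [map_sub, LinearMap.sub_apply, map_smul, LinearMap.smul_apply, smul_eq_mul] at h2
    rw [map_sub, map_smul, smul_eq_mul]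
    rw [← h2]
    ring
  exact sub_eq_zero.1 h1

/-- a vector of `u^⊥` not orthogonal to `x ∉ F u` -/
theorem exists_perp {u x : E} (hx : ∀ a : F, x ≠ a • u) : ∃ w, B w u = 0 ∧ B w x ≠ 0 := by
  by_contra hcon
  push Not at hcon
  obtain ⟨a, ha⟩ := h.perp_perp hcon
  exact hx a ha

/-- **(KEY)** an additive subgroup invariant under the transvections with centres in `u^⊥` and not inside `F u`
contains `u^⊥`. -/
theorem perp_le {u : E} {S : AddSubgroup E} (hS : ∀ x ∈ S, ∀ w, B w u = 0 → ∀ a : F, (a * B x w) • w ∈ S)
    {x : E} (hx : x ∈ S) (hxu : ∀ a : F, x ≠ a • u) {v : E} (hv : B v u = 0) : v ∈ S := by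
  have key : ∀ w, B w u = 0 → B x w ≠ 0 → w ∈ S := by
    intro w hw hxw
    have h1 := hS x hx w hw (B x w)⁻¹
    rwa [inv_mul_cancel₀ hxw, one_smul] at h1
  by_cases hxv : B x v = 0
  · obtain ⟨w, hw, hwx⟩ := h.exists_perp hxu
    have hxw : B x w ≠ 0 := by rwa [h.symm]
    have h1 := key w hw hxw
    have h2 := key (v + w) (by rw [map_add, LinearMap.add_apply, hv, hw, add_zero])
      (by rw [map_add, hxv, zero_add]; exact hxw)
    have h3 := S.sub_mem h2 h1
    rwa [add_sub_cancel_right] at h3
  · exact key v hv hxv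

/-- a common non-orthogonal vector in `u^⊥` -/
theorem exists_link {u x y : E} (hx : ∀ a : F, x ≠ a • u) (hy : ∀ a : F, y ≠ a • u) :
    ∃ z, B z u = 0 ∧ B z x ≠ 0 ∧ B z y ≠ 0 := by
  obtain ⟨a, ha, hax⟩ := h.exists_perp hx
  obtain ⟨b, hb, hby⟩ := h.exists_perp hy
  by_cases hay : B a y = 0
  · by_cases hbx : B b x = 0
    · refine ⟨a + b, ?_, ?_, ?_⟩
      · rw [map_add, LinearMap.add_apply, ha, hb, add_zero]
      · rw [map_add, LinearMap.add_apply, hbx, add_zero]; exact hax
      · rw [map_add, LinearMap.add_apply, hay, zero_add]; exact hby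
    · exact ⟨b, hb, hbx, hby⟩
  · exact ⟨a, ha, hax, hay⟩

theorem tvn_tvn (u : E) (a : F) (x : E) : tvn B u a (tvn B u a x) = x := by
  unfold tvn
  rw [map_add, LinearMap.add_apply, map_smul, LinearMap.smul_apply, h.alt, smul_zero, add_zero, add_assoc,
    h.add_self, add_zero]

/-- one transvection moves `x` to `y` when `B x y ≠ 0` -/
theorem tvn_move {x y : E} (hxy : B x y ≠ 0) : tvn B (x + y) (B x y)⁻¹ x = y := by
  unfold tvn
  rw [map_add, h.alt, zero_add, inv_mul_cancel₀ hxy, one_smul, ← add_assoc, h.add_self, zero_add]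

omit h in
theorem tvn_of_perp {u x : E} (a : F) (hx : B x u = 0) : tvn B u a x = x := by
  unfold tvn
  rw [hx, mul_zero, zero_smul, add_zero]

/-- **two transvections with centres in `u^⊥ - F u` move `x` to `y`.** -/
theorem tra {u x y : E} (hx0 : B x u = 0) (hx : ∀ a : F, x ≠ a • u) (hy0 : B y u = 0) (hy : ∀ a : F, y ≠ a • u) :
    ∃ w₁ w₂ : E, ∃ a₁ a₂ : F, B w₁ u = 0 ∧ B w₂ u = 0 ∧ (∀ a : F, w₁ ≠ a • u) ∧ (∀ a : F, w₂ ≠ a • u) ∧
      tvn B w₂ a₂ (tvn B w₁ a₁ x) = y := by
  obtain ⟨z, hz0, hzx, hzy⟩ := h.exists_link hx hy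
  have hxz : B x z ≠ 0 := by rwa [h.symm]
  refine ⟨x + z, z + y, (B x z)⁻¹, (B z y)⁻¹, ?_, ?_, ?_, ?_, ?_⟩
  · rw [map_add, LinearMap.add_apply, hx0, hz0, add_zero]
  · rw [map_add, LinearMap.add_apply, hy0, hz0, add_zero]
  · intro a ha
    have h1 : B x (x + z) = 0 := by rw [ha, map_smul, hx0, smul_zero]
    rw [map_add, h.alt, zero_add] at h1
    exact hxz h1
  · intro a ha
    have h1 : B z (z + y) = 0 := by rw [ha, map_smul, hz0, smul_zero]
    rw [map_add, h.alt, zero_add] at h1
    exact hzy h1
  · rw [h.tvn_move hxz, h.tvn_move hzy]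

/-- transvections are linear isometries -/
theorem tvn_sim (u : E) (a : F) : Sim B (RingEquiv.refl F) 1 (tvn B u a) := by
  refine ⟨fun x y => ?_, fun b x => ?_, fun x y => ?_⟩
  · unfold tvn
    rw [map_add, LinearMap.add_apply, mul_add, add_smul]
    abel
  · unfold tvn
    rw [map_smul, LinearMap.smul_apply, smul_eq_mul, RingEquiv.refl_apply, smul_add, smul_smul]
    congr 2
    ring
  · unfold tvn
    rw [RingEquiv.refl_apply, one_mul]
    simp only [map_add, LinearMap.add_apply, map_smul, LinearMap.smul_apply, smul_eq_mul, h.alt, mul_zero, add_zero]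
    rw [h.symm u y]
    have h1 := h.add_self' (a * B y u * B x u)
    have e : B x y + a * B x u * B y u + a * B y u * B x u =
        B x y + (a * B y u * B x u + a * B y u * B x u) := by ring
    rw [e, h1, add_zero]

end Sy

namespace Sim

variable {B : E →ₗ[F] E →ₗ[F] F} {φ : F ≃+* F} {c : F} {A : E → E} (hA : Sim B φ c A)

include hA

theorem zero : A 0 = 0 := by
  have h := hA.add 0 0
  rw [add_zero] at h
  exact left_eq_add.1 h

theorem sub (x y : E) : A (x - y) = A x - A y := by
  have h := hA.add (x - y) y
  rw [sub_add_cancel] at h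
  rw [h, add_sub_cancel_right]

/-- fixing a nonzero 1-space pointwise: no field automorphism -/
theorem phi_eq {u : E} (hu : u ≠ 0) (hfix : ∀ a : F, A (a • u) = a • u) (a : F) : φ a = a := by
  have h1 := hA.smul a u
  have h2 := hfix 1
  rw [one_smul] at h2
  rw [hfix a, h2] at h1
  exact (smul_left_injective F hu h1).symm

/-- **a similarity fixing `u^⊥` pointwise is a transvection** (`u^⊥ / F u ≠ 0`). -/
theorem eq_tvn (h : Sy B) {u : E} (hu : u ≠ 0) (hfix : ∀ x, B x u = 0 → A x = x) {w : E} (hw : B w u = 0)
    (hwu : ∀ a : F, w ≠ a • u) : ∃ l : F, ∀ x, A x = tvn B u l x := by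
  have hφ : ∀ a, φ a = a := hA.phi_eq hu fun a => hfix _ (by
    rw [map_smul, LinearMap.smul_apply, h.alt, smul_zero])
  have hc : c = 1 := by
    obtain ⟨y, hy, hyw⟩ := h.exists_perp hwu
    have h1 := hA.form y w
    rw [hfix y hy, hfix w hw, hφ] at h1
    have h2 : c * B y w = 1 * B y w := by rw [one_mul]; exact h1.symm
    exact mul_right_cancel₀ hyw h2
  obtain ⟨y1, hy1⟩ : ∃ y, B y u ≠ 0 := by
    by_contra hcon
    push Not at hcon
    exact hu (h.nd' u hcon)
  -- normalise
  obtain ⟨y0, hy0⟩ : ∃ y, B y u = 1 := ⟨(B y1 u)⁻¹ • y1, by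
    rw [map_smul, LinearMap.smul_apply, smul_eq_mul, inv_mul_cancel₀ hy1]⟩
  obtain ⟨l, hl⟩ : ∃ l : F, A y0 - y0 = l • u := by
    apply h.perp_perp
    intro y hy
    have h1 := hA.form y y0
    rw [hfix y hy, hφ, hc, one_mul] at h1
    rw [map_sub, h1, sub_self]
  refine ⟨l, fun x => ?_⟩
  have h1 : A (x - B x u • y0) = x - B x u • y0 := hfix _ (by
    rw [map_sub, LinearMap.sub_apply, map_smul, LinearMap.smul_apply, hy0, smul_eq_mul, mul_one, sub_self])
  have h2 : A y0 = y0 + l • u := by rw [← hl]; abel
  rw [hA.sub, hA.smul, hφ, h2] at h1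
  unfold tvn
  have h3 : A x = x - B x u • y0 + B x u • (y0 + l • u) := by rw [← h1]; abel
  rw [h3, smul_add, smul_smul, mul_comm (B x u) l]
  abel

end Sim

namespace Sy

variable {B : E →ₗ[F] E →ₗ[F] F} (h : Sy B)

/-- composition of transvections -/
def comp (B : E →ₗ[F] E →ₗ[F] F) (l : List (E × F)) (x : E) : E := l.foldr (fun p y => tvn B p.1 p.2 y) x

theorem comp_nil (x : E) : comp B [] x = x := rfl

theorem comp_cons (p : E × F) (l : List (E × F)) (x : E) : comp B (p :: l) x = tvn B p.1 p.2 (comp B l x) := rfl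

include h

/-- **every linear isometry is a product of transvections.** -/
theorem exists_list [FiniteDimensional F E] {A : E → E} (hA : Sim B (RingEquiv.refl F) 1 A) :
    ∃ l : List (E × F), ∀ x, A x = comp B l x := by
  -- the fixed space
  let Fx : (A : E → E) → Sim B (RingEquiv.refl F) 1 A → Submodule F E := fun A hA =>
    { carrier := {x | A x = x}
      add_mem' := fun {x y} hx hy => by
        change A (x + y) = x + y
        rw [hA.add, hx, hy]
      zero_mem' := hA.zero
      smul_mem' := fun a x hx => by
        change A (a • x) = a • x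
        rw [hA.smul, hx, RingEquiv.refl_apply] }
  have main : ∀ n : ℕ, ∀ (A : E → E) (hA : Sim B (RingEquiv.refl F) 1 A),
      Module.finrank F E ≤ Module.finrank F (Fx A hA) + n → ∃ l : List (E × F), ∀ x, A x = comp B l x := by
    intro n
    induction n with
    | zero =>
      intro A hA hn
      have h1 : Fx A hA = ⊤ := by
        apply Submodule.eq_top_of_finrank_eq
        exact le_antisymm (Submodule.finrank_le _) (by simpa using hn)
      refine ⟨[], fun x => ?_⟩
      have h2 : x ∈ Fx A hA := by rw [h1]; exact Submodule.mem_top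
      exact h2
    | succ n ih =>
      intro A hA hn
      by_cases hid : ∀ x, A x = x
      · exact ⟨[], hid⟩
      push Not at hid
      obtain ⟨x, hx⟩ := hid
      -- it suffices to fix one more vector with transvections trivial on the fixed space
      have step : ∀ (A' : E → E) (hA' : Sim B (RingEquiv.refl F) 1 A'), (∀ w, A w = w → A' w = w) → A' x = x →
          ∃ l : List (E × F), ∀ x, A' x = comp B l x := by
        intro A' hA' hle hx'
        refine ih A' hA' ?_
        have h1 : Fx A hA < Fx A' hA' := by
          refine lt_of_le_of_ne (fun w hw => hle w hw) fun he => hx ?_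
          have h2 : x ∈ Fx A' hA' := hx'
          rw [← he] at h2
          exact h2
        have h2 := Submodule.finrank_lt_finrank_of_lt h1
        omega
      have hcomp : ∀ (u : E) (a : F) (A : E → E), Sim B (RingEquiv.refl F) 1 A →
          Sim B (RingEquiv.refl F) 1 fun y => tvn B u a (A y) := by
        intro u a A hA
        have ht := h.tvn_sim u a
        refine ⟨fun x y => ?_, fun b x => ?_, fun x y => ?_⟩
        · rw [hA.add, ht.add]
        · rw [hA.smul, ht.smul]; rfl
        · rw [ht.form, hA.form]
          simp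
      have hfx : ∀ w y, A w = w → B w (A y) = B w y := by
        intro w y hw
        have h1 := hA.form w y
        rw [hw] at h1
        simpa using h1
      -- one step: `B (A x) x ≠ 0`
      by_cases hB : B (A x) x = 0
      · -- two steps
        obtain ⟨z, hz1, hz2, hz3⟩ : ∃ z, (∀ w, A w = w → B w z = 0) ∧ B x z ≠ 0 ∧ B (A x) z ≠ 0 := by
          -- `W = Fix A`, `x, A x ∉ W = W^⊥⊥`
          have hdd : ∀ y, (∀ z, (∀ w, A w = w → B w z = 0) → B y z = 0) → A y = y := by
            intro y hy
            -- double orthogonal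
            have hnd : (B : LinearMap.BilinForm F E).Nondegenerate := by
              refine ⟨fun m hm => h.nd m hm, fun m hm => h.nd' m hm⟩
            have hrefl : (B : LinearMap.BilinForm F E).IsRefl := fun a b hab => by
              rw [← h.symm]; exact hab
            have h1 := LinearMap.BilinForm.orthogonal_orthogonal hnd hrefl (Fx A hA)
            have h2 : y ∈ LinearMap.BilinForm.orthogonal (B : LinearMap.BilinForm F E)
                (LinearMap.BilinForm.orthogonal (B : LinearMap.BilinForm F E) (Fx A hA)) := by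
              intro z hz
              have h3 : B y z = 0 := hy z fun w hw => hz w hw
              change B z y = 0
              rw [← h.symm]; exact h3
            rw [h1] at h2
            exact h2
          have hxW : ¬ A x = x := hx
          have hAxW : ¬ A (A x) = A x := by
            intro h1
            apply hx
            have h2 : A (A x - x) = 0 := by rw [hA.sub, h1, sub_self]
            have h3 : A x - x = 0 := by
              apply h.nd
              intro y
              have h4 := hA.form (A x - x) y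
              rw [h2, map_zero, LinearMap.zero_apply] at h4
              simpa using h4.symm
            exact sub_eq_zero.1 h3
          have ha : ∃ z, (∀ w, A w = w → B w z = 0) ∧ B x z ≠ 0 := by
            by_contra hcon
            push Not at hcon
            exact hxW (hdd x hcon)
          have hb : ∃ z, (∀ w, A w = w → B w z = 0) ∧ B (A x) z ≠ 0 := by
            by_contra hcon
            push Not at hcon
            exact hAxW (hdd _ hcon)
          obtain ⟨a, ha1, ha2⟩ := ha
          obtain ⟨b, hb1, hb2⟩ := hb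
          by_cases h1 : B (A x) a = 0
          · by_cases h2 : B x b = 0
            · refine ⟨a + b, fun w hw => ?_, ?_, ?_⟩
              · rw [map_add, ha1 w hw, hb1 w hw, add_zero]
              · rw [map_add, h2, add_zero]; exact ha2
              · rw [map_add, h1, zero_add]; exact hb2
            · exact ⟨b, hb1, h2, hb2⟩
          · exact ⟨a, ha1, ha2, h1⟩
        -- `A x → x + z → x`
        have hAz : B (A x) (x + z) ≠ 0 := by rw [map_add, hB, zero_add]; exact hz3
        have hzx : B (x + z) x ≠ 0 := by
          rw [map_add, LinearMap.add_apply, h.alt, zero_add, h.symm]; exact hz2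
        have hA1 := hcomp (A x + (x + z)) (B (A x) (x + z))⁻¹ A hA
        have hA2 := hcomp (x + z + x) (B (x + z) x)⁻¹ _ hA1
        obtain ⟨l, hl⟩ := step _ hA2 (fun w hw => by
          have e1 : B w (A x + (x + z)) = 0 := by
            rw [map_add, map_add, hfx w x hw, hz1 w hw, add_zero, h.add_self']
          have e2 : B w (x + z + x) = 0 := by
            rw [map_add, map_add, hz1 w hw, add_zero, h.add_self']
          change tvn B (x + z + x) _ (tvn B (A x + (x + z)) _ (A w)) = w
          rw [hw, tvn_of_perp _ e1, tvn_of_perp _ e2]) (by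
          rw [h.tvn_move hAz, h.tvn_move hzx])
        refine ⟨(A x + (x + z), (B (A x) (x + z))⁻¹) :: (x + z + x, (B (x + z) x)⁻¹) :: l, fun y => ?_⟩
        rw [comp_cons, comp_cons, ← hl y, h.tvn_tvn, h.tvn_tvn]
      · have hA1 := hcomp (A x + x) (B (A x) x)⁻¹ A hA
        obtain ⟨l, hl⟩ := step _ hA1 (fun w hw => by
          have e1 : B w (A x + x) = 0 := by
            rw [map_add, hfx w x hw, h.add_self']
          change tvn B (A x + x) _ (A w) = w
          rw [hw, tvn_of_perp _ e1]) (by
          rw [h.tvn_move hB])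
        refine ⟨(A x + x, (B (A x) x)⁻¹) :: l, fun y => ?_⟩
        rw [comp_cons, ← hl y, h.tvn_tvn]
  exact main (Module.finrank F E) A hA (Nat.le_add_left _ _)

end Sy

end Cfsg.Agent.Omega.NO3S.EThree
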