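import Cfsg.Agent.Omega.NO3S.EThree.SpForm

/-!
# NO-3S, case (E), TEXT R3 #16982 (4): a symplectic module with radical

`M : SpR F E r B H N Z` : `H` acts on the abelian group `N` with radical `Z ≤ N`; `N / Z = E^r`, `H` permutes the `r`
coordinates and acts by semilinear similarities of `(E, B)`; the transvections of each coordinate are induced by
elements of `H` centralising `Z`.

* `At M j y v` : `v` has the coordinate `y` at `j` and `0` elsewhere; `On M j A g` : `g` acts as `A` on the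
  coordinate `j` and trivially on the others;
* `Side M Zp Vp Bp j₀ u₀ w₀` : the point `Zp` (`F u₀` at `j₀`), the line `Vp` (`F u₀ + F w₀`), the abelian group
  `Bp ≥ Vp` normalised by `N` and by `D = H ∩ N(Zp)`;
* `Side.key` : a subgroup of `N` normalised by `D` which is not inside `Zp Z` (at `j₀`) covers `u₀^⊥`;
* `Side.other` : `Bp` acts trivially on the coordinates `j ≠ j₀`;
* `Side.tv` : `Bp` acts on the coordinate `j₀` by transvections with centre `u₀`;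
* `Side.full` : if `K ≤ Bp` is normalised by `D` and does not centralise `N` then it induces all of them;
* `Side.all` : and `⟨K^H⟩` induces all transvections of all coordinates.
-/

set_option autoImplicit false
set_option linter.unusedSectionVars false

namespace Cfsg.Agent.Omega.NO3S.EThree

open Subgroup

variable {G : Type*} [Group G]

/-- `H` acts on `N` with radical `Z` as a wreathed symplectic group. -/
structure SpR (F E : Type*) [Field F] [AddCommGroup E] [Module F E] (r : ℕ) (B : E →ₗ[F] E →ₗ[F] F)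
    (H N Z : Subgroup G) where
  e : G → Fin r → E
  mul : ∀ v ∈ N, ∀ w ∈ N, e (v * w) = e v + e w
  surj : ∀ x : Fin r → E, ∃ v ∈ N, e v = x
  ker : ∀ v ∈ N, e v = 0 ↔ v ∈ Z
  nor : ∀ h ∈ H, ∀ v ∈ N, h * v * h⁻¹ ∈ N
  act : ∀ h ∈ H, ∃ σ : Equiv.Perm (Fin r), ∀ j, ∃ (φ : F ≃+* F) (c : F) (A : E → E), Sim B φ c A ∧
    ∀ v ∈ N, e (h * v * h⁻¹) (σ j) = A (e v j)
  lift : ∀ j u a, ∃ g ∈ H, (∀ z ∈ Z, g * z = z * g) ∧
    ∀ v ∈ N, e (g * v * g⁻¹) j = tvn B u a (e v j) ∧ ∀ k, k ≠ j → e (g * v * g⁻¹) k = e v k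
  tr : ∀ j j', ∃ h ∈ H, ∀ v ∈ N, e (h * v * h⁻¹) j' = 0 ↔ e v j = 0

variable {F E : Type*} [Field F] [AddCommGroup E] [Module F E] {r : ℕ} {B : E →ₗ[F] E →ₗ[F] F} {H N Z : Subgroup G}

/-- `v` has the coordinate `y` at `j` and `0` elsewhere -/
def At (M : SpR F E r B H N Z) (j : Fin r) (y : E) (v : G) : Prop := M.e v j = y ∧ ∀ k, k ≠ j → M.e v k = 0

/-- `g` acts as `A` on the coordinate `j` and trivially on the others -/
def On (M : SpR F E r B H N Z) (j : Fin r) (A : E → E) (g : G) : Prop :=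
  ∀ v ∈ N, M.e (g * v * g⁻¹) j = A (M.e v j) ∧ ∀ k, k ≠ j → M.e (g * v * g⁻¹) k = M.e v k

namespace SpR

variable (M : SpR F E r B H N Z)

theorem e_one : M.e 1 = 0 := by
  have h := M.mul 1 (one_mem N) 1 (one_mem N)
  rw [mul_one] at h
  exact left_eq_add.1 h

theorem e_inv {v : G} (hv : v ∈ N) : M.e v⁻¹ = -M.e v := by
  have h := M.mul v hv v⁻¹ (inv_mem hv)
  rw [mul_inv_cancel, M.e_one] at h
  exact (neg_eq_of_add_eq_zero_right h.symm).symm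

theorem e_div {v w : G} (hv : v ∈ N) (hw : w ∈ N) : M.e (v * w⁻¹) = M.e v - M.e w := by
  rw [M.mul v hv _ (inv_mem hw), M.e_inv hw, sub_eq_add_neg]

/-- equal coordinates: equal modulo `Z` -/
theorem div_mem {v w : G} (hv : v ∈ N) (hw : w ∈ N) (h : M.e v = M.e w) : v * w⁻¹ ∈ Z := by
  rw [← M.ker _ (mul_mem hv (inv_mem hw)), M.e_div hv hw, h, sub_self]

theorem at_iff {j : Fin r} {y : E} {v : G} : At M j y v ↔ M.e v = Pi.single j y := by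
  constructor
  · rintro ⟨h1, h2⟩
    funext k
    by_cases hk : k = j
    · subst hk; rw [Pi.single_eq_same]; exact h1
    · rw [Pi.single_eq_of_ne hk]; exact h2 k hk
  · intro h
    refine ⟨?_, fun k hk => ?_⟩
    · rw [h, Pi.single_eq_same]
    · rw [h, Pi.single_eq_of_ne hk]

theorem exists_at (j : Fin r) (y : E) : ∃ v ∈ N, At M j y v := by
  obtain ⟨v, hv, h⟩ := M.surj (Pi.single j y)
  exact ⟨v, hv, M.at_iff.2 h⟩

theorem At.eq {j : Fin r} {y : E} {v w : G} {M : SpR F E r B H N Z} (h : At M j y v) (h' : At M j y w) :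
    M.e v = M.e w := by
  rw [M.at_iff.1 h, M.at_iff.1 h']

/-! ### The maps induced by an element of `H` -/

theorem act_surj {h : G} (hh : h ∈ H) {σ : Equiv.Perm (Fin r)} {j : Fin r} {A : E → E}
    (hA : ∀ v ∈ N, M.e (h * v * h⁻¹) (σ j) = A (M.e v j)) (y : E) : ∃ x, A x = y := by
  obtain ⟨v, hv, hy, -⟩ := M.exists_at (σ j) y
  have h1 : h⁻¹ * v * h ∈ N := by
    have := M.nor h⁻¹ (inv_mem hh) v hv
    rwa [inv_inv] at this
  refine ⟨M.e (h⁻¹ * v * h) j, ?_⟩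
  rw [← hA _ h1]
  have e : h * (h⁻¹ * v * h) * h⁻¹ = v := by group
  rw [e, hy]

theorem c_ne (hB : Sy B) {u : E} (hu : u ≠ 0) {φ : F ≃+* F} {c : F} {A : E → E} (hA : Sim B φ c A)
    (hs : ∀ y, ∃ x, A x = y) : c ≠ 0 := by
  intro hc
  apply hu
  apply hB.nd
  intro y
  obtain ⟨x, hx⟩ := hs u
  obtain ⟨x', hx'⟩ := hs y
  rw [← hx, ← hx', hA.form, hc, zero_mul]

theorem inj_of (hB : Sy B) {φ : F ≃+* F} {c : F} {A : E → E} (hA : Sim B φ c A) (hs : ∀ y, ∃ x, A x = y) {x : E}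
    (hx : A x = 0) : x = 0 := by
  by_contra hx0
  have hc := c_ne hB hx0 hA hs
  apply hx0
  apply hB.nd
  intro y
  have h1 := hA.form x y
  rw [hx, map_zero, LinearMap.zero_apply] at h1
  have h2 : φ (B x y) = 0 := (mul_eq_zero.1 h1.symm).resolve_left hc
  exact (map_eq_zero φ).1 h2

/-- an element fixing the coordinate `j` of some vector concentrated in `j` fixes the coordinate `j` -/
theorem perm_eq {h : G} {σ : Equiv.Perm (Fin r)}
    (hσ : ∀ j, ∃ (φ : F ≃+* F) (c : F) (A : E → E), Sim B φ c A ∧ ∀ v ∈ N, M.e (h * v * h⁻¹) (σ j) = A (M.e v j))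
    {j j' : Fin r} {y : E} {v : G} (hv : v ∈ N) (hy : At M j y v) (hne : M.e (h * v * h⁻¹) j' ≠ 0) : σ j = j' := by
  by_contra hcon
  obtain ⟨k, hk⟩ : ∃ k, σ k = j' := ⟨σ.symm j', σ.apply_symm_apply j'⟩
  have hkj : k ≠ j := fun h1 => hcon (h1 ▸ hk)
  obtain ⟨φ, c, A, hA, hAe⟩ := hσ k
  apply hne
  rw [← hk, hAe v hv, hy.2 k hkj, hA.zero]

/-! ### Elements acting on one coordinate -/

theorem On.one (j : Fin r) : On M j id 1 := by
  intro v hv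
  rw [one_mul, inv_one, mul_one]
  exact ⟨rfl, fun _ _ => rfl⟩

variable {M}

theorem On.mul {j : Fin r} {A A' : E → E} {g g' : G} (hg' : g' ∈ H) (h : On M j A g) (h' : On M j A' g') :
    On M j (fun x => A (A' x)) (g * g') := by
  intro v hv
  have e : g * g' * v * (g * g')⁻¹ = g * (g' * v * g'⁻¹) * g⁻¹ := by group
  have h1 := h _ (M.nor g' hg' v hv)
  have h2 := h' v hv
  rw [e]
  exact ⟨by rw [h1.1, h2.1], fun k hk => by rw [h1.2 k hk, h2.2 k hk]⟩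

theorem On.at {j : Fin r} {A : E → E} {g : G} (h : On M j A g) {v : G} (hv : v ∈ N) {y : E} (hy : At M j y v) :
    At M j (A y) (g * v * g⁻¹) := by
  refine ⟨?_, fun k hk => ?_⟩
  · rw [(h v hv).1, hy.1]
  · rw [(h v hv).2 k hk, hy.2 k hk]

/-- conjugating a transvection by an element of `H` -/
theorem On.conj {h : G} (hh : h ∈ H) {σ : Equiv.Perm (Fin r)}
    (hσ : ∀ j, ∃ (φ : F ≃+* F) (c : F) (A : E → E), Sim B φ c A ∧ ∀ v ∈ N, M.e (h * v * h⁻¹) (σ j) = A (M.e v j))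
    {j : Fin r} {φ : F ≃+* F} {c : F} {A : E → E} (hA : Sim B φ c A)
    (hAe : ∀ v ∈ N, M.e (h * v * h⁻¹) (σ j) = A (M.e v j)) {u : E} (hc : c ≠ 0) {a : F} {g : G} (hgH : g ∈ H)
    (hg : On M j (tvn B u a) g) : On M (σ j) (tvn B (A u) (φ a * c⁻¹)) (h * g * h⁻¹) := by
  intro v hv
  have h1 : h⁻¹ * v * h ∈ N := by
    have := M.nor h⁻¹ (inv_mem hh) v hv
    rwa [inv_inv] at this
  have h2 := M.nor g hgH _ h1
  have e1 : h * g * h⁻¹ * v * (h * g * h⁻¹)⁻¹ = h * (g * (h⁻¹ * v * h) * g⁻¹) * h⁻¹ := by group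
  have e2 : h * (h⁻¹ * v * h) * h⁻¹ = v := by group
  have h3 := hg _ h1
  refine ⟨?_, fun k hk => ?_⟩
  · rw [e1, hAe _ h2, h3.1]
    have h4 := hAe _ h1
    rw [e2] at h4
    unfold tvn
    rw [hA.add, hA.smul, ← h4, map_mul]
    congr 2
    rw [h4, hA.form]
    field_simp
  · obtain ⟨k', hk'⟩ : ∃ k', σ k' = k := ⟨σ.symm k, σ.apply_symm_apply k⟩
    have hne : k' ≠ j := fun h5 => hk (by rw [← hk', h5])
    obtain ⟨φ', c', A', -, hA'⟩ := hσ k'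
    rw [e1, ← hk', hA' _ h2, h3.2 k' hne, ← hA' _ h1, e2]

end SpR

/-- The point `Zp`, the line `Vp` and the abelian group `Bp`. -/
structure Side (M : SpR F E r B H N Z) (Zp Vp Bp : Subgroup G) (j₀ : Fin r) (u₀ w₀ : E) : Prop where
  hB : Sy B
  HZ : H ≤ normalizer (Z : Set G)
  ZN : Z ≤ N
  ZV : Zp ≤ Vp
  VN : Vp ≤ N
  VB : Vp ≤ Bp
  NN : ∀ x ∈ N, ∀ y ∈ N, x * y = y * x
  BB : ∀ x ∈ Bp, ∀ y ∈ Bp, x * y = y * x
  NB : N ≤ normalizer (Bp : Set G)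
  DB : H ⊓ normalizer (Zp : Set G) ≤ normalizer (Bp : Set G)
  BH : Bp ≤ H
  BZ : ∀ b ∈ Bp, ∀ z ∈ Z, b * z = z * b
  f4 : ∀ x ∈ Z, ∀ z ∈ Zp, x ≠ 1 → z ≠ 1 → ∀ g : G, g * (x * z) * g⁻¹ ∉ Zp
  ZZ : ∀ x ∈ Z, x ∈ Zp → x = 1
  red : ∀ g ∈ H, (∀ z ∈ Z, g * z = z * g) → (∀ v ∈ N, g * v * g⁻¹ * v⁻¹ ∈ Z) → ∀ v ∈ N, g * v = v * g
  hu : u₀ ≠ 0
  hw : ∀ a : F, w₀ ≠ a • u₀
  hwu : B w₀ u₀ = 0
  pt : ∀ x ∈ Zp, ∃ a : F, At M j₀ (a • u₀) x
  pt' : ∀ a : F, ∃ x ∈ Zp, At M j₀ (a • u₀) x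
  ln : ∀ x ∈ Vp, ∃ a b : F, At M j₀ (a • u₀ + b • w₀) x
  ln' : ∀ a b : F, ∃ x ∈ Vp, At M j₀ (a • u₀ + b • w₀) x

namespace Side

variable [Finite G] {M : SpR F E r B H N Z} {Zp Vp Bp : Subgroup G} {j₀ : Fin r} {u₀ w₀ : E}
  (D : Side M Zp Vp Bp j₀ u₀ w₀)

include D

theorem conj_eq {g z z' : G} (hg : g ∈ H) (hz : z ∈ Zp) (hz' : z' ∈ Zp) (h : M.e (g * z * g⁻¹) = M.e z') :
    g * z * g⁻¹ = z' := by
  have hzN : z ∈ N := D.VN (D.ZV hz)
  have hz'N : z' ∈ N := D.VN (D.ZV hz')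
  have h1 : g * z * g⁻¹ * z'⁻¹ ∈ Z := M.div_mem (M.nor g hg z hzN) hz'N h
  by_cases hz1 : z' = 1
  · rw [hz1, inv_one, mul_one] at h1
    have h2 : z ∈ Z := (mem_normalizer_iff.1 (D.HZ hg) z).2 h1
    have h3 := D.ZZ z h2 hz
    rw [h3, hz1]; group
  by_contra hne
  have h2 : g * z * g⁻¹ * z'⁻¹ ≠ 1 := fun h3 => hne (mul_inv_eq_one.1 h3)
  apply D.f4 _ h1 z' hz' h2 hz1 g⁻¹
  have e : g⁻¹ * (g * z * g⁻¹ * z'⁻¹ * z') * g⁻¹⁻¹ = z := by group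
  rw [e]
  exact hz

/-- an element of `H` preserving `F u₀` at `j₀` normalises `Zp` -/
theorem mem_norm {g : G} (hg : g ∈ H) (h : ∀ z ∈ Zp, ∃ b : F, At M j₀ (b • u₀) (g * z * g⁻¹)) :
    g ∈ H ⊓ normalizer (Zp : Set G) := by
  refine ⟨hg, ?_⟩
  have h1 : ∀ z ∈ Zp, g * z * g⁻¹ ∈ Zp := by
    intro z hz
    obtain ⟨b, hb⟩ := h z hz
    obtain ⟨z', hz', hz''⟩ := D.pt' b
    rw [D.conj_eq hg hz hz' (SpR.At.eq hb hz'')]
    exact hz'
  exact mem_normalizer_fintype h1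

/-- the lifts of transvections of the coordinate `j` are in `D` when `j ≠ j₀` or the centre is in `u₀^⊥` -/
theorem lift_mem {g : G} (hg : g ∈ H) {j : Fin r} {u : E} {a : F} (h : On M j (tvn B u a) g)
    (hju : j ≠ j₀ ∨ B u₀ u = 0) : g ∈ H ⊓ normalizer (Zp : Set G) := by
  refine D.mem_norm hg fun z hz => ?_
  obtain ⟨b, hb⟩ := D.pt z hz
  refine ⟨b, ?_⟩
  have h1 := h z (D.VN (D.ZV hz))
  by_cases hj : j = j₀
  · have h2 := hju.resolve_left fun h3 => h3 hj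
    subst hj
    have h3 := SpR.On.at h (D.VN (D.ZV hz)) hb
    rwa [Sy.tvn_of_perp _ (by rw [map_smul, LinearMap.smul_apply, h2, smul_zero])] at h3
  · refine ⟨?_, fun k hk => ?_⟩
    · rw [h1.2 j₀ (fun h3 => hj h3.symm), hb.1]
    · by_cases hkj : k = j
      · rw [hkj, h1.1, hb.2 j (hkj ▸ hk)]
        unfold tvn
        simp
      · rw [h1.2 k hkj, hb.2 k hk]

theorem exists_lift (j : Fin r) (u : E) (a : F) : ∃ g ∈ H, (∀ z ∈ Z, g * z = z * g) ∧ On M j (tvn B u a) g := by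
  obtain ⟨g, hg, h1, h2⟩ := M.lift j u a
  exact ⟨g, hg, h1, h2⟩

/-- an element of `D` fixes the coordinate `j₀` -/
theorem perm_fix {d : G} (hd : d ∈ H ⊓ normalizer (Zp : Set G)) {σ : Equiv.Perm (Fin r)}
    (hσ : ∀ j, ∃ (φ : F ≃+* F) (c : F) (A : E → E), Sim B φ c A ∧ ∀ v ∈ N, M.e (d * v * d⁻¹) (σ j) = A (M.e v j)) :
    σ j₀ = j₀ := by
  obtain ⟨z, hz, hz1⟩ := D.pt' 1
  rw [one_smul] at hz1
  have h1 : d * z * d⁻¹ ∈ Zp := (mem_normalizer_iff.1 hd.2 z).1 hz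
  obtain ⟨a, ha⟩ := D.pt _ h1
  refine SpR.perm_eq M hσ (D.VN (D.ZV hz)) hz1 ?_
  rw [ha.1]
  intro h2
  -- `d z d⁻¹ ∈ Z`, so `z ∈ Z`
  have h3 : M.e (d * z * d⁻¹) = 0 := by
    rw [M.at_iff.1 ha, h2, Pi.single_zero]
  have h4 := (M.ker _ (D.VN (D.ZV h1))).1 h3
  have h5 := D.ZZ _ h4 h1
  have h6 : z = 1 := conj_eq_one_iff.1 h5
  apply D.hu
  have h7 := hz1.1
  rw [h6, M.e_one] at h7
  exact h7.symm

/-- an element of `D` maps vectors concentrated in `j₀` to such vectors -/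
theorem exists_act {d : G} (hd : d ∈ H ⊓ normalizer (Zp : Set G)) : ∃ (φ : F ≃+* F) (c : F) (A : E → E),
    Sim B φ c A ∧ (∃ b : F, A u₀ = b • u₀) ∧ (∀ y, ∃ x, A x = y) ∧ c ≠ 0 ∧
      ∀ v ∈ N, ∀ y, At M j₀ y v → At M j₀ (A y) (d * v * d⁻¹) := by
  obtain ⟨σ, hσ⟩ := M.act d hd.1
  have h0 := D.perm_fix hd hσ
  obtain ⟨φ, c, A, hA, hAe⟩ := hσ j₀
  rw [h0] at hAe
  have hs : ∀ y, ∃ x, A x = y := fun y => M.act_surj hd.1 (σ := 1) (j := j₀) hAe y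
  have hat : ∀ v ∈ N, ∀ y, At M j₀ y v → At M j₀ (A y) (d * v * d⁻¹) := by
    intro v hv y hy
    refine ⟨by rw [hAe v hv, hy.1], fun k hk => ?_⟩
    obtain ⟨k', hk'⟩ : ∃ k', σ k' = k := ⟨σ.symm k, σ.apply_symm_apply k⟩
    have hne : k' ≠ j₀ := fun h1 => hk (by rw [← hk', h1, h0])
    obtain ⟨φ', c', A', hA', hAe'⟩ := hσ k'
    rw [← hk', hAe' v hv, hy.2 k' hne, hA'.zero]
  refine ⟨φ, c, A, hA, ?_, hs, SpR.c_ne D.hB D.hu hA hs, hat⟩
  obtain ⟨z, hz, hz1⟩ := D.pt' 1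
  rw [one_smul] at hz1
  obtain ⟨b, hb⟩ := D.pt _ ((mem_normalizer_iff.1 hd.2 z).1 hz)
  exact ⟨b, by rw [← (hat z (D.VN (D.ZV hz)) _ hz1).1, hb.1]⟩

/-- **(KEY)** a subgroup `K ≤ N` normalised by `D`, with an element whose coordinate at `j₀` is not in `F u₀`,
covers `u₀^⊥`. -/
theorem key {K : Subgroup G} (hKN : K ≤ N) (hDK : H ⊓ normalizer (Zp : Set G) ≤ normalizer (K : Set G)) {x : G}
    (hx : x ∈ K) (hxu : ∀ a : F, M.e x j₀ ≠ a • u₀) {y : E} (hy : B y u₀ = 0) : ∃ v ∈ K, At M j₀ y v := by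
  have hB := D.hB
  -- the subgroup of `E` covered by `K`
  let S : AddSubgroup E :=
    { carrier := {y | ∃ v ∈ K, At M j₀ y v}
      add_mem' := by
        rintro a b ⟨v, hv, hva⟩ ⟨w, hw, hwb⟩
        refine ⟨v * w, mul_mem hv hw, ?_, fun k hk => ?_⟩
        · rw [M.mul v (hKN hv) w (hKN hw), Pi.add_apply, hva.1, hwb.1]
        · rw [M.mul v (hKN hv) w (hKN hw), Pi.add_apply, hva.2 k hk, hwb.2 k hk, add_zero]
      zero_mem' := ⟨1, one_mem K, by rw [M.e_one]; rfl, fun k _ => by rw [M.e_one]; rfl⟩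
      neg_mem' := by
        rintro a ⟨v, hv, hva⟩
        refine ⟨v⁻¹, inv_mem hv, ?_, fun k hk => ?_⟩
        · rw [M.e_inv (hKN hv), Pi.neg_apply, hva.1]
        · rw [M.e_inv (hKN hv), Pi.neg_apply, hva.2 k hk, neg_zero] }
  have hcom : ∀ v ∈ K, ∀ w, B w u₀ = 0 → ∀ a : F, (a * B (M.e v j₀) w) • w ∈ S := by
    intro v hv w hw a
    obtain ⟨g, hg, -, hon⟩ := D.exists_lift j₀ w a
    have hgD := D.lift_mem hg hon (Or.inr (by rw [hB.symm]; exact hw))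
    have h1 : g * v * g⁻¹ ∈ K := (mem_normalizer_iff.1 (hDK hgD) v).1 hv
    have h2 := hon v (hKN hv)
    refine ⟨g * v * g⁻¹ * v⁻¹, mul_mem h1 (inv_mem hv), ?_, fun k hk => ?_⟩
    · rw [M.e_div (hKN h1) (hKN hv), Pi.sub_apply, h2.1]
      unfold tvn
      rw [add_sub_cancel_left]
    · rw [M.e_div (hKN h1) (hKN hv), Pi.sub_apply, h2.2 k hk, sub_self]
  have hS : ∀ x ∈ S, ∀ w, B w u₀ = 0 → ∀ a : F, (a * B x w) • w ∈ S := by
    rintro x ⟨v, hv, hvx⟩ w hw a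
    have := hcom v hv w hw a
    rwa [hvx.1] at this
  -- an element of `S` outside `F u₀`
  obtain ⟨w, hw, hwx, hwF⟩ : ∃ w, B w u₀ = 0 ∧ B (M.e x j₀) w ≠ 0 ∧ ∀ a : F, w ≠ a • u₀ := by
    by_cases h1 : B (M.e x j₀) u₀ = 0
    · obtain ⟨w, hw, hwx⟩ := hB.exists_perp hxu
      refine ⟨w, hw, by rw [hB.symm]; exact hwx, fun a ha => hwx ?_⟩
      rw [ha, map_smul, LinearMap.smul_apply, hB.symm, h1, smul_zero]
    · by_cases h2 : B (M.e x j₀) w₀ = 0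
      · refine ⟨w₀ + u₀, ?_, ?_, fun a ha => D.hw (a - 1) ?_⟩
        · rw [map_add, LinearMap.add_apply, D.hwu, hB.alt, add_zero]
        · rw [map_add, h2, zero_add]; exact h1
        · rw [sub_smul, one_smul, ← ha, add_sub_cancel_right]
      · exact ⟨w₀, D.hwu, h2, D.hw⟩
  have hwS : w ∈ S := by
    have h1 := hcom x hx w hw (B (M.e x j₀) w)⁻¹
    rwa [inv_mul_cancel₀ hwx, one_smul] at h1
  exact hB.perp_le hS hwS hwF hy

/-- **`Bp` acts trivially on the coordinates `≠ j₀`.** -/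
theorem other {g : G} (hg : g ∈ Bp) {j : Fin r} (hj : j ≠ j₀) {v : G} (hv : v ∈ N) :
    M.e (g * v * g⁻¹) j = M.e v j := by
  have hB := D.hB
  by_contra hne
  -- `i = [g, v] ∈ N ∩ Bp`
  have hgv : g * v * g⁻¹ ∈ N := M.nor g (D.BH hg) v hv
  have hiN : g * v * g⁻¹ * v⁻¹ ∈ N := mul_mem hgv (inv_mem hv)
  have hiB : g * v * g⁻¹ * v⁻¹ ∈ Bp := by
    have h1 := (mem_normalizer_iff.1 (D.NB hv) g⁻¹).1 (inv_mem hg)
    have e : g * v * g⁻¹ * v⁻¹ = g * (v * g⁻¹ * v⁻¹) := by group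
    rw [e]
    exact mul_mem hg h1
  have hx0 : M.e (g * v * g⁻¹ * v⁻¹) j ≠ 0 := by
    rw [M.e_div hgv hv, Pi.sub_apply]
    exact sub_ne_zero.2 hne
  -- `N ∩ Bp` covers the coordinate `j`
  let S : AddSubgroup E :=
    { carrier := {y | ∃ v ∈ N ⊓ Bp, At M j y v}
      add_mem' := by
        rintro a b ⟨v, hv, hva⟩ ⟨w, hw, hwb⟩
        refine ⟨v * w, mul_mem hv hw, ?_, fun k hk => ?_⟩
        · rw [M.mul v hv.1 w hw.1, Pi.add_apply, hva.1, hwb.1]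
        · rw [M.mul v hv.1 w hw.1, Pi.add_apply, hva.2 k hk, hwb.2 k hk, add_zero]
      zero_mem' := ⟨1, one_mem _, by rw [M.e_one]; rfl, fun k _ => by rw [M.e_one]; rfl⟩
      neg_mem' := by
        rintro a ⟨v, hv, hva⟩
        refine ⟨v⁻¹, inv_mem hv, ?_, fun k hk => ?_⟩
        · rw [M.e_inv hv.1, Pi.neg_apply, hva.1]
        · rw [M.e_inv hv.1, Pi.neg_apply, hva.2 k hk, neg_zero] }
  have hcom : ∀ v ∈ N ⊓ Bp, ∀ (w : E) (a : F), (a * B (M.e v j) w) • w ∈ S := by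
    intro v hv0 w a
    have hvN : v ∈ N := hv0.1
    have hvB : v ∈ Bp := hv0.2
    obtain ⟨d, hd, -, hon⟩ := D.exists_lift j w a
    have hdD := D.lift_mem hd hon (Or.inl hj)
    have h1 : d * v * d⁻¹ ∈ N := M.nor d hd v hvN
    have h1' : d * v * d⁻¹ ∈ Bp := (mem_normalizer_iff.1 (D.DB hdD) v).1 hvB
    have h2 := hon v hvN
    refine ⟨d * v * d⁻¹ * v⁻¹, mem_inf.2 ⟨mul_mem h1 (inv_mem hvN), mul_mem h1' (inv_mem hvB)⟩, ?_,
      fun k hk => ?_⟩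
    · rw [M.e_div h1 hvN, Pi.sub_apply, h2.1]
      unfold tvn
      rw [add_sub_cancel_left]
    · rw [M.e_div h1 hvN, Pi.sub_apply, h2.2 k hk, sub_self]
  have hS : ∀ x ∈ S, ∀ w, B w 0 = 0 → ∀ a : F, (a * B x w) • w ∈ S := by
    rintro x ⟨v, hv, hvx⟩ w - a
    have := hcom v hv w a
    rwa [hvx.1] at this
  have hall : ∀ y : E, y ∈ S := by
    obtain ⟨w, -, hwx⟩ := hB.exists_perp (u := 0) (x := M.e (g * v * g⁻¹ * v⁻¹) j) (fun a ha => hx0 (by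
      rw [ha, smul_zero]))
    have hwx' : B (M.e (g * v * g⁻¹ * v⁻¹) j) w ≠ 0 := by rw [hB.symm]; exact hwx
    have hwS : w ∈ S := by
      have h1 := hcom _ ⟨hiN, hiB⟩ w (B (M.e (g * v * g⁻¹ * v⁻¹) j) w)⁻¹
      rwa [inv_mul_cancel₀ hwx', one_smul] at h1
    intro y
    refine hB.perp_le hS hwS (fun a ha => hwx ?_) (map_zero _)
    rw [ha, smul_zero, map_zero, LinearMap.zero_apply]
  -- so `g` centralises all vectors concentrated in `j`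
  have hfix : ∀ (y : E), ∀ w ∈ N, At M j y w → g * w * g⁻¹ = w := by
    intro y w hw hwy
    obtain ⟨x, ⟨hxN, hxB⟩, hxy⟩ := hall y
    have h1 : w * x⁻¹ ∈ Z := M.div_mem hw hxN (SpR.At.eq hwy hxy)
    have h2 := D.BZ g hg _ h1
    have h3 := D.BB g hg x hxB
    have e : g * w * g⁻¹ = g * (w * x⁻¹) * x * g⁻¹ := by group
    rw [e, h2]
    calc w * x⁻¹ * g * x * g⁻¹ = w * x⁻¹ * (g * x) * g⁻¹ := by group
      _ = w := by rw [h3]; group
  -- contradiction with the action of `g`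
  obtain ⟨σ, hσ⟩ := M.act g (D.BH hg)
  obtain ⟨φ, c, A, hA, hAe⟩ := hσ j
  have hσj : σ j = j := by
    obtain ⟨w, hw, hwx⟩ := M.exists_at j (M.e (g * v * g⁻¹ * v⁻¹) j)
    refine M.perm_eq hσ hw hwx ?_
    rw [hfix _ w hw hwx, hwx.1]
    exact hx0
  rw [hσj] at hAe
  apply hne
  obtain ⟨w, hw, hwy⟩ := M.exists_at j (M.e v j)
  rw [hAe v hv, ← hwy.1, ← hAe w hw, hfix _ w hw hwy, hwy.1]

/-- **`Bp` acts on the coordinate `j₀` by transvections with centre `u₀`.** -/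
theorem tv {g : G} (hg : g ∈ Bp) : ∃ l : F, On M j₀ (tvn B u₀ l) g := by
  have hB := D.hB
  -- `N ∩ Bp` covers `u₀^⊥`
  have hcov : ∀ y, B y u₀ = 0 → ∃ v ∈ N ⊓ Bp, At M j₀ y v := by
    intro y hy
    obtain ⟨x, hx, hx1⟩ := D.ln' 0 1
    rw [zero_smul, zero_add, one_smul] at hx1
    refine D.key (K := N ⊓ Bp) inf_le_left ?_ (x := x) ⟨D.VN hx, D.VB hx⟩ ?_ hy
    · intro d hd
      have h1 := D.DB hd
      have key : ∀ d ∈ H ⊓ normalizer (Zp : Set G), ∀ x ∈ N ⊓ Bp, d * x * d⁻¹ ∈ N ⊓ Bp := fun d hd x hx =>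
        ⟨M.nor d hd.1 x hx.1, (mem_normalizer_iff.1 (D.DB hd) x).1 hx.2⟩
      rw [mem_normalizer_iff]
      intro x
      refine ⟨key d hd x, fun hx => ?_⟩
      have h2 := key d⁻¹ (inv_mem hd) _ hx
      have e : d⁻¹ * (d * x * d⁻¹) * d⁻¹⁻¹ = x := by group
      rwa [e] at h2
    · intro a ha
      rw [hx1.1] at ha
      exact D.hw a ha
  have hfix : ∀ y, B y u₀ = 0 → ∀ w ∈ N, At M j₀ y w → g * w * g⁻¹ = w := by
    intro y hy w hw hwy
    obtain ⟨x, ⟨hxN, hxB⟩, hxy⟩ := hcov y hy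
    have h1 : w * x⁻¹ ∈ Z := M.div_mem hw hxN (SpR.At.eq hwy hxy)
    have h2 := D.BZ g hg _ h1
    have h3 := D.BB g hg x hxB
    have e : g * w * g⁻¹ = g * (w * x⁻¹) * x * g⁻¹ := by group
    rw [e, h2]
    calc w * x⁻¹ * g * x * g⁻¹ = w * x⁻¹ * (g * x) * g⁻¹ := by group
      _ = w := by rw [h3]; group
  obtain ⟨σ, hσ⟩ := M.act g (D.BH hg)
  have hσj : σ j₀ = j₀ := by
    obtain ⟨w, hw, hwx⟩ := M.exists_at j₀ u₀
    refine M.perm_eq hσ hw hwx ?_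
    rw [hfix _ (hB.alt _) w hw hwx, hwx.1]
    exact D.hu
  obtain ⟨φ, c, A, hA, hAe⟩ := hσ j₀
  rw [hσj] at hAe
  obtain ⟨l, hl⟩ := hA.eq_tvn hB D.hu (fun x hx => by
    obtain ⟨w, hw, hwx⟩ := M.exists_at j₀ x
    rw [← hwx.1, ← hAe w hw, hfix x hx w hw hwx]) D.hwu D.hw
  exact ⟨l, fun v hv => ⟨by rw [hAe v hv, hl], fun k hk => D.other hg hk hv⟩⟩

/-- `[g, v] ∈ Zp Z` for `g ∈ Bp` -/
theorem comm_mem {g v : G} (hg : g ∈ Bp) (hv : v ∈ N) : ∃ z ∈ Zp, ∃ z' ∈ Z, g * v * g⁻¹ * v⁻¹ = z' * z := by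
  obtain ⟨l, hl⟩ := D.tv hg
  have h1 := hl v hv
  have hgv : g * v * g⁻¹ ∈ N := M.nor g (D.BH hg) v hv
  obtain ⟨z, hz, hz1⟩ := D.pt' (l * B (M.e v j₀) u₀)
  have h2 : M.e (g * v * g⁻¹ * v⁻¹) = M.e z := by
    rw [M.e_div hgv hv, M.at_iff.1 hz1]
    funext k
    by_cases hk : k = j₀
    · subst hk
      rw [Pi.sub_apply, h1.1, Pi.single_eq_same]
      unfold tvn
      rw [add_sub_cancel_left]
    · rw [Pi.sub_apply, h1.2 k hk, sub_self, Pi.single_eq_of_ne hk]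
  exact ⟨z, hz, _, M.div_mem (mul_mem hgv (inv_mem hv)) (D.VN (D.ZV hz)) h2, by group⟩

/-- `K ≤ Bp` normalised by `D` and not centralising `N` induces all transvections with centre `u₀` -/
theorem full [Finite F] {K : Subgroup G} (hKB : K ≤ Bp) (hDK : H ⊓ normalizer (Zp : Set G) ≤ normalizer (K : Set G))
    (hne : ∃ g ∈ K, ∃ v ∈ N, g * v ≠ v * g) (l : F) : ∃ g ∈ K, On M j₀ (tvn B u₀ l) g := by
  have hB := D.hB
  obtain ⟨g, hg, v, hv, hgv⟩ := hne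
  obtain ⟨m, hm⟩ := D.tv (hKB hg)
  have hm0 : m ≠ 0 := by
    intro h0
    apply hgv
    refine D.red g (D.BH (hKB hg)) (D.BZ g (hKB hg)) (fun w hw => ?_) v hv
    refine M.div_mem (M.nor g (D.BH (hKB hg)) w hw) hw ?_
    funext k
    by_cases hk : k = j₀
    · subst hk
      rw [(hm w hw).1, h0]
      unfold tvn
      rw [zero_mul, zero_smul, add_zero]
    · exact (hm w hw).2 k hk
  -- `l = m b²`
  obtain ⟨b, hb⟩ : ∃ b : F, b * b = l * m⁻¹ := by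
    have hinj : Function.Injective fun x : F => x * x := by
      intro x y hxy
      have h1 : (x - y) * (x - y) = 0 := by
        have h2 : x * x - y * y = 0 := sub_eq_zero.2 hxy
        have h3 : (x - y) * (x - y) = (x * x - y * y) + 2 * (y * y - x * y) := by ring
        rw [h3, h2, hB.two, zero_mul, add_zero]
      exact sub_eq_zero.1 (mul_self_eq_zero.1 h1)
    exact Finite.surjective_of_injective hinj (l * m⁻¹)
  by_cases hb0 : b = 0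
  · refine ⟨1, one_mem K, ?_⟩
    have hl : l = 0 := by
      rw [hb0, zero_mul] at hb
      exact (mul_eq_zero.1 hb.symm).resolve_right (inv_ne_zero hm0)
    intro w hw
    rw [hl, one_mul, inv_one, mul_one]
    refine ⟨?_, fun _ _ => rfl⟩
    unfold tvn
    rw [zero_mul, zero_smul, add_zero]
  -- an element of `D` with `u₀ ↦ b u₀`
  have hne0 : ∀ {x : E}, x ≠ 0 → ∀ a : F, x ≠ a • (0 : E) := fun hx a h => hx (by rw [h, smul_zero])
  obtain ⟨w₁, w₂, a₁, a₂, -, -, -, -, hmv⟩ := hB.tra (u := 0) (x := u₀) (y := b • u₀) (map_zero _) (hne0 D.hu)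
    (map_zero _) (hne0 (smul_ne_zero hb0 D.hu))
  obtain ⟨d₁, hd₁, -, hon₁⟩ := D.exists_lift j₀ w₁ a₁
  obtain ⟨d₂, hd₂, -, hon₂⟩ := D.exists_lift j₀ w₂ a₂
  have hon := SpR.On.mul hd₁ hon₂ hon₁
  have hd : d₂ * d₁ ∈ H := mul_mem hd₂ hd₁
  have ht₁ := hB.tvn_sim w₁ a₁
  have ht₂ := hB.tvn_sim w₂ a₂
  have hsim : Sim B (RingEquiv.refl F) 1 fun x => tvn B w₂ a₂ (tvn B w₁ a₁ x) := by
    refine ⟨fun x y => ?_, fun c x => ?_, fun x y => ?_⟩
    · rw [ht₁.add, ht₂.add]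
    · rw [ht₁.smul, ht₂.smul]; rfl
    · rw [ht₂.form, ht₁.form]; simp
  have hdD : d₂ * d₁ ∈ H ⊓ normalizer (Zp : Set G) := by
    refine D.mem_norm hd fun z hz => ?_
    obtain ⟨a, ha⟩ := D.pt z hz
    refine ⟨a * b, ?_⟩
    have h1 := SpR.On.at hon (D.VN (D.ZV hz)) ha
    rw [hsim.smul, hmv, RingEquiv.refl_apply, smul_smul] at h1
    exact h1
  obtain ⟨σ, hσ⟩ := M.act _ hd
  have hσj := D.perm_fix hdD hσ
  refine ⟨d₂ * d₁ * g * (d₂ * d₁)⁻¹, (mem_normalizer_iff.1 (hDK hdD) g).1 hg, ?_⟩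
  -- conjugation
  have h1 := SpR.On.conj (M := M) hd hσ hsim (fun v hv => by rw [hσj]; exact (hon v hv).1) (u := u₀) one_ne_zero
    (D.BH (hKB hg)) hm
  rw [hσj, hmv, RingEquiv.refl_apply, inv_one, mul_one] at h1
  have h2 : tvn B (b • u₀) m = tvn B u₀ l := by
    funext x
    unfold tvn
    rw [map_smul, smul_eq_mul, smul_smul]
    congr 2
    have h3 : l = m * (b * b) := by rw [hb]; field_simp
    rw [h3]; ring
  rwa [h2] at h1

/-- the conjugates of `K` under `H` induce all transvections of all coordinates -/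
theorem all [Finite F] {K R : Subgroup G} (hKB : K ≤ Bp) (hDK : H ⊓ normalizer (Zp : Set G) ≤ normalizer (K : Set G))
    (hne : ∃ g ∈ K, ∃ v ∈ N, g * v ≠ v * g) (hR : ∀ h ∈ H, ∀ g ∈ K, h * g * h⁻¹ ∈ R) (j : Fin r) (u : E) (a : F) :
    ∃ g ∈ R, g ∈ H ∧ (∀ z ∈ Z, g * z = z * g) ∧ On M j (tvn B u a) g := by
  have hB := D.hB
  by_cases hu : u = 0
  · refine ⟨1, one_mem R, one_mem H, fun z _ => by rw [one_mul, mul_one], ?_⟩
    intro w hw
    rw [one_mul, inv_one, mul_one, hu]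
    refine ⟨?_, fun _ _ => rfl⟩
    unfold tvn
    rw [smul_zero, add_zero]
  -- move the coordinate `j₀` to `j`
  obtain ⟨h, hh, htr⟩ := M.tr j₀ j
  obtain ⟨σ, hσ⟩ := M.act h hh
  obtain ⟨v₀, hv₀, hv₀u⟩ := M.exists_at j₀ u₀
  have hσj : σ j₀ = j := by
    refine M.perm_eq hσ hv₀ hv₀u fun h1 => ?_
    exact D.hu (hv₀u.1.symm.trans ((htr v₀ hv₀).1 h1))
  obtain ⟨φ, c, A, hA, hAe⟩ := hσ j₀
  have hs := fun y => M.act_surj hh hAe y
  have hc := SpR.c_ne hB D.hu hA hs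
  have hAu : A u₀ ≠ 0 := fun h1 => D.hu (SpR.inj_of hB hA hs h1)
  -- move `A u₀` to `u`
  have hne0 : ∀ {x : E}, x ≠ 0 → ∀ a : F, x ≠ a • (0 : E) := fun hx a h => hx (by rw [h, smul_zero])
  obtain ⟨w₁, w₂, a₁, a₂, -, -, -, -, hmv⟩ := hB.tra (u := 0) (x := A u₀) (y := u) (map_zero _) (hne0 hAu)
    (map_zero _) (hne0 hu)
  obtain ⟨d₁, hd₁, -, hon₁⟩ := D.exists_lift j w₁ a₁
  obtain ⟨d₂, hd₂, -, hon₂⟩ := D.exists_lift j w₂ a₂
  have hon := SpR.On.mul hd₁ hon₂ hon₁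
  have hd : d₂ * d₁ ∈ H := mul_mem hd₂ hd₁
  have ht₁ := hB.tvn_sim w₁ a₁
  have ht₂ := hB.tvn_sim w₂ a₂
  have hsim : Sim B (RingEquiv.refl F) 1 fun x => tvn B w₂ a₂ (tvn B w₁ a₁ x) := by
    refine ⟨fun x y => ?_, fun c x => ?_, fun x y => ?_⟩
    · rw [ht₁.add, ht₂.add]
    · rw [ht₁.smul, ht₂.smul]; rfl
    · rw [ht₂.form, ht₁.form]; simp
  obtain ⟨τ, hτ⟩ := M.act _ hd
  have hτj : τ j = j := by
    obtain ⟨w, hw, hwA⟩ := M.exists_at j (A u₀)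
    refine M.perm_eq hτ hw hwA ?_
    rw [(SpR.On.at hon hw hwA).1, hmv]
    exact hu
  obtain ⟨g, hg, hgon⟩ := D.full hKB hDK hne (φ.symm (a * c))
  have h1 := SpR.On.conj (M := M) hh hσ hA hAe (u := u₀) hc (D.BH (hKB hg)) hgon
  have hgH : h * g * h⁻¹ ∈ H := mul_mem (mul_mem hh (D.BH (hKB hg))) (inv_mem hh)
  rw [hσj, φ.apply_symm_apply, mul_assoc, mul_inv_cancel₀ hc, mul_one] at h1
  have h2 := SpR.On.conj (M := M) hd hτ hsim (fun v hv => by rw [hτj]; exact (hon v hv).1) (u := A u₀) one_ne_zero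
    hgH h1
  rw [hτj, hmv, RingEquiv.refl_apply, inv_one, mul_one] at h2
  have h3 : d₂ * d₁ * (h * g * h⁻¹) * (d₂ * d₁)⁻¹ = (d₂ * d₁ * h) * g * (d₂ * d₁ * h)⁻¹ := by group
  refine ⟨_, ?_, mul_mem (mul_mem hd hgH) (inv_mem hd), ?_, h2⟩
  · rw [h3]
    exact hR _ (mul_mem hd hh) g hg
  · -- centralises `Z`
    intro z hz
    rw [h3]
    have hx : (d₂ * d₁ * h)⁻¹ ∈ H := inv_mem (mul_mem hd hh)
    have h4 : (d₂ * d₁ * h)⁻¹ * z * (d₂ * d₁ * h) ∈ Z := by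
      have := (mem_normalizer_iff.1 (D.HZ hx) z).1 hz
      rwa [inv_inv] at this
    have h5 := D.BZ g (hKB hg) _ h4
    calc d₂ * d₁ * h * g * (d₂ * d₁ * h)⁻¹ * z
        = d₂ * d₁ * h * (g * ((d₂ * d₁ * h)⁻¹ * z * (d₂ * d₁ * h))) * (d₂ * d₁ * h)⁻¹ := by group
      _ = z * (d₂ * d₁ * h * g * (d₂ * d₁ * h)⁻¹) := by rw [h5]; group

/-- products of transvections of one coordinate -/
theorem all_comp [Finite F] {K R : Subgroup G} (hKB : K ≤ Bp)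
    (hDK : H ⊓ normalizer (Zp : Set G) ≤ normalizer (K : Set G))
    (hne : ∃ g ∈ K, ∃ v ∈ N, g * v ≠ v * g) (hR : ∀ h ∈ H, ∀ g ∈ K, h * g * h⁻¹ ∈ R) (j : Fin r)
    (l : List (E × F)) : ∃ g ∈ R, g ∈ H ∧ (∀ z ∈ Z, g * z = z * g) ∧ On M j (Sy.comp B l) g := by
  induction l with
  | nil =>
    refine ⟨1, one_mem R, one_mem H, fun z _ => by rw [one_mul, mul_one], ?_⟩
    intro w hw
    rw [one_mul, inv_one, mul_one]
    exact ⟨rfl, fun _ _ => rfl⟩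
  | cons p l ih =>
    obtain ⟨g, hg, hgH, hgZ, hgon⟩ := ih
    obtain ⟨g', hg', hgH', hgZ', hgon'⟩ := D.all hKB hDK hne hR j p.1 p.2
    refine ⟨g' * g, mul_mem hg' hg, mul_mem hgH' hgH, fun z hz => ?_, ?_⟩
    · rw [mul_assoc, hgZ z hz, ← mul_assoc, hgZ' z hz, mul_assoc]
    · have h1 := SpR.On.mul hgH hgon' hgon
      intro v hv
      exact h1 v hv

/-- **`⟨K^H⟩` induces every element of `Sp(E)^r`** -/
theorem all_iso [Finite F] [FiniteDimensional F E] {K R : Subgroup G} (hKB : K ≤ Bp)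
    (hDK : H ⊓ normalizer (Zp : Set G) ≤ normalizer (K : Set G))
    (hne : ∃ g ∈ K, ∃ v ∈ N, g * v ≠ v * g) (hR : ∀ h ∈ H, ∀ g ∈ K, h * g * h⁻¹ ∈ R) {A : Fin r → E → E}
    (hA : ∀ j, Sim B (RingEquiv.refl F) 1 (A j)) :
    ∃ g ∈ R, g ∈ H ∧ (∀ z ∈ Z, g * z = z * g) ∧ ∀ v ∈ N, ∀ j, M.e (g * v * g⁻¹) j = A j (M.e v j) := by
  classical
  have key : ∀ s : Finset (Fin r), ∃ g ∈ R, g ∈ H ∧ (∀ z ∈ Z, g * z = z * g) ∧
      ∀ v ∈ N, (∀ j ∈ s, M.e (g * v * g⁻¹) j = A j (M.e v j)) ∧ ∀ j, j ∉ s → M.e (g * v * g⁻¹) j = M.e v j := by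
    intro s
    induction s using Finset.induction_on with
    | empty =>
      refine ⟨1, one_mem R, one_mem H, fun z _ => by rw [one_mul, mul_one], fun v hv => ⟨fun j hj => ?_, fun j _ => ?_⟩⟩
      · exact absurd hj (Finset.notMem_empty j)
      · rw [one_mul, inv_one, mul_one]
    | insert j s hj ih =>
      obtain ⟨g, hg, hgH, hgZ, hgv⟩ := ih
      obtain ⟨l, hl⟩ := D.hB.exists_list (hA j)
      obtain ⟨g', hg', hgH', hgZ', hgon'⟩ := D.all_comp hKB hDK hne hR j l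
      refine ⟨g' * g, mul_mem hg' hg, mul_mem hgH' hgH, fun z hz => ?_, fun v hv => ?_⟩
      · rw [mul_assoc, hgZ z hz, ← mul_assoc, hgZ' z hz, mul_assoc]
      · have e : g' * g * v * (g' * g)⁻¹ = g' * (g * v * g⁻¹) * g'⁻¹ := by group
        have h1 := hgon' _ (M.nor g hgH v hv)
        rw [e]
        refine ⟨fun k hk => ?_, fun k hk => ?_⟩
        · by_cases hkj : k = j
          · rw [hkj, h1.1, (hgv v hv).2 j hj, hl]
          · rw [h1.2 k hkj, (hgv v hv).1 k ((Finset.mem_insert.1 hk).resolve_left hkj)]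
        · have hkj : k ≠ j := fun h2 => hk (h2 ▸ Finset.mem_insert_self _ _)
          rw [h1.2 k hkj, (hgv v hv).2 k fun h2 => hk (Finset.mem_insert_of_mem h2)]
  obtain ⟨g, hg, hgH, hgZ, hgv⟩ := key Finset.univ
  exact ⟨g, hg, hgH, hgZ, fun v hv j => (hgv v hv).1 j (Finset.mem_univ j)⟩

/-- **an involution centralising `Z` and a point in each coordinate lies in `C(N) ⟨K^H⟩`** -/
theorem gen [Finite F] [FiniteDimensional F E] {K R : Subgroup G} (hKB : K ≤ Bp)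
    (hDK : H ⊓ normalizer (Zp : Set G) ≤ normalizer (K : Set G))
    (hne : ∃ g ∈ K, ∃ v ∈ N, g * v ≠ v * g) (hR : ∀ h ∈ H, ∀ g ∈ K, h * g * h⁻¹ ∈ R) {t : G} (ht : t ∈ H)
    (htZ : ∀ z ∈ Z, t * z = z * t) (ht2 : t * t = 1)
    (hfix : ∀ j, ∃ u : E, u ≠ 0 ∧ ∀ a : F, ∃ y ∈ N, At M j (a • u) y ∧ t * y * t⁻¹ = y) :
    ∃ g ∈ R, g ∈ H ∧ ∀ v ∈ N, t * g⁻¹ * v = v * (t * g⁻¹) := by
  have hB := D.hB
  obtain ⟨σ, hσ⟩ := M.act t ht
  have hσj : ∀ j, σ j = j := by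
    intro j
    obtain ⟨u, hu, hy⟩ := hfix j
    obtain ⟨y, hyN, hy1, hyt⟩ := hy 1
    rw [one_smul] at hy1
    refine M.perm_eq hσ hyN hy1 ?_
    rw [hyt, hy1.1]
    exact hu
  have hA : ∀ j, ∃ A : E → E, Sim B (RingEquiv.refl F) 1 A ∧ ∀ v ∈ N, M.e (t * v * t⁻¹) j = A (M.e v j) := by
    intro j
    obtain ⟨φ, c, A, hA, hAe⟩ := hσ j
    rw [hσj j] at hAe
    obtain ⟨u, hu, hy⟩ := hfix j
    have hφ : ∀ a, φ a = a := hA.phi_eq hu fun a => by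
      obtain ⟨y, hyN, hy1, hyt⟩ := hy a
      rw [← hy1.1, ← hAe y hyN, hyt]
    have hAA : ∀ x, A (A x) = x := by
      intro x
      obtain ⟨v, hv, hvx, -⟩ := M.exists_at j x
      have h1 := M.nor t ht v hv
      rw [← hvx, ← hAe v hv, ← hAe _ h1]
      have e : t * (t * v * t⁻¹) * t⁻¹ = t * t * v * (t * t)⁻¹ := by group
      rw [e, ht2]
      simp
    have hc : c = 1 := by
      obtain ⟨x, hx⟩ : ∃ x, B u x ≠ 0 := by
        by_contra hcon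
        push Not at hcon
        exact hu (hB.nd u hcon)
      have h1 := hA.form (A u) (A x)
      rw [hAA, hAA, hA.form, hφ, hφ] at h1
      have h2 : c * c = 1 := by
        have h3 : c * c * B u x = 1 * B u x := by rw [one_mul, mul_assoc]; exact h1.symm
        exact mul_right_cancel₀ hx h3
      have h3 : (c - 1) * (c - 1) = 0 := by
        have h4 : (c - 1) * (c - 1) = (c * c - 1) + 2 * (1 - c) := by ring
        rw [h4, h2, hB.two]; ring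
      exact sub_eq_zero.1 (mul_self_eq_zero.1 h3)
    refine ⟨A, ⟨hA.add, fun a x => ?_, fun x y => ?_⟩, hAe⟩
    · rw [hA.smul, hφ, RingEquiv.refl_apply]
    · rw [hA.form, hc, hφ, RingEquiv.refl_apply]
  choose A hA hAe using hA
  obtain ⟨g, hg, hgH, hgZ, hgv⟩ := D.all_iso hKB hDK hne hR hA
  refine ⟨g, hg, hgH, ?_⟩
  refine D.red _ (mul_mem ht (inv_mem hgH)) (fun z hz => ?_) fun v hv => ?_
  · have h1 : g⁻¹ * z = z * g⁻¹ := by
      calc g⁻¹ * z = g⁻¹ * (z * g) * g⁻¹ := by group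
        _ = g⁻¹ * (g * z) * g⁻¹ := by rw [hgZ z hz]
        _ = z * g⁻¹ := by group
    rw [mul_assoc, h1, ← mul_assoc, htZ z hz, mul_assoc]
  · have h1 : g⁻¹ * v * g ∈ N := by
      have := M.nor g⁻¹ (inv_mem hgH) v hv
      rwa [inv_inv] at this
    have e1 : t * g⁻¹ * v * (t * g⁻¹)⁻¹ = t * (g⁻¹ * v * g) * t⁻¹ := by group
    have e2 : g * (g⁻¹ * v * g) * g⁻¹ = v := by group
    rw [e1]
    refine M.div_mem (M.nor t ht _ h1) hv ?_
    funext j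
    rw [hAe j _ h1, ← hgv _ h1 j, e2]

end Side

end Cfsg.Agent.Omega.NO3S.EThree
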