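import Cfsg.Agent.Omega.NO3S.EThree.TiNegY
import Cfsg.Agent.Omega.OM.SWQ.TiFour

/-!
# Row (7): `TiIn` (all stages, `q ≥ 4`)
-/

set_option autoImplicit false

namespace Cfsg.Agent.Omega.NO3S.EThree.TiInQ

open Cfsg.Agent.Omega.OM
open Cfsg.Agent.Omega.Frame (Cls)
open Cfsg.Agent.Omega.NO3S.EThree.Row7 (TiIn)
open Cfsg.Agent.Omega.NO3S.EThree.TiNeg (TiLev tiIn_of)

universe u

/-- TI or (4F) at the stages `n ≥ 0`. -/
theorem tiLev (K : Cls.{u}) : TiLev K :=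
  fun _ _ _ _ _ _ _ _ _ _ _ _ _ _ hq hj h _ => h.ti_levF hj (by omega)

/-- **`TiIn`.** -/
theorem tiIn (hFF : FFThm.Stmt.{u}) (K : Cls.{u}) : TiIn K := tiIn_of hFF (tiLev K)

end Cfsg.Agent.Omega.NO3S.EThree.TiInQ
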