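import Cfsg.Agent.Omega.NO3S.EThree.NonLocQ

/-!
# NO-3S, `V_P` a sum of `k ≥ 2` natural modules, stage `-1`: TI from `C_G(Ω₁(Z(S))) ≤ N_G(Z_J)`

* `frattini` : `N_G(ZJ) = C_G(ZJ) N_G(B)`; `norm_Z` : an element of `N_G(ZJ)` which fixes `z ∈ Z i`, `z ≠ 1`,
  normalises `Z i`;
* `cent_zc_le` : `C_G(Ω₁(Z(S))) ≤ N_G(Z_J)` implies `C_G(Ω₁(Z(T))) ≤ N_G(Z_J)` for every 2-group `T ≥ B`;
* `cent_le` : then `C_G(z) ≤ N_G(Z i)` for `1 ≠ z ∈ Z i`;
* `ti` : `Z i` is TI.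
-/

set_option autoImplicit false
set_option linter.unusedSectionVars false

namespace Cfsg.Agent.Omega.NO3S.EThree.TiNeg

open Subgroup Cfsg Cfsg.Agent.ZN.ChoiceBase
open Cfsg.Agent.ZN (jj zj bau zc zl o2)
open Cfsg.Agent.ZN.ChoiceSit (Syl exists_syl syl_conj o2_le_syl)
open Cfsg.Agent.Omega.OM Cfsg.Agent.Omega.OM.Uni
open Cfsg.Agent.Omega.NO3S (HypJ HypN Hyp HypL)
open Cfsg.Agent.Omega.NO3S.EThree.Frame
open Cfsg.Agent.Omega.MinPar (NonLoc)
open Cfsg.Agent.Omega.Node.MultiOf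
open Cfsg.Agent.Omega.NO3S.EThree.NonLocQ
open Cfsg.Agent.MinSimple.MinParabolic (IsMinPar le_of_forall)
open Cfsg.Agent.MinSimple.VModule (le_normalizer_o2 o2_isPGroup le_o2 o2_le)

universe u

variable {G : Type u} [Group G] [Finite G] {S : Sylow 2 G} {P B ZJ : Subgroup G} {ι : Type}
  {L W Z C : ι → Subgroup G} {q : ℕ}

/-- `N_G(ZJ) = C_G(ZJ) N_G(B)` -/
theorem frattini (h : Bg S P B ZJ L W Z C q) {g : G} (hg : g ∈ normalizer (ZJ : Set G)) :
    ∃ c ∈ centralizer (ZJ : Set G), ∃ n ∈ normalizer (B : Set G), g = c * n := by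
  have h1 := h.syl_B
  have hgc : cj g (centralizer (ZJ : Set G)) = centralizer (ZJ : Set G) := by
    rw [cj_centralizer, cj_eq_of_mem_normalizer hg]
  have h2 : Syl (cj g B) (centralizer (ZJ : Set G)) := by
    refine ⟨?_, isPGroup_cj g h1.2.1, fun Q hQ h3 hle => ?_⟩
    · have := cj_mono g h1.1
      rwa [hgc] at this
    · have h4 : cj g⁻¹ Q ≤ centralizer (ZJ : Set G) := by
        have := cj_mono g⁻¹ hQ
        rwa [← hgc, cj_inv_cj] at this
      have h5 := h1.2.2 (cj g⁻¹ Q) h4 (isPGroup_cj _ h3) (cj_le_iff.1 hle)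
      rw [← h5, cj_cj_inv]
  obtain ⟨x, hx, e⟩ := syl_conj h1 h2
  refine ⟨x, hx, x⁻¹ * g, ?_, by group⟩
  rw [mem_normalizer_iff_cj, ← cj_cj, ← e, cj_inv_cj]

/-- An element of `N_G(ZJ)` which fixes `z ∈ Z i`, `z ≠ 1`, normalises `Z i`. -/
theorem norm_Z (h : Bg S P B ZJ L W Z C q) [Finite ι] {g : G} (hg : g ∈ normalizer (ZJ : Set G)) {i : ι} {z : G}
    (hz : z ∈ Z i) (hz1 : z ≠ 1) (hgz : g * z = z * g) : g ∈ normalizer (Z i : Set G) := by
  obtain ⟨c, hc, n, hn, rfl⟩ := frattini h hg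
  have hcZ : c ∈ normalizer (Z i : Set G) :=
    centralizer_le_normalizer _ (centralizer_le (by exact_mod_cast h.fr.Z_le i) hc)
  refine mul_mem hcZ ?_
  obtain ⟨j, hj, -⟩ := (h.nrm n hn).2 i
  have h1 : n * z * n⁻¹ ∈ Z j := by
    rw [← hj]
    exact ⟨z, hz, rfl⟩
  have h2 : n * z * n⁻¹ = z := by
    have hnZ : n * z * n⁻¹ ∈ ZJ := h.fr.Z_le j h1
    have h3 := mem_centralizer_iff.1 hc _ hnZ
    have h4 : c * (n * z * n⁻¹) * c⁻¹ = z := by
      have : c * (n * z * n⁻¹) * c⁻¹ = (c * n) * z * (c * n)⁻¹ := by group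
      rw [this, hgz]
      group
    rw [← h3] at h4
    rwa [mul_assoc, mul_inv_cancel, mul_one] at h4
  rw [h2] at h1
  have h3 : j = i := by
    by_contra hne
    have h4 : z ∈ Z j ⊓ Z i := ⟨h1, hz⟩
    rw [h.Z_disj hne, mem_bot] at h4
    exact hz1 h4
  rw [mem_normalizer_iff_cj, hj, h3]

/-- A 2-group over `B` which fixes `z` normalises `Z i`. -/
theorem two_norm_Z (h : Bg S P B ZJ L W Z C q) [Finite ι] {T : Subgroup G} (hT : T ≤ normalizer (B : Set G))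
    {i : ι} {z : G} (hz : z ∈ Z i) (hz1 : z ≠ 1) (hTz : T ≤ centralizer ({z} : Set G)) :
    T ≤ normalizer (Z i : Set G) := fun _ ht =>
  norm_Z h (h.norm_ZJ (hT ht)) hz hz1 (mem_centralizer_singleton_iff.1 (hTz ht))

/-- `Ω₁(Z(S)) ≤ ZJ` -/
theorem zc_S_le (h : Bg S P B ZJ L W Z C q) : zc (S : Subgroup G) ≤ ZJ := by
  have hJS : ZJ ≤ (S : Subgroup G) := (h.fr.ZJV.trans h.fr.VB).trans h.BS
  intro x hx
  have h1 := mem_zc.1 hx
  have h2 : x ∈ B := h.mem_B h1.1 fun z hz => (h1.2.2 z (hJS hz)).symm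
  rw [← h.fr.zcB, mem_zc]
  exact ⟨h2, h1.2.1, fun b hb => h1.2.2 b (h.BS hb)⟩

/-- **(T1) for all `T` from (T1) for `S`.** -/
theorem cent_zc_le (h : Bg S P B ZJ L W Z C q) (hY : centralizer (zc (S : Subgroup G) : Set G) ≤ normalizer (ZJ : Set G))
    {T : Subgroup G} (hT : IsPGroup 2 T) (hB : B ≤ T) : centralizer (zc T : Set G) ≤ normalizer (ZJ : Set G) := by
  have h1 := h.le_norm_B hT hB
  obtain ⟨R', hR', hle⟩ := exists_syl hT h1
  have hS : Syl (S : Subgroup G) (normalizer (B : Set G)) :=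
    ⟨h.S_norm_B, S.isPGroup', fun _ _ hT hST => S.is_maximal' hT hST⟩
  obtain ⟨x, hx, rfl⟩ := syl_conj hS hR'
  have hxJ : cj x ZJ = ZJ := cj_eq_of_mem_normalizer (h.norm_ZJ hx)
  have hJT : ZJ ≤ T := (h.fr.ZJV.trans h.fr.VB).trans hB
  have h2 : cj x (zc (S : Subgroup G)) ≤ zc T := by
    intro y hy
    have hyJ : y ∈ ZJ := by
      rw [← hxJ]
      exact cj_mono x (zc_S_le h) hy
    rw [mem_cj] at hy
    have h3 := mem_zc.1 hy
    rw [mem_zc]
    refine ⟨hJT hyJ, ?_, fun t ht => ?_⟩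
    · exact h.fr.Vsq (h.fr.ZJV hyJ)
    · have h4 : x⁻¹ * t * x ∈ (S : Subgroup G) := mem_cj.1 (hle ht)
      have h5 := h3.2.2 _ h4
      have h6 := congrArg (fun w => x * w * x⁻¹) h5
      simpa [mul_assoc] using h6
  have h3 : centralizer (zc T : Set G) ≤ cj x (centralizer (zc (S : Subgroup G) : Set G)) := by
    rw [cj_centralizer]
    exact centralizer_le (by exact_mod_cast h2)
  refine h3.trans ((cj_mono x hY).trans ?_)
  rw [cj_normalizer, hxJ]

/-- **(T2) from (T1)**: `C_G(z) ≤ N_G(Z i)` for `1 ≠ z ∈ Z i`. -/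
theorem cent_le (h : Bg S P B ZJ L W Z C q) [Finite ι] {K : Subgroup G} (hK : LevD.LB S K B ZJ)
    (hu : BlkU B ZJ Z C q) (hb : ∀ T : Subgroup G, IsPGroup 2 T → B ≤ T → TC.OfMul.BlkS K B T)
    (hY : ∀ T : Subgroup G, IsPGroup 2 T → B ≤ T → centralizer (zc T : Set G) ≤ normalizer (ZJ : Set G))
    {i : ι} {z : G} (hz : z ∈ Z i) (hz1 : z ≠ 1) : centralizer ({z} : Set G) ≤ normalizer (Z i : Set G) := by
  have : Fact (Nat.Prime 2) := ⟨Nat.prime_two⟩
  have hzV : z ∈ zl (S : Subgroup G) P := h.fr.ZV i hz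
  have hz2 : IsPGroup 2 (zpowers z) := by
    refine h.Z_two i |>.to_le ?_
    rwa [zpowers_le]
  have hzne : zpowers z ≠ ⊥ := by rwa [Ne, zpowers_eq_bot]
  -- `H = C_G(z)` has characteristic 2
  set H : Subgroup G := centralizer ({z} : Set G) with hH
  have hHeq : H = normalizer (zpowers z : Set G) := by
    have h3 : ∀ x, x ∈ zpowers z ↔ x = 1 ∨ x = z := by
      intro x
      constructor
      · intro hx
        obtain ⟨n, rfl⟩ := mem_zpowers_iff.1 hx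
        have h3 : z ^ (2 : ℤ) = 1 := by
          have := h.fr.Vsq hzV
          exact_mod_cast this
        rcases Int.even_or_odd' n with ⟨m, hm | hm⟩
        · left; rw [hm, zpow_mul, h3, one_zpow]
        · right; rw [hm, zpow_add, zpow_mul, h3, one_zpow, one_mul, zpow_one]
      · rintro (rfl | rfl)
        · exact one_mem _
        · exact mem_zpowers x
    exact (TC.OfBg.normalizer_eq h3 hz1).symm
  have hc2 : H ⊓ centralizer (o2 H : Set G) ≤ o2 H := by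
    rw [hHeq]
    exact MinSimple.Basic.char2_normalizer h.hyp.toHyp.ctx.char2 hz2 hzne
  have hBH : B ≤ H := fun b hb => mem_centralizer_singleton_iff.2 ((h.fr.blk i).cZ b hb z hz)
  obtain ⟨T, hT, hBT⟩ := exists_syl h.bau_two hBH
  have hTB : T ≤ normalizer (B : Set G) := h.le_norm_B hT.2.1 hBT
  have hfix : ∀ g ∈ H, g * z = z * g := fun g hg => mem_centralizer_singleton_iff.1 hg
  refine le_of_forall (S := T) hT.1 ?_ fun R hR hRH => ?_
  · -- `N_H(T) ≤ N_G(B)`: `B` is weakly closed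
    rintro g ⟨hgH, hgT⟩
    have hgB : g ∈ normalizer (B : Set G) := by
      rw [mem_normalizer_iff_cj]
      refine h.wc T hT.2.1 hBT g ?_
      have := cj_mono g hBT
      rwa [cj_eq_of_mem_normalizer hgT] at this
    exact norm_Z h (h.norm_ZJ hgB) hz hz1 (hfix g hgH)
  · have hsyl : Syl T R := ⟨hR.le, hT.2.1, fun Q hQ h2 hTQ => hT.2.2 Q (hQ.trans hRH) h2 hTQ⟩
    have hcR : R ⊓ centralizer (o2 R : Set G) ≤ o2 R := by
      have h4 : o2 H ≤ o2 R :=
        le_o2 ((o2_le_syl hT).trans hR.le) (o2_isPGroup _) (hRH.trans (le_normalizer_o2 _))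
      rintro x ⟨hx, hxc⟩
      exact h4 (hc2 ⟨hRH hx, centralizer_le (by exact_mod_cast h4) hxc⟩)
    by_cases hKR : K ≤ o2 R
    · have h1 : R ≤ normalizer (ZJ : Set G) := (le_normalizer_o2 R).trans (hK.nrm _ (o2_isPGroup R) hKR)
      exact fun g hg => norm_Z h (h1 hg) hz hz1 (hfix g (hRH hg))
    by_cases hZR : R ≤ centralizer (zc T : Set G)
    · have h1 : R ≤ normalizer (ZJ : Set G) := hZR.trans (hY T hT.2.1 hBT)
      exact fun g hg => norm_Z h (h1 hg) hz hz1 (hfix g (hRH hg))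
    obtain ⟨L', V', hbl, h1, h2⟩ := hb T hT.2.1 hBT R hR hsyl hcR hKR hZR
    refine h2.trans (sup_le ?_ (two_norm_Z h hTB hz hz1 hT.1))
    obtain ⟨j, h3, h4⟩ := hu L' V' hbl
    have hji : j ≠ i := by
      rintro rfl
      have h5 : z ∈ C j := (h4 z (h.fr.Z_le j hz)).2 fun l hl => hfix l (hRH (h1 hl))
      have h6 : z ∈ W j ⊓ C j := ⟨(h.fr.blk j).ZV hz, h5⟩
      rw [h.fr.dir j, mem_bot] at h6
      exact hz1 h6
    refine le_trans (fun l hl => mem_centralizer_iff.2 fun y hy => ?_) (centralizer_le_normalizer _)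
    exact ((h4 y (h.fr.Z_le i hy)).1 (h.fr.WjC j i hji ((h.fr.blk i).ZV hy)) l hl).symm

/-- `TI` from the centralisers. -/
theorem ti_of_cent (h : Bg S P B ZJ L W Z C q) {i : ι}
    (hc : ∀ z ∈ Z i, z ≠ 1 → centralizer ({z} : Set G) ≤ normalizer (Z i : Set G)) : TI (Z i) := by
  intro g hg
  obtain ⟨x, hx, hx1⟩ : ∃ x ∈ cj g (Z i) ⊓ Z i, x ≠ 1 := by
    by_contra hcon
    push Not at hcon
    exact hg ((eq_bot_iff_forall _).2 hcon)
  obtain ⟨⟨y, hy, e⟩, hxZ⟩ := hx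
  have e' : g * y * g⁻¹ = x := e
  have hy1 : y ≠ 1 := by
    rintro rfl
    exact hx1 (by rw [← e']; group)
  obtain ⟨t, htL, htB, ht⟩ := h.tor i hy hy1 hxZ hx1
  have htZ : t ∈ normalizer (Z i : Set G) := by
    rw [mem_normalizer_iff_cj]
    refine Subgroup.eq_of_le_of_card_ge ?_ (by rw [card_cj])
    rintro _ ⟨v, hv, rfl⟩
    exact h.L_inf_norm i htL htB hv
  have h1 : g * t⁻¹ ∈ normalizer (Z i : Set G) := by
    refine hc x hxZ hx1 (mem_centralizer_singleton_iff.2 ?_)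
    have h2 : g * t⁻¹ * x * (g * t⁻¹)⁻¹ = x := by
      rw [← ht]
      have : g * t⁻¹ * (t * y * t⁻¹) * (g * t⁻¹)⁻¹ = g * y * g⁻¹ := by group
      rw [this, e', ht]
    exact mul_inv_eq_iff_eq_mul.1 h2
  have h3 := mul_mem h1 htZ
  rw [inv_mul_cancel_right] at h3
  exact mem_normalizer_iff_cj.1 h3

end Cfsg.Agent.Omega.NO3S.EThree.TiNeg
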