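import Cfsg.Agent.Omega.NO3S.EThree.UInOf

/-!
# Row (7): `uIn`, `nrIn` are in `UInOf.lean` (helper381)

This file is kept only so that an `import` of it works.
-/
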