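import Cfsg.Agent.Omega.NO3S.EThree.NrIn
import Cfsg.Agent.Omega.NO3S.EThree.DoneQ
import Cfsg.Agent.Omega.EK3.Q.OfMul
import Cfsg.Agent.Omega.KL.QF.OfLev

/-!
# UNI, weak form, for the data of row (7) (`k = 2`, `q ≥ 4`), every stage, no hypothesis

* `MQ.uni` : `T ≥ B` Sylow in `C(Z i)`, `R` minimal over `T` in `C(Z i)`, `R ≰ N(Z j)` : `R ≤ N(W j)`;
* `MQ.uniQ : UniQ Z W B`, `MQ.doneQ` : LEMMA 0 + STEP F for both `i`;
* **`uIn : UIn K`**, **`nrIn : NrIn K`**.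
-/

set_option autoImplicit false
set_option linter.unusedSectionVars false

namespace Cfsg.Agent.Omega.NO3S.EThree.Row7

open Subgroup Cfsg Cfsg.Agent.ZN.ChoiceBase
open Cfsg.Agent.ZN (jj zj bau zc zl o2)
open Cfsg.Agent.ZN.ChoiceSit (Syl)
open Cfsg.Agent.Omega.OM
open Cfsg.Agent.Omega.OM.PG (NN HH)
open Cfsg.Agent.Omega.NO3S.EThree
open Cfsg.Agent.Omega.NO3S.EThree.Frame
open Cfsg.Agent.Omega.MinPar (NonLoc)
open Cfsg.Agent.Omega.Frame (Cls)
open Cfsg.Agent.Omega.Node.MultiOf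
open Cfsg.Agent.MinSimple.MinParabolic (IsMinPar)
open Cfsg.Agent.MinSimple.VModule (le_normalizer_o2 o2_isPGroup)
open Cfsg.Agent.Omega.KL.QF Cfsg.Agent.Omega.KL.QF.PtV
open Cfsg.Agent.Omega.KL.QF.OfLev (char2 nor_Zj)
open scoped Pointwise

universe u

variable {G : Type u} [Group G]

namespace MQ

variable [Finite G] {S : Sylow 2 G} {P K' B ZJ : Subgroup G} {L W Z C : Fin 2 → Subgroup G} {q : ℕ}

/-- a 2-group over `B` which centralises `Z i` normalises `Z j` and `W j` -/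
theorem T_nor (h : MQ S P K' B ZJ L W Z C q) {i j : Fin 2} (hij : i ≠ j) {T : Subgroup G} (hT2 : IsPGroup 2 T)
    (hBT : B ≤ T) (hTi : T ≤ centralizer (Z i : Set G)) :
    T ≤ normalizer (Z j : Set G) ∧ T ≤ normalizer (W j : Set G) := by
  have key : ∀ t ∈ T, cj t (W j) = W j ∧ cj t (Z j) = Z j := by
    intro t ht
    obtain ⟨σ, hσ⟩ := h.bg.perm_W (h.bg.le_norm_B hT2 hBT ht)
    have h0 : cj t (Z i) = Z i := mem_normalizer_iff_cj.1 (centralizer_le_normalizer _ (hTi ht))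
    have hσi : σ i = i := h.bg.Z_inj ((hσ i).2.symm.trans h0)
    have hσj : σ j = j := by
      have hne : σ j ≠ i := fun e => hij (σ.injective (hσi.trans e.symm))
      have h3 : ∀ a b c : Fin 2, a ≠ b → c ≠ a → c = b := by decide
      exact h3 i j (σ j) hij hne
    have h4 := hσ j
    rwa [hσj] at h4
  exact ⟨fun t ht => mem_normalizer_iff_cj.2 (key t ht).2, fun t ht => mem_normalizer_iff_cj.2 (key t ht).1⟩

/-- the partner of `i` -/
theorem exists_pa' (h : MQ S P K' B ZJ L W Z C q) {i j : Fin 2} (hij : i ≠ j) : ∃ s, Pa (S : Subgroup G) W i j s := by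
  obtain ⟨l, s, p⟩ := h.bg.exists_partner i
  have h3 : ∀ a b c : Fin 2, a ≠ b → a ≠ c → c = b := by decide
  have e : l = j := h3 i j l hij p.ne
  subst e
  exact ⟨s, p⟩

/-- **UNI, weak form.** -/
theorem uni (h : MQ S P K' B ZJ L W Z C q) {i j : Fin 2} (hij : i ≠ j) {T : Subgroup G} (hBT : B ≤ T)
    (hT : Syl T (centralizer (Z i : Set G))) {R : Subgroup G} (hR : IsMinPar T R)
    (hRC : R ≤ centralizer (Z i : Set G)) (hne : ¬ R ≤ normalizer (Z j : Set G)) :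
    R ≤ normalizer (W j : Set G) := by
  obtain ⟨s, p⟩ := h.exists_pa' hij
  have h2 : ∀ l : Fin 2, l = i ∨ l = j := by
    have h3 : ∀ a b : Fin 2, a ≠ b → ∀ l : Fin 2, l = a ∨ l = b := by decide
    exact h3 i j hij
  have hq2 : 2 < q := lt_of_lt_of_le (by decide) h.hq
  obtain ⟨hTZ, hTW⟩ := h.T_nor hij hT.2.1 hBT hT.1
  have hTR : Syl T R := ⟨hR.le, hT.2.1, fun Q hQ h3 hle => hT.2.2 Q (hQ.trans hRC) h3 hle⟩
  have hc := char2 h.bg (i := i) (hBT.trans hR.le) hRC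
  -- `R` moves `Ω₁Z(T)`
  have hZT : Z j ≤ T := ((h.bg.fr.blk j).ZV.trans (W_le_B h.bg j)).trans hBT
  have hZne : ¬ Z j ≤ (⊥ : Subgroup G) := fun e => h.bg.Z_ne j (le_bot_iff.1 e)
  obtain ⟨x, hx, hx1, hfix⟩ := exists_fix_mod (X := T) (T := Z j) (K := ⊥) hT.2.1 hZT hTZ (fun t _ => by
    rw [mem_normalizer_iff]
    intro y
    simp only [mem_bot]
    exact (conj_eq_one_iff).symm) hZne
  have hx1' : x ≠ 1 := fun e => hx1 (by rw [e]; exact one_mem _)
  have hxT : x ∈ zc T := mem_zc.2 ⟨hZT hx, h.bg.fr.Vsq (h.bg.fr.ZV j hx), fun t ht => by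
    have h3 := hfix t ht
    rw [mem_bot] at h3
    exact mul_inv_eq_iff_eq_mul.1 (mul_inv_eq_one.1 h3)⟩
  have hZ : ¬ R ≤ centralizer (zc T : Set G) := by
    intro hcR
    apply hne
    intro r hr
    refine mem_normalizer_iff_cj.2
      (OfBg.ti h.bg (h.ti i) (i := i) (j := j) (x := x) ((OfBg.ptj h.bg p).conj r) (OfBg.ptj h.bg p) ?_ hx hx1')
    rw [mem_cj]
    have h3 := mem_centralizer_iff.1 (hcR hr) x hxT
    have e : r⁻¹ * x * r = x := by rw [mul_assoc, h3]; group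
    rwa [e]
  have hK : ¬ K' ≤ o2 R := fun h1 => hne (nor_Zj h.bg p h2 (h.ti i) hRC
    ((le_normalizer_o2 R).trans (h.mul.lb.nrm _ (o2_isPGroup R) h1)))
  obtain ⟨L', V', hb, hLR, hRL⟩ := EK3.Q.OfMul.blk_mul h.mul le_rfl hq2 hBT R hR hTR hc hK hZ
  obtain ⟨l, rfl, -⟩ := EK3.Q.OfMul.uni_mul h.mul le_rfl hq2 L' V' hb
  obtain ⟨m, h7, -⟩ := NonLocQ.blkU_of le_rfl h.mul L' (W l) hb
  have hN : UniPlus.NB B L' (W l) (Z m) q := ⟨h7, h.bg.fr.cardZ m⟩
  have hm : m = j := by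
    rcases h2 m with rfl | rfl
    · exfalso
      apply h.bg.Z_ne m
      rw [eq_bot_iff]
      intro z hz
      exact mem_bot.2 (hN.cent hz fun x hx => (mem_centralizer_iff.1 (hRC (hLR hx)) z hz).symm)
    · rfl
  subst hm
  have hl : l = m := by
    by_contra hlm
    apply h.bg.Z_ne m
    rw [eq_bot_iff, ← h.bg.W_disj hlm]
    exact le_inf hN.ZV (h.bg.fr.blk m).ZV
  subst hl
  refine hRL.trans (sup_le (fun x hx => ?_) hTW)
  refine mem_normalizer_of_cj_le ?_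
  rintro _ ⟨v, hv, rfl⟩
  exact hN.nV x hx v hv

theorem uni0 (h : MQ S P K' B ZJ L W Z C q) : DoneU.Uni0 Z W B := fun _ hBT hT _ hR hRC hne =>
  h.uni (by decide) hBT hT hR hRC hne

theorem uniQ (h : MQ S P K' B ZJ L W Z C q) : UniQ Z W B := fun i _ hij =>
  ⟨(S : Subgroup G) ⊓ centralizer (Z i : Set G), B_le_T h.bg i, syl_T h.bg i, fun _ hR hRC hne =>
    h.uni hij (B_le_T h.bg i) (syl_T h.bg i) hR hRC hne⟩

/-- **LEMMA 0 and STEP F for both `i`.** -/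
theorem doneQ (h : MQ S P K' B ZJ L W Z C q) (i : Fin 2) {K : Subgroup G} (hKC : K ≤ centralizer (Z i : Set G))
    (hN : normalizer (Z i : Set G) ≤ normalizer (K : Set G))
    (hmv : ∃ x ∈ K, IsPGroup 2 (zpowers x) ∧ x ∉ centralizer (NN Z (Z i) : Set G)) :
    ¬ K ≤ normalizer (W i : Set G) := h.fq.done h.bg.wc h.uniQ hKC hN hmv

end MQ

/-- **UNI, weak form, for row (7).** -/
theorem uIn {K : Cls.{u}} : UIn K := fun _ _ _ _ _ _ _ _ _ _ _ _ _ _ h => h.uni0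

/-- **No radical, row (7).** -/
theorem nrIn {K : Cls.{u}} : NrIn K := nrIn_of uIn

end Cfsg.Agent.Omega.NO3S.EThree.Row7
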